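import Cfsg.Agent.Lib.O8Standard.Cover
import Cfsg.Agent.Lib.AutPOmega.Field
import Cfsg.Agent.Lib.Triality.Aut

/-!
# Automorphisms of the double cover

* `qM` : reduction of `M1` onto O8+(2)
* `exists_W_conj` : every automorphism of `M1` is conjugation by an element of `W`
-/

set_option autoImplicit false

namespace Cfsg.Agent.O8Standard

open Cfsg.Agent.Multiplier Cfsg.Agent.Triality Cfsg.Agent.Orth Cfsg.Agent.AutPOmega Matrix
open scoped commutatorElement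

theorem isom_M1 {u : O8.Z8ˣ} (hu : u ∈ M1) : (u : O8.Z8)ᵀ * gM * (u : O8.Z8) = gM := isom u (M1_le hu)

/-- Reduction of `M1` onto O8+(2). -/
noncomputable def qM : ↥M1 →* O8.G0 :=
  (MonoidHom.ofInjective O8.incl_injective).symm.toMonoidHom.comp
    ((O8.red.comp M1.subtype).codRestrict O8.incl.range fun m => by
      obtain ⟨x, hx⟩ := mem_M1.1 m.2
      show O8.red (m : O8.Z8ˣ) ∈ _
      rw [← hx]
      exact O8.red_mem_range x.1 x.2)

theorem incl_qM (m : ↥M1) : O8.incl (qM m) = O8.red (m : O8.Z8ˣ) :=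
  congrArg Subtype.val ((MonoidHom.ofInjective O8.incl_injective).apply_symm_apply ⟨O8.red (m : O8.Z8ˣ), _⟩)

theorem qM_surjective : Function.Surjective qM := fun g => by
  obtain ⟨x, hx⟩ := O8.covMap_surjective g
  exact ⟨⟨x.1.1, mem_M1.2 ⟨x, rfl⟩⟩, O8.incl_injective (by rw [incl_qM, ← O8.incl_covMap, hx])⟩

theorem qM_eq_one {m : ↥M1} (h : qM m = 1) : (m : O8.Z8ˣ) = 1 ∨ (m : O8.Z8ˣ) = -1 :=
  O8.eq_one_or_neg_of_red (isom_M1 m.2) (by rw [← incl_qM, h, map_one])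

theorem center_G0 : Subgroup.center O8.G0 = ⊥ :=
  center_omega_eq_bot base4.nd (by simp) base4.hE (.inr (by decide))

theorem qM_ker : qM.ker = Subgroup.center ↥M1 := by
  refine le_antisymm (fun m hm => Subgroup.mem_center_iff.2 fun g => Subtype.ext ?_) fun m hm => ?_
  · rcases qM_eq_one (MonoidHom.mem_ker.1 hm) with e | e <;>
      simp [Subgroup.coe_mul, e]
  · rw [MonoidHom.mem_ker, ← Subgroup.mem_bot, ← center_G0]
    refine Subgroup.mem_center_iff.2 fun g => ?_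
    obtain ⟨n, rfl⟩ := qM_surjective g
    rw [← map_mul, ← map_mul, Subgroup.mem_center_iff.1 hm n]

theorem commutator_M1 : commutator ↥M1 = ⊤ := by
  let p : ↥O8.cov →* ↥M1 := ((MonoidHom.fst _ _).comp O8.cov.subtype).codRestrict M1
    fun x => mem_M1.2 ⟨x, rfl⟩
  have hps : Function.Surjective p := fun m => by
    obtain ⟨x, hx⟩ := mem_M1.1 m.2
    exact ⟨x, Subtype.ext hx⟩
  rw [commutator_def (G := ↥M1), ← Subgroup.map_top_of_surjective p hps, ← Subgroup.map_commutator,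
    ← commutator_def, commutator_cov]

/-- The automorphism of the quotient induced by one of `M1`. -/
noncomputable def autBar (α : MulAut ↥M1) : MulAut O8.G0 :=
  let e : ↥M1 ⧸ qM.ker ≃* O8.G0 := QuotientGroup.quotientKerEquivOfSurjective qM qM_surjective
  e.symm.trans ((QuotientGroup.congr qM.ker qM.ker α (by
    rw [qM_ker]; exact Subgroup.characteristic_iff_map_eq.1 inferInstance α)).trans e)

theorem autBar_qM (α : MulAut ↥M1) (m : ↥M1) : autBar α (qM m) = qM (α m) := by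
  have h : (QuotientGroup.quotientKerEquivOfSurjective qM qM_surjective).symm (qM m) =
      (m : ↥M1 ⧸ qM.ker) := by
    rw [MulEquiv.symm_apply_eq]; rfl
  simp only [autBar, MulEquiv.trans_apply, h]
  rfl

theorem toSim_of_semi {g : GL IJ (ZMod 2)} {σ : ZMod 2 ≃+* ZMod 2}
    (hs : Cfsg.IsSemisimilarityPair ⇑(Q4 (ZMod 2)) g σ) :
    ∃ o : O8.Iso8, semiAut (Q4 (ZMod 2)) hs = OrthOuter.conjAut (Q4 (ZMod 2)) (OrthOuter.toSim _ o) := by
  have hσ : σ = 1 := RingEquiv.ext fun x => by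
    rcases (show ∀ x : ZMod 2, x = 0 ∨ x = 1 by decide) x with rfl | rfl <;> simp
  subst hσ
  rw [semiAut_one_eq hs]
  obtain ⟨c, hc⟩ := id hs
  have hc1 : (c : ZMod 2) = 1 := by
    rcases (show ∀ x : ZMod 2, x = 0 ∨ x = 1 by decide) c with h | h
    · exact absurd h c.ne_zero
    · exact h
  refine ⟨⟨g, fun v _ => ?_⟩, congrArg _ (Subtype.ext rfl)⟩
  have h := hc v
  rw [hc1, one_mul] at h
  exact h

/-- Conjugation by an isometry, on O8+(2). -/
theorem conjAut_toP (o : O8.Iso8) (g : O8.G0) :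
    ∃ g' : O8.G0, OrthOuter.conjAut (Q4 (ZMod 2)) (OrthOuter.toSim _ o) (O8.toP g) = O8.toP g' ∧
      O8.incl g' = (o : GL IJ (ZMod 2)) * O8.incl g * (o : GL IJ (ZMod 2))⁻¹ := by
  refine ⟨⟨OrthOuter.isoConj (Q4 (ZMod 2)) (OrthOuter.toSim _ o) g, isoConj_mem_omega _ g.2⟩, ?_, rfl⟩
  rw [O8.toP_eq, conjAut_om _ g.2, O8.toP_eq]

theorem mem_W_conj {w : O8.Z8ˣ} (hw : w ∈ W) {m : O8.Z8ˣ} (hm : m ∈ M1) : w * m * w⁻¹ ∈ M1 :=
  conj_mem_M1 hw hm

theorem incl_red_conj (w : ↥W) (o : O8.Iso8) (h : redI w = o) :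
    (o : GL IJ (ZMod 2)) = O8.red (w : O8.Z8ˣ) := by rw [← h, redI_val]

/-- Every automorphism of `M1` is conjugation by an element of `W`. -/
theorem exists_W_conj (α : MulAut ↥M1) :
    ∃ w ∈ W, ∀ m : ↥M1, ((α m : ↥M1) : O8.Z8ˣ) = w * m * w⁻¹ := by
  set β : MulAut (Cfsg.POmega (ZMod 2) ⇑(Q4 (ZMod 2))) :=
    O8.toP.symm.trans ((autBar α).trans O8.toP) with hβ
  have hβq : ∀ m : ↥M1, β (O8.toP (qM m)) = O8.toP (qM (α m)) := fun m => by
    simp [hβ, autBar_qM]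
  rcases aut_cases β with ⟨g, σ, hs, e⟩ | ⟨x, g, σ, hs, e⟩
  · obtain ⟨o, ho⟩ := toSim_of_semi hs
    obtain ⟨w, hw⟩ := redI_surjective o
    refine ⟨w, w.2, hom_eq_of_red commutator_M1 (M1.subtype.comp α.toMonoidHom)
      ((MulAut.conj (w : O8.Z8ˣ)).toMonoidHom.comp M1.subtype) (fun m => isom_M1 (α m).2)
      (fun m => isom_M1 (mem_W_conj w.2 m.2)) fun m => ?_⟩
    obtain ⟨g', hg1, hg2⟩ := conjAut_toP o (qM m)
    have h1 : O8.toP (qM (α m)) = O8.toP g' := by rw [← hβq, e, ho, hg1]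
    show O8.red ((α m : ↥M1) : O8.Z8ˣ) = O8.red ((w : O8.Z8ˣ) * m * (w : O8.Z8ˣ)⁻¹)
    rw [← incl_qM, O8.toP.injective h1, hg2, map_mul, map_mul, map_inv, incl_red_conj w o hw, incl_qM]
  · -- triality does not lift
    exfalso
    obtain ⟨o2, ho2⟩ := toSim_of_semi hs
    obtain ⟨c, hc⟩ := id x.2
    have hc1 : (c : ZMod 2) = 1 := by
      rcases (show ∀ x : ZMod 2, x = 0 ∨ x = 1 by decide) c with h | h
      · exact absurd h c.ne_zero
      · exact h
    let o1 : O8.Iso8 := ⟨(x : GL IJ (ZMod 2)), fun v _ => by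
      have h := hc v
      rw [hc1, one_mul] at h
      exact h⟩
    have hx : x = OrthOuter.toSim _ o1 := Subtype.ext rfl
    obtain ⟨w1, hw1⟩ := redI_surjective o1
    obtain ⟨w2, hw2⟩ := redI_surjective o2
    have hin : ∀ m : ↥M1, (w2 : O8.Z8ˣ)⁻¹ * m * (w2 : O8.Z8ˣ) ∈ M1 := fun m => by
      have := mem_W_conj (inv_mem w2.2) m.2
      rwa [inv_inv] at this
    let p : ↥O8.cov →* ↥M1 := ((MonoidHom.fst _ _).comp O8.cov.subtype).codRestrict M1
      fun y => mem_M1.2 ⟨y, rfl⟩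
    let c2 : ↥M1 →* ↥M1 := ((MulAut.conj ((w2 : O8.Z8ˣ)⁻¹)).toMonoidHom.comp M1.subtype).codRestrict M1
      fun m => mem_W_conj (inv_mem w2.2) m.2
    let f : ↥O8.cov →* O8.Z8ˣ := (MulAut.conj ((w1 : O8.Z8ˣ)⁻¹)).toMonoidHom.comp
      (M1.subtype.comp (α.toMonoidHom.comp (c2.comp p)))
    have hf : ∀ y : ↥O8.cov, f y = y.1.2 := by
      refine hom_eq_of_red commutator_cov f ((MonoidHom.snd _ _).comp O8.cov.subtype)
        (fun y => isom_M1 (mem_W_conj (inv_mem w1.2) (α (c2 (p y))).2))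
        (fun y => (O8.isom_of_mem _ y.2).2) fun y => ?_
      obtain ⟨t, ht1, ht2⟩ := O8.red_snd y.1 y.2
      obtain ⟨g', hg1, hg2⟩ := conjAut_toP o2 (qM (c2 (p y)))
      have hg' : g' = t := O8.incl_injective (by
        rw [hg2, incl_qM, incl_red_conj w2 o2 hw2]
        show O8.red (w2 : O8.Z8ˣ) * O8.red ((w2 : O8.Z8ˣ)⁻¹ * y.1.1 * ((w2 : O8.Z8ˣ)⁻¹)⁻¹) * _ = _
        simp only [map_mul, map_inv, inv_inv]
        rw [ht1]
        group)
      obtain ⟨g'', hk1, hk2⟩ := conjAut_toP o1 (O8.tau t)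
      have h1 : O8.toP (qM (α (c2 (p y)))) = O8.toP g'' := by
        rw [← hβq, e, MulAut.mul_apply, MulAut.mul_apply, ho2, hg1, hg', ← hk1, ← tauE_eq, hx]
        congr 1
        exact (O8.toP.apply_symm_apply _).symm
      show O8.red ((w1 : O8.Z8ˣ)⁻¹ * ((α (c2 (p y)) : ↥M1) : O8.Z8ˣ) * ((w1 : O8.Z8ˣ)⁻¹)⁻¹) = O8.red y.1.2
      simp only [map_mul, map_inv, inv_inv]
      rw [← ht2, ← incl_qM, O8.toP.injective h1, hk2,
        incl_red_conj w1 o1 hw1]
      group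
    have hb := hf (O8.c2el * O8.c3el)
    have hp : p (O8.c2el * O8.c3el) = 1 := Subtype.ext (congrArg Prod.fst val_c23)
    have h1 : f (O8.c2el * O8.c3el) = 1 := by
      simp only [f, MonoidHom.comp_apply, hp, map_one]
    rw [h1, val_c23] at hb
    exact O8.neg_one_ne_one hb.symm

end Cfsg.Agent.O8Standard
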