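import Cfsg.Agent.Lib.O8Standard.Words

/-!
# Elements of `W` centralising `M1`, and signs of representatives

* `eq_one_or_neg_of_comm` : such an element is `1` or `-1`
* `neg_conj` : the two classes of four reflections are closed under negation
-/

set_option autoImplicit false
set_option maxRecDepth 100000

namespace Cfsg.Agent.O8Standard

open Cfsg.Agent.Multiplier

/-- Two simple roots orthogonal to each simple root. -/
def twoOrth : List (ℕ × ℕ) := [(2, 3), (3, 4), (0, 4), (0, 1), (0, 1), (0, 1), (0, 1), (0, 1)]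

theorem twoOrth_ok : (allLt 8 fun a =>
    let w1 := [a, (twoOrth.getD a (0, 0)).1]
    let w2 := [a, (twoOrth.getD a (0, 0)).2]
    evenW w1 && evenW w2 && Nat.beq (evR w1 a) (negN a) && Nat.beq (evR w2 a) (negN a) &&
      allLt 240 fun x => !(Nat.beq (evR w1 x) (negN x) && Nat.beq (evR w2 x) (negN x)) ||
        Nat.beq x a || Nat.beq x (negN a)) = true := by
  decide +kernel

/-- An element of `W` centralising `M1` is `1` or `-1`. -/
theorem eq_one_or_neg_of_comm {w : O8.Z8ˣ} (hw : w ∈ W) (h : ∀ u ∈ M1, w * u = u * w) :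
    w = 1 ∨ w = -1 := by
  have hline : ∀ a < 8, img w a = a ∨ img w a = negN a := by
    intro a ha
    have ha' : a < 240 := by omega
    have hh := allLt_spec twoOrth_ok a ha
    simp only [Bool.and_eq_true, Nat.beq_eq] at hh
    obtain ⟨⟨⟨⟨h1, h2⟩, e1⟩, e2⟩, hall⟩ := hh
    have hok : ∀ {l : List ℕ}, evenW l = true → ∀ k ∈ l, k < 240 := fun {l} hl => by
      simp only [evenW, Bool.and_eq_true] at hl
      exact okW_spec hl.1
    have key : ∀ {l : List ℕ}, evenW l = true → evR l a = negN a → evR l (img w a) = negN (img w a) := by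
      intro l hl e
      rw [← img_rprod (hok hl) (img_lt hw ha'), ← img_mul (rprod_mem (hok hl)) hw ha', ← h _ (M1_of_even hl),
        img_mul hw (rprod_mem (hok hl)) ha', img_rprod (hok hl) ha', e, img_negN hw ha']
    have h3 := allLt_spec hall _ (img_lt hw ha')
    rw [key h1 e1, key h2 e2] at h3
    simpa using h3
  refine O8.eq_one_or_neg_of_red (isom w hw) ?_
  have hev : ∀ a < 8, ∀ i : Fin 8, (((w : O8.Z8).mulVec (rv a)) i : ZMod 2) = (rv a i : ZMod 2) := by
    intro a ha i
    rw [(img_spec hw (show a < 240 by omega)).2]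
    rcases hline a ha with e | e <;> rw [e]
    rw [rv_negN (by omega), Pi.neg_apply, Int.cast_neg, ZMod.neg_eq_self_mod_two]
  have hmat : ((w : O8.Z8) * O8.toZ O8Data.roots).map (Int.castRingHom (ZMod 2)) =
      (O8.toZ O8Data.roots).map (Int.castRingHom (ZMod 2)) := by
    ext i j
    have e1 := hev j j.2 i
    have e2 : ∀ i : Fin 8, rv j i = O8.toZ O8Data.roots i j := fun i => simple_cols i j
    simp only [Matrix.map_apply, Matrix.mul_apply, eq_intCast]
    simp only [Matrix.mulVec, dotProduct, e2] at e1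
    exact e1
  have hw1 : (w : O8.Z8).map (Int.castRingHom (ZMod 2)) = 1 := by
    have e := congrArg (fun M : Matrix (Fin 8) (Fin 8) (ZMod 2) =>
      M * (O8.toZ O8Data.rootsInv).map (Int.castRingHom (ZMod 2))) hmat
    simp only [← Matrix.map_mul, Matrix.mul_assoc, O8.roots_facts.1, mul_one] at e
    rw [e, Matrix.map_one] <;> simp
  refine Units.ext (Matrix.ext fun r c => ?_)
  rw [O8.red_apply]
  have := congrFun (congrFun hw1 (O8.e8 r)) (O8.e8 c)
  simp only [Matrix.map_apply, eq_intCast] at this
  rw [this, Units.val_one, Matrix.one_apply, Matrix.one_apply]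
  simp

theorem negDE_ok : (eqW ([161, 35, 234, 13, 16, 1, 90] ++ (FR ++ bD)) (bD ++ [161, 35, 234, 13, 16, 1, 90]) &&
    eqW ([111, 6, 224, 13, 124, 27, 91] ++ (FR ++ bE)) (bE ++ [111, 6, 224, 13, 124, 27, 91])) = true := by
  decide +kernel

/-- The classes of four reflections are closed under negation. -/
theorem neg_conj {b : List ℕ} (hb : b ∈ [bD, bE]) : ∃ v ∈ W, v * -rprod b * v⁻¹ = rprod b := by
  have h := negDE_ok
  simp only [Bool.and_eq_true] at h
  simp only [List.mem_cons, List.not_mem_nil, or_false] at hb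
  rcases hb with rfl | rfl
  · exact ⟨_, W_of_ok (l := [161, 35, 234, 13, 16, 1, 90]) (by decide +kernel), by
      rw [← neg_one_mul, ← rprod_FR, ← rprod_append]; exact conj_eq_of_eqW h.1⟩
  · exact ⟨_, W_of_ok (l := [111, 6, 224, 13, 124, 27, 91]) (by decide +kernel), by
      rw [← neg_one_mul, ← rprod_FR, ← rprod_append]; exact conj_eq_of_eqW h.2⟩

end Cfsg.Agent.O8Standard
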