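import Cfsg.Agent.Lib.O8Standard.Sub
import Cfsg.Agent.Lib.CentralExt.Basic
import Cfsg.Agent.S2098

/-!
# Double covers of O8+(2)

* `exists_cover_hom` : the fourfold cover maps onto every stem extension
* `tl` : the lift of triality
* `exists_iso_M1` : every double cover is isomorphic to `M1`
-/

set_option autoImplicit false
set_option maxRecDepth 100000

namespace Cfsg.Agent.O8Standard

open Cfsg.Agent.Multiplier Cfsg.Agent.Triality Cfsg.Agent.BitMat Matrix
open scoped commutatorElement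

universe u

instance : Finite O8.G0 := inferInstance

theorem ker_covMap_finite : Finite O8.covMap.ker :=
  Finite.of_surjective (fun i : Fin 4 => (![⟨1, one_mem _⟩, ⟨O8.c2el, O8.gens_mem_ker.1⟩,
      ⟨O8.c3el, O8.gens_mem_ker.2⟩, ⟨O8.c2el * O8.c3el, mul_mem (show O8.c2el ∈ O8.covMap.ker from O8.gens_mem_ker.1) O8.gens_mem_ker.2⟩] :
        Fin 4 → O8.covMap.ker) i) (by
    rintro ⟨x, hx⟩
    rcases O8.kernel_elems (MonoidHom.mem_ker.1 hx) with rfl | rfl | rfl | rfl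
    exacts [⟨0, rfl⟩, ⟨1, rfl⟩, ⟨2, rfl⟩, ⟨3, rfl⟩])

instance finite_cov : Finite ↥O8.cov := by
  haveI := ker_covMap_finite
  haveI : Finite (↥O8.cov ⧸ O8.covMap.ker) :=
    Finite.of_injective (QuotientGroup.kerLift O8.covMap) (QuotientGroup.kerLift_injective O8.covMap)
  exact Finite.of_equiv _ (Subgroup.groupEquivQuotientProdSubgroup (s := O8.covMap.ker)).symm

theorem val_c2el : (O8.c2el : O8.Z8ˣ × O8.Z8ˣ) = (-1, 1) := O8.commutator_pairs.1

theorem val_c3el : (O8.c3el : O8.Z8ˣ × O8.Z8ˣ) = (-1, -1) := O8.commutator_pairs.2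

theorem val_c23 : ((O8.c2el * O8.c3el : ↥O8.cov) : O8.Z8ˣ × O8.Z8ˣ) = (1, -1) := by
  rw [Subgroup.coe_mul, val_c2el, val_c3el]
  simp

theorem four_le_ker : 4 ≤ Nat.card O8.covMap.ker := by
  haveI := ker_covMap_finite
  have hne := O8.neg_one_ne_one
  let f : Bool × Bool → O8.covMap.ker := fun q =>
    (if q.1 then ⟨O8.c2el, O8.gens_mem_ker.1⟩ else 1) * (if q.2 then ⟨O8.c3el, O8.gens_mem_ker.2⟩ else 1)
  have hf : Function.Injective f := by
    intro p q h
    have h' := congrArg (fun z : O8.covMap.ker => ((z : ↥O8.cov) : O8.Z8ˣ × O8.Z8ˣ)) h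
    rcases p with ⟨_ | _, _ | _⟩ <;> rcases q with ⟨_ | _, _ | _⟩ <;>
      simp [f, val_c2el, val_c3el, hne, hne.symm, Prod.ext_iff] at h' ⊢
  have h := Nat.card_le_card_of_injective f hf
  simpa using h

theorem natCard_cov : 4 * Nat.card O8.G0 ≤ Nat.card ↥O8.cov := by
  rw [← Subgroup.card_mul_index O8.covMap.ker, Subgroup.index_ker,
    MonoidHom.range_eq_top.2 O8.covMap_surjective, Subgroup.card_top]
  exact Nat.mul_le_mul four_le_ker le_rfl

theorem commutator_eq_top_of_stem {Γ : Type u} [Group Γ] {σ : Γ →* O8.G0}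
    (hσ : Cfsg.IsStemExtension σ) : commutator Γ = ⊤ := by
  rw [eq_top_iff]
  intro x _
  have h : σ x ∈ (commutator Γ).map σ := by
    rw [commutator_def (G := Γ), Subgroup.map_commutator, Subgroup.map_top_of_surjective _ hσ.1,
      ← commutator_def, commutator_G0]
    trivial
  obtain ⟨y, hy, e⟩ := h
  have hk : y⁻¹ * x ∈ commutator Γ := hσ.2.2 (by
    rw [MonoidHom.mem_ker, map_mul, map_inv, e, inv_mul_cancel])
  simpa using mul_mem hy hk

/-- The fourfold cover maps onto every stem extension. -/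
theorem exists_cover_hom {Γ : Type u} [Group Γ] [Finite Γ] {σ : Γ →* O8.G0}
    (hσ : Cfsg.IsStemExtension σ) :
    ∃ π : ↥O8.cov →* Γ, σ.comp π = O8.covMap ∧ Function.Surjective π := by
  let P : Subgroup (↥O8.cov × Γ) :=
    MonoidHom.eqLocus (O8.covMap.comp (MonoidHom.fst _ _)) (σ.comp (MonoidHom.snd _ _))
  let K : Subgroup ↥P := commutator ↥P
  let p1 : ↥P →* ↥O8.cov := (MonoidHom.fst _ _).comp P.subtype
  let p2 : ↥P →* Γ := (MonoidHom.snd _ _).comp P.subtype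
  have h12 : ∀ x, O8.covMap (p1 x) = σ (p2 x) := fun x => x.2
  have hp1 : Function.Surjective p1 := fun x => by
    obtain ⟨g, hg⟩ := hσ.1 (O8.covMap x)
    exact ⟨⟨(x, g), hg.symm⟩, rfl⟩
  have hp2 : Function.Surjective p2 := fun g => by
    obtain ⟨x, hx⟩ := O8.covMap_surjective (σ g)
    exact ⟨⟨(x, g), hx⟩, rfl⟩
  have hK1 : K.map p1 = ⊤ := by
    rw [show K = ⁅(⊤ : Subgroup ↥P), ⊤⁆ from commutator_def ↥P, Subgroup.map_commutator,
      Subgroup.map_top_of_surjective _ hp1, ← commutator_def, commutator_cov]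
  have hK2 : K.map p2 = ⊤ := by
    rw [show K = ⁅(⊤ : Subgroup ↥P), ⊤⁆ from commutator_def ↥P, Subgroup.map_commutator,
      Subgroup.map_top_of_surjective _ hp2, ← commutator_def, commutator_eq_top_of_stem hσ]
  let q1 : ↥K →* ↥O8.cov := p1.comp K.subtype
  have hq1 : Function.Surjective q1 := fun x => by
    obtain ⟨k, hk, e⟩ := (hK1 ▸ Subgroup.mem_top x : x ∈ K.map p1)
    exact ⟨⟨k, hk⟩, e⟩
  let e0 : O8.G0 ≃* ULift.{u} O8.G0 := MulEquiv.ulift.symm
  let τ : ↥K →* ULift.{u} O8.G0 := e0.toMonoidHom.comp (O8.covMap.comp q1)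
  have hτs : Function.Surjective τ := e0.surjective.comp (O8.covMap_surjective.comp hq1)
  have hcent : ∀ x : ↥P, O8.covMap (p1 x) = 1 → ∀ y : ↥P, y * x = x * y := by
    intro x hx y
    refine Subtype.ext (Prod.ext ?_ ?_)
    · exact Subgroup.mem_center_iff.1 (O8.covMap_stem.2.1 (MonoidHom.mem_ker.2 hx)) (p1 y)
    · exact Subgroup.mem_center_iff.1 (hσ.2.1 (MonoidHom.mem_ker.2 ((h12 x).symm.trans hx))) (p2 y)
  have hperf : commutator ↥K = ⊤ := by
    refine Subgroup.map_injective K.subtype_injective ?_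
    rw [commutator_def (G := ↥K), Subgroup.map_commutator, ← MonoidHom.range_eq_map,
      Subgroup.range_subtype]
    refine le_antisymm (Subgroup.commutator_mono le_top le_top)
      (Cfsg.Agent.CentralExt.commutator_le_of_mul_center fun g => ?_)
    obtain ⟨k, hk⟩ := hq1 (p1 g)
    refine ⟨(k : ↥P), k.2, Subgroup.mem_center_iff.2 (hcent _ ?_)⟩
    rw [map_mul, map_inv, show p1 (k : ↥P) = p1 g from hk, inv_mul_cancel, map_one]
  have hstem : Cfsg.IsStemExtension τ := by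
    refine ⟨hτs, fun x hx => Subgroup.mem_center_iff.2 fun y => Subtype.ext ?_,
      fun x _ => hperf ▸ Subgroup.mem_top x⟩
    exact hcent _ (e0.injective ((MonoidHom.mem_ker.1 hx).trans (map_one e0).symm)) _
  obtain ⟨π, hπ⟩ := (S2098.main e0).2 (↥K) τ hstem
  have h4 : Nat.card τ.ker ≤ 4 := (Nat.card_le_card_of_surjective π hπ).trans (by simp)
  have hle : Nat.card ↥K ≤ Nat.card ↥O8.cov := by
    refine le_trans ?_ natCard_cov
    rw [← Subgroup.card_mul_index τ.ker, Subgroup.index_ker, MonoidHom.range_eq_top.2 hτs,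
      Subgroup.card_top, Nat.card_congr e0.symm.toEquiv]
    exact Nat.mul_le_mul h4 le_rfl
  have hbij : Function.Bijective q1 :=
    (Nat.bijective_iff_surjective_and_card q1).2 ⟨hq1, le_antisymm hle (Nat.card_le_card_of_surjective _ hq1)⟩
  let e1 : ↥K ≃* ↥O8.cov := MulEquiv.ofBijective q1 hbij
  refine ⟨(p2.comp K.subtype).comp e1.symm.toMonoidHom, ?_, ?_⟩
  · refine MonoidHom.ext fun x => ?_
    show σ (p2 (e1.symm x : ↥P)) = _
    rw [← h12]
    exact congrArg O8.covMap (e1.apply_symm_apply x)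
  · intro g
    obtain ⟨k, hk, e⟩ := (hK2 ▸ Subgroup.mem_top g : g ∈ K.map p2)
    exact ⟨e1 ⟨k, hk⟩, by
      show p2 ((e1.symm (e1 ⟨k, hk⟩) : ↥K) : ↥P) = g
      rw [e1.symm_apply_apply]
      exact e⟩

/-- Triality as an automorphism. -/
noncomputable def tauE : O8.G0 ≃* O8.G0 := (O8.toP.trans (triality (ZMod 2))).trans O8.toP.symm

theorem tauE_eq (x : O8.G0) : tauE x = O8.tau x := rfl

theorem tauInv_stem : Cfsg.IsStemExtension (tauE.symm.toMonoidHom.comp O8.covMap) := by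
  have h : (tauE.symm.toMonoidHom.comp O8.covMap).ker = O8.covMap.ker := by
    ext x
    simp [MonoidHom.mem_ker]
  exact ⟨tauE.symm.surjective.comp O8.covMap_surjective, h ▸ O8.covMap_stem.2.1, h ▸ O8.covMap_stem.2.2⟩

/-- The lift of triality to the fourfold cover. -/
noncomputable def tlHom : ↥O8.cov →* ↥O8.cov := (exists_cover_hom tauInv_stem).choose

/-- The lift of triality, as an automorphism. -/
noncomputable def tl : ↥O8.cov ≃* ↥O8.cov :=
  MulEquiv.ofBijective tlHom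
    (Finite.surjective_iff_bijective.1 (exists_cover_hom tauInv_stem).choose_spec.2)

theorem covMap_tl (x : ↥O8.cov) : O8.covMap (tl x) = O8.tau (O8.covMap x) := by
  have h : tauE.symm (O8.covMap (tl x)) = O8.covMap x :=
    DFunLike.congr_fun (exists_cover_hom tauInv_stem).choose_spec.1 x
  rw [← h, ← tauE_eq, MulEquiv.apply_symm_apply]

theorem isom_inv_mul {u v : O8.Z8ˣ} (hu : (u : O8.Z8)ᵀ * gM * (u : O8.Z8) = gM)
    (hv : (v : O8.Z8)ᵀ * gM * (v : O8.Z8) = gM) :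
    ((u⁻¹ * v : O8.Z8ˣ) : O8.Z8)ᵀ * gM * ((u⁻¹ * v : O8.Z8ˣ) : O8.Z8) = gM := by
  have hi : ((u⁻¹ : O8.Z8ˣ) : O8.Z8)ᵀ * gM * ((u⁻¹ : O8.Z8ˣ) : O8.Z8) = gM := by
    conv_lhs => rw [← hu]
    rw [show ((u⁻¹ : O8.Z8ˣ) : O8.Z8)ᵀ * ((u : O8.Z8)ᵀ * gM * (u : O8.Z8)) * ((u⁻¹ : O8.Z8ˣ) : O8.Z8) =
      ((u : O8.Z8) * ((u⁻¹ : O8.Z8ˣ) : O8.Z8))ᵀ * gM * ((u : O8.Z8) * ((u⁻¹ : O8.Z8ˣ) : O8.Z8)) by
      simp only [Matrix.transpose_mul, Matrix.mul_assoc], Units.mul_inv]
    simp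
  rw [Units.val_mul, Matrix.transpose_mul,
    show (v : O8.Z8)ᵀ * ((u⁻¹ : O8.Z8ˣ) : O8.Z8)ᵀ * gM * (((u⁻¹ : O8.Z8ˣ) : O8.Z8) * (v : O8.Z8)) =
      (v : O8.Z8)ᵀ * (((u⁻¹ : O8.Z8ˣ) : O8.Z8)ᵀ * gM * ((u⁻¹ : O8.Z8ˣ) : O8.Z8)) * (v : O8.Z8) by
      simp only [Matrix.mul_assoc], hi, hv]

/-- Two maps of a perfect group into isometries with equal reductions agree. -/
theorem hom_eq_of_red {H : Type u} [Group H] (hperf : commutator H = ⊤) (f g : H →* O8.Z8ˣ)
    (hf : ∀ x, (f x : O8.Z8)ᵀ * gM * (f x : O8.Z8) = gM)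
    (hg : ∀ x, (g x : O8.Z8)ᵀ * gM * (g x : O8.Z8) = gM)
    (hred : ∀ x, O8.red (f x) = O8.red (g x)) (x : H) : f x = g x := by
  have hd : ∀ x, (f x)⁻¹ * g x = 1 ∨ (f x)⁻¹ * g x = -1 := fun x =>
    O8.eq_one_or_neg_of_red (isom_inv_mul (hf x) (hg x)) (by rw [map_mul, map_inv, hred, inv_mul_cancel])
  have hc : ∀ x, ∀ v : O8.Z8ˣ, v * ((f x)⁻¹ * g x) = (f x)⁻¹ * g x * v := fun x v => by
    rcases hd x with e | e <;> rw [e] <;> simp
  let d : H →* O8.Z8ˣ :=
    { toFun := fun x => (f x)⁻¹ * g x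
      map_one' := by simp
      map_mul' := fun x y => by
        rw [map_mul, map_mul, _root_.mul_inv_rev,
          show (f y)⁻¹ * (f x)⁻¹ * (g x * g y) = (f y)⁻¹ * ((f x)⁻¹ * g x) * g y by group, hc]
        group }
  have hle : commutator H ≤ d.ker := by
    rw [commutator_def, Subgroup.commutator_le]
    intro a _ b _
    rw [MonoidHom.mem_ker, map_commutatorElement, commutatorElement_eq_one_iff_mul_comm]
    exact (hc a (d b)).symm
  exact inv_mul_eq_one.1 (hle (hperf ▸ Subgroup.mem_top x))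

theorem tl_fst (x : ↥O8.cov) : (tl x).1.1 = x.1.2 :=
  hom_eq_of_red commutator_cov
    ((MonoidHom.fst _ _).comp (O8.cov.subtype.comp tl.toMonoidHom))
    ((MonoidHom.snd _ _).comp O8.cov.subtype)
    (fun y => (O8.isom_of_mem _ (tl y).2).1) (fun y => (O8.isom_of_mem _ y.2).2) (fun y => by
      obtain ⟨g, hg1, hg2⟩ := O8.red_snd y.1 y.2
      have hg : g = O8.covMap y := O8.incl_injective (hg1.trans (O8.incl_covMap y).symm)
      show O8.red (tl y).1.1 = O8.red y.1.2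
      rw [← O8.incl_covMap, covMap_tl, ← hg, hg2]) x

theorem tl_ker {x : ↥O8.cov} (h : O8.covMap x = 1) : O8.covMap (tl x) = 1 := by
  rw [covMap_tl, h, map_one]

theorem tl_c2el : tl O8.c2el = O8.c2el * O8.c3el := by
  have h1 : (tl O8.c2el).1.1 = 1 := by rw [tl_fst, val_c2el]
  rcases O8.kernel_elems (tl_ker O8.gens_mem_ker.1) with e | e | e | e
  · rw [← map_one tl] at e
    have := congrArg (fun z : ↥O8.cov => z.1.1) (tl.injective e)
    simp only [val_c2el] at this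
    exact absurd this O8.neg_one_ne_one
  · rw [e, val_c2el] at h1; exact absurd h1 O8.neg_one_ne_one
  · rw [e, val_c3el] at h1; exact absurd h1 O8.neg_one_ne_one
  · exact e

theorem img_pairs : O8.img 3 = O8.gen 9 := rfl

theorem tau_code3 : O8.tau (O8.el (O8.code 3)) = O8.el (O8.code 3) := by
  have hl : ∀ i : Fin 12, (O8.colImg i).length = 8 := by decide +kernel
  refine O8.rho_injective ?_
  have hm : ((O8.code 3).map O8.letter).map (⇑O8.tau ∘ O8.gen) = ((O8.code 3).map O8.letter).map O8.img :=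
    List.map_congr_left fun i _ => O8.tau_gen i
  rw [O8.el, map_list_prod O8.tau, List.map_map (g := ⇑O8.tau) (f := O8.gen), hm, ← O8.el, O8.rho_el,
    mat_prod O8.e8 O8.rho hl O8.rho_img]
  congr 1

theorem pair_nine : O8.zM 9 * O8.toZ O8Data.pcM3 = -(O8.toZ O8Data.pcM3 * O8.zM 9) ∧
    O8.zN 9 * O8.toZ O8Data.pcN3 = O8.toZ O8Data.pcN3 * O8.zN 9 := by decide +kernel

theorem commutator_congr_center {G : Type u} [Group G] {a a' b b' : G}
    (ha : a⁻¹ * a' ∈ Subgroup.center G) (hb : b⁻¹ * b' ∈ Subgroup.center G) : ⁅a', b'⁆ = ⁅a, b⁆ := by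
  obtain ⟨k, rfl⟩ : ∃ k, a' = a * k := ⟨a⁻¹ * a', by group⟩
  obtain ⟨l, rfl⟩ : ∃ l, b' = b * l := ⟨b⁻¹ * b', by group⟩
  rw [inv_mul_cancel_left] at ha hb
  have hk := fun g => Subgroup.mem_center_iff.1 ha g
  have hl := fun g => Subgroup.mem_center_iff.1 hb g
  rw [commutatorElement_def, commutatorElement_def, _root_.mul_inv_rev, _root_.mul_inv_rev]
  calc a * k * (b * l) * (k⁻¹ * a⁻¹) * (l⁻¹ * b⁻¹)
      = a * (k * (b * l)) * k⁻¹ * a⁻¹ * l⁻¹ * b⁻¹ := by group
    _ = a * b * (l * a⁻¹) * l⁻¹ * b⁻¹ := by rw [← hk]; group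
    _ = a * b * a⁻¹ * b⁻¹ := by rw [← hl]; group

theorem tl_c3el : tl O8.c3el = O8.c2el := by
  obtain ⟨c0, -, c3⟩ := O8.pair_chain
  have e : tl O8.c3el = ⁅O8.cel [9], O8.cel (O8.code 3)⁆ := by
    rw [O8.c3el, map_commutatorElement]
    refine commutator_congr_center (O8.covMap_stem.2.1 ?_) (O8.covMap_stem.2.1 ?_) <;>
      rw [MonoidHom.mem_ker, map_mul, map_inv, O8.covMap_cel, covMap_tl, O8.covMap_cel, inv_mul_eq_one]
    · rw [c0]
      show O8.el [9] = O8.tau (O8.el [3])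
      simp only [O8.el, O8.letter, List.map_cons, List.map_nil, List.prod_cons, List.prod_nil, mul_one,
        O8.tau_gen]
      exact img_pairs.symm
    · exact tau_code3.symm
  obtain ⟨-, h2, -, h4, -, h6, -, h8, -, -, -, -⟩ := O8.pair_products
  rw [e]
  refine Subtype.ext ?_
  rw [val_c2el, ← Subgroup.coe_subtype, map_commutatorElement, Subgroup.coe_subtype]
  have e9 : (O8.cel [9] : O8.Z8ˣ × O8.Z8ˣ) = (O8.uM 9, O8.uN 9) := by
    simp [O8.cel, O8.celem, O8.cgen, O8.letter]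
  have e3 : (O8.cel (O8.code 3) : O8.Z8ˣ × O8.Z8ˣ) =
      (O8.uM 1 * O8.uM 11 * (O8.uM 1 * O8.uM 11), O8.uN 1 * O8.uN 11 * (O8.uN 1 * O8.uN 11)) := by
    rw [c3]; simp [O8.cel, O8.celem, O8.cgen, O8.letter, mul_assoc]
  rw [e9, e3]
  refine Prod.ext ?_ ?_
  · show (⁅((O8.uM 9, O8.uN 9) : O8.Z8ˣ × O8.Z8ˣ),
      (O8.uM 1 * O8.uM 11 * (O8.uM 1 * O8.uM 11), O8.uN 1 * O8.uN 11 * (O8.uN 1 * O8.uN 11))⁆).1 = -1
    rw [show ∀ a b : O8.Z8ˣ × O8.Z8ˣ, ⁅a, b⁆.1 = ⁅a.1, b.1⁆ from fun _ _ => rfl]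
    have h : O8.uM 9 * (O8.uM 1 * O8.uM 11 * (O8.uM 1 * O8.uM 11)) =
        -1 * (O8.uM 1 * O8.uM 11 * (O8.uM 1 * O8.uM 11) * O8.uM 9) := Units.ext (by
      simp only [Units.val_mul, Units.val_neg, Units.val_one, neg_one_mul,
        show ∀ i, (O8.uM i : O8.Z8) = O8.zM i from fun _ => rfl, h2, h6]
      exact pair_nine.1)
    rw [commutatorElement_def, h]
    group
  · show (⁅((O8.uM 9, O8.uN 9) : O8.Z8ˣ × O8.Z8ˣ),
      (O8.uM 1 * O8.uM 11 * (O8.uM 1 * O8.uM 11), O8.uN 1 * O8.uN 11 * (O8.uN 1 * O8.uN 11))⁆).2 = 1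
    rw [show ∀ a b : O8.Z8ˣ × O8.Z8ˣ, ⁅a, b⁆.2 = ⁅a.2, b.2⁆ from fun _ _ => rfl]
    refine commutatorElement_eq_one_iff_mul_comm.2 (Units.ext ?_)
    simp only [Units.val_mul, show ∀ i, (O8.uN i : O8.Z8) = O8.zN i from fun _ => rfl, h4, h8]
    exact pair_nine.2

theorem tl_c23 : tl (O8.c2el * O8.c3el) = O8.c3el := by
  rw [map_mul, tl_c2el, tl_c3el]
  refine Subtype.ext ?_
  rw [Subgroup.coe_mul, val_c23, val_c2el, val_c3el]
  simp

/-- Every double cover of O8+(2) is isomorphic to `M1`. -/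
theorem exists_iso_M1 {L : Type u} [Group L] [Finite L] {q : L →* O8.G0}
    (hq : Cfsg.IsStemExtension q) (hc : Nat.card q.ker = 2) : Nonempty (↥M1 ≃* L) := by
  obtain ⟨π, hπ, hπs⟩ := exists_cover_hom hq
  have hqπ : ∀ x, q (π x) = O8.covMap x := fun x => DFunLike.congr_fun hπ x
  -- a map with the same image that kills the kernel of the first projection
  obtain ⟨f, hf⟩ : ∃ f : ↥O8.cov ≃* ↥O8.cov,
      π (f (O8.c2el * O8.c3el)) = 1 ∧ ∀ x, O8.covMap x = 1 → O8.covMap (f x) = 1 := by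
    by_cases hid : π (O8.c2el * O8.c3el) = 1
    · exact ⟨MulEquiv.refl _, hid, fun _ hx => hx⟩
    by_cases h1 : π O8.c3el = 1
    · exact ⟨tl, by rw [tl_c23]; exact h1, fun _ hx => tl_ker hx⟩
    by_cases h2 : π O8.c2el = 1
    · exact ⟨tl.trans tl, by rw [MulEquiv.trans_apply, tl_c23, tl_c3el]; exact h2,
        fun _ hx => tl_ker (tl_ker hx)⟩
    exfalso
    have hk : ∀ x, O8.covMap x = 1 → π x ∈ q.ker := fun x hx => by rw [MonoidHom.mem_ker, hqπ, hx]
    obtain ⟨g2, g3⟩ := O8.gens_mem_ker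
    obtain ⟨s, hs1, -⟩ := (Nat.card_eq_two_iff' (1 : q.ker)).1 hc
    have huniq : ∀ x, O8.covMap x = 1 → π x ≠ 1 → π x = (s : L) := fun x hx hne => by
      obtain ⟨t, -, hu⟩ := (Nat.card_eq_two_iff' (1 : q.ker)).1 hc
      have e1 := hu ⟨π x, hk x hx⟩ (fun h => hne (congrArg Subtype.val h))
      have e2 := hu s hs1
      exact congrArg Subtype.val (e1.trans e2.symm)
    have hprod : π (O8.c2el * O8.c3el) = 1 := by
      rw [map_mul, huniq _ g2 h2, huniq _ g3 h1]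
      have := pow_card_eq_one' (x := s)
      rw [hc, sq] at this
      exact congrArg Subtype.val this
    exact hid hprod
  set ρ := π.comp f.toMonoidHom with hρ
  have hρs : Function.Surjective ρ := hπs.comp f.surjective
  let p : ↥O8.cov →* ↥M1 := ((MonoidHom.fst _ _).comp O8.cov.subtype).codRestrict M1
    fun x => mem_M1.2 ⟨x, rfl⟩
  have hps : Function.Surjective p := fun m => by
    obtain ⟨x, hx⟩ := mem_M1.1 m.2
    exact ⟨x, Subtype.ext hx⟩
  have hker : p.ker ≤ ρ.ker := by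
    intro x hx
    have h1 : x.1.1 = 1 := congrArg Subtype.val (MonoidHom.mem_ker.1 hx)
    have h2 : O8.covMap x = 1 := O8.incl_injective (by rw [O8.incl_covMap, h1, map_one, map_one])
    rcases O8.kernel_elems h2 with rfl | rfl | rfl | rfl
    · exact one_mem _
    · rw [val_c2el] at h1; exact absurd h1 O8.neg_one_ne_one
    · rw [val_c3el] at h1; exact absurd h1 O8.neg_one_ne_one
    · exact hf.1
  let φ : ↥M1 →* L := p.liftOfSurjective hps ⟨ρ, hker⟩
  have hφ : ∀ x, φ (p x) = ρ x := fun x => MonoidHom.liftOfRightInverse_comp_apply p _ _ ⟨ρ, hker⟩ x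
  refine ⟨MulEquiv.ofBijective φ ⟨?_, fun l => ?_⟩⟩
  · rw [injective_iff_map_eq_one]
    intro m hm
    obtain ⟨x, rfl⟩ := hps m
    rw [hφ] at hm
    have hfx : O8.covMap (f x) = 1 := by rw [← hqπ, show π (f x) = 1 from hm, map_one]
    have hall : ∀ y, O8.covMap (f y) = 1 → O8.covMap y = 1 := by
      haveI := ker_covMap_finite
      intro y hy
      have hmap : O8.covMap.ker.map f.toMonoidHom = O8.covMap.ker :=
        Subgroup.eq_of_le_of_card_ge (by rintro _ ⟨z, hz, rfl⟩; exact hf.2 z hz)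
          (by rw [Subgroup.card_map_of_injective f.injective])
      have hfy : f y ∈ O8.covMap.ker.map f.toMonoidHom := by rw [hmap]; exact MonoidHom.mem_ker.2 hy
      obtain ⟨z, hz, e⟩ := hfy
      rw [← f.injective e]
      exact hz
    have hk := hall x hfx
    have hb : ρ (O8.c2el * O8.c3el) = 1 := hf.1
    have ha : ρ O8.c2el ≠ 1 := by
      intro ha
      -- otherwise the whole kernel dies
      have h3 : ρ O8.c3el = 1 := by rw [map_mul, ha, one_mul] at hb; exact hb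
      have hbot : q.ker = ⊥ := by
        rw [Subgroup.eq_bot_iff_forall]
        intro l hl
        obtain ⟨y, rfl⟩ := hρs l
        have : O8.covMap y = 1 := hall y (by
          rw [← hqπ]; exact MonoidHom.mem_ker.1 hl)
        rcases O8.kernel_elems this with rfl | rfl | rfl | rfl
        exacts [map_one _, ha, h3, hf.1]
      rw [hbot, Subgroup.card_bot] at hc
      norm_num at hc
    rcases O8.kernel_elems hk with rfl | rfl | rfl | rfl
    · exact map_one p
    · exact absurd hm ha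
    · refine absurd ?_ ha
      rw [map_mul, hm, mul_one] at hb
      exact hb
    · exact Subtype.ext (congrArg Prod.fst val_c23)
  · obtain ⟨x, rfl⟩ := hρs l
    exact ⟨p x, hφ x⟩

end Cfsg.Agent.O8Standard
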