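import Cfsg.Agent.Lib.O8Standard.Sub

/-!
# Trees classifying elements and frames by images of roots

* `negN`, `neg1` : negation of roots
* `orbit_spec` : orbits under reflections fixing given roots
* `eq_of_span` : agreement on a spanning set of roots
* `classify` : elements with square `1` or `-1` up to conjugation
* `classifyFrame` : ordered frames
-/

set_option autoImplicit false

namespace Cfsg.Agent.O8Standard

open Cfsg.Agent.Multiplier Matrix

/-- The negative of a root. -/
def negN (i : ℕ) : ℕ := refN i i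

theorem negN_lt {i : ℕ} (hi : i < 240) : negN i < 240 := refN_lt hi hi

theorem rv_negN {i : ℕ} (hi : i < 240) : rv (negN i) = -rv i := by
  rw [negN, (root_spec i hi).2.2 i hi, (root_spec i hi).1]
  ext j
  simp
  ring

theorem negN_negN {i : ℕ} (hi : i < 240) : negN (negN i) = i :=
  rv_inj (negN_lt (negN_lt hi)) hi (by rw [rv_negN (negN_lt hi), rv_negN hi, neg_neg])

theorem img_negOne {i : ℕ} (hi : i < 240) : img (-1) i = negN i :=
  img_eq negOne_mem hi (negN_lt hi) (by
    rw [rv_negN hi, Units.val_neg, Units.val_one, Matrix.neg_mulVec, Matrix.one_mulVec])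

theorem img_negN {u : O8.Z8ˣ} (hu : u ∈ W) {i : ℕ} (hi : i < 240) :
    img u (negN i) = negN (img u i) :=
  img_eq hu (negN_lt hi) (negN_lt (img_lt hu hi)) (by
    rw [rv_negN hi, rv_negN (img_lt hu hi), Matrix.mulVec_neg, (img_spec hu hi).2])

theorem refN_refN {k i : ℕ} (hk : k < 240) (hi : i < 240) : refN k (refN k i) = i := by
  have h := sU_mem k hk
  rw [← img_sU hk hi, ← img_sU hk (img_lt h hi), ← img_mul h h hi,
    show sU k * sU k = 1 from (mul_eq_one_iff_eq_inv.2 (sU_inv k).symm), img_one hi]

theorem refN_fix {k a : ℕ} (hk : k < 240) (ha : a < 240) (h : ipN k a = 2) : refN k a = a := by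
  refine rv_inj (refN_lt hk ha) ha ?_
  rw [(root_spec k hk).2.2 a ha, dotG_rv hk ha, h]
  simp

/-- Extends an orbit list by reflected entries; `none` if a code is invalid. -/
def grow (fix : List ℕ) : List (ℕ × ℕ) → List ℕ → Option (List ℕ)
  | [], L => some L
  | (k, j) :: cs, L =>
    if Nat.blt k 240 && Nat.blt j L.length && (fix.all fun a => Nat.beq (ipN k a) 2) then
      grow fix cs (L ++ [refN k (L.getD j 0)])
    else none

theorem orbit_spec {fix : List ℕ} {t0 : ℕ} (ht0 : t0 < 240) (hfix : ∀ a ∈ fix, a < 240) :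
    ∀ (cs : List (ℕ × ℕ)) {L L' : List ℕ}, grow fix cs L = some L' →
      (∀ x ∈ L, x < 240 ∧ ∃ v ∈ W, (∀ a ∈ fix, img v a = a) ∧ img v x = t0) →
      ∀ x ∈ L', x < 240 ∧ ∃ v ∈ W, (∀ a ∈ fix, img v a = a) ∧ img v x = t0
  | [], L, L', h, hL => by cases h; exact hL
  | (k, j) :: cs, L, L', h, hL => by
    rw [grow] at h
    split at h
    case isFalse => cases h
    case isTrue hc =>
      simp only [Bool.and_eq_true, Nat.blt_eq, List.all_eq_true, Nat.beq_eq] at hc
      obtain ⟨⟨hk, hj⟩, ho⟩ := hc
      refine orbit_spec ht0 hfix cs h fun x hx => ?_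
      rcases List.mem_append.1 hx with hx | hx
      · exact hL x hx
      rw [List.mem_singleton] at hx
      subst hx
      rw [List.getD_eq_getElem _ _ hj]
      obtain ⟨hy, v, hv, hvf, hvt⟩ := hL _ (List.getElem_mem hj)
      refine ⟨refN_lt hk hy, v * sU k, mul_mem hv (sU_mem k hk), fun a ha => ?_, ?_⟩
      · rw [img_mul hv (sU_mem k hk) (hfix a ha), img_sU hk (hfix a ha),
          refN_fix hk (hfix a ha) (ho a ha), hvf a ha]
      · rw [img_mul hv (sU_mem k hk) (refN_lt hk hy), img_sU hk (refN_lt hk hy), refN_refN hk hy, hvt]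

/-- An orbit: its representative, its codes and a further index. -/
abbrev Orb : Type := ℕ × List (ℕ × ℕ) × ℕ

/-- The orbits cover every candidate. -/
def coverB (fix : List ℕ) (cand : ℕ → Bool) (os : List Orb) : Bool :=
  allLt 240 fun t => !cand t || os.any fun o =>
    match grow fix o.2.1 [o.1] with
    | some L => L.contains t
    | none => false

theorem cover_spec {fix : List ℕ} {cand : ℕ → Bool} {os : List Orb} (h : coverB fix cand os = true)
    (ho : ∀ o ∈ os, o.1 < 240) (hfix : ∀ a ∈ fix, a < 240) {t : ℕ} (ht : t < 240)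
    (hc : cand t = true) :
    ∃ o ∈ os, ∃ v ∈ W, (∀ a ∈ fix, img v a = a) ∧ img v t = o.1 := by
  have h' := allLt_spec h t ht
  simp only [hc, Bool.not_true, Bool.false_or, List.any_eq_true] at h'
  obtain ⟨o, hmem, hh⟩ := h'
  refine ⟨o, hmem, ?_⟩
  split at hh
  · rename_i L hL
    exact (orbit_spec (ho o hmem) hfix o.2.1 hL (fun x hx => by
      rw [List.mem_singleton] at hx
      subst hx
      exact ⟨ho o hmem, 1, one_mem _, fun a ha => img_one (hfix a ha), img_one (ho o hmem)⟩)
      t (by simpa using hh)).2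
  · cases hh

/-! ### Agreement on spanning sets -/

/-- A combination of roots. -/
def comb : List ℤ → List ℕ → (Fin 8 → ℤ)
  | c :: cs, x :: xs => c • rv x + comb cs xs
  | _, _ => 0

/-- The coordinates of a combination. -/
def combL : List ℤ → List ℕ → ℕ → ℤ
  | c :: cs, x :: xs, j => c * (rootL x).getD j 0 + combL cs xs j
  | _, _, _ => 0

theorem comb_apply : ∀ (cs : List ℤ) (xs : List ℕ) (j : Fin 8), comb cs xs j = combL cs xs j
  | [], _, _ => rfl
  | _ :: _, [], _ => rfl
  | c :: cs, x :: xs, j => by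
    simp only [comb, combL, Pi.add_apply, Pi.smul_apply, smul_eq_mul, comb_apply cs xs j]
    rfl

theorem mulVec_comb {u : O8.Z8ˣ} (hu : u ∈ W) : ∀ (cs : List ℤ) (xs : List ℕ), (∀ x ∈ xs, x < 240) →
    (u : O8.Z8) *ᵥ comb cs xs = comb cs (xs.map (img u))
  | [], _, _ => by simp [comb]
  | _ :: _, [], _ => by simp [comb]
  | c :: cs, x :: xs, h => by
    rw [List.map_cons, comb, comb, Matrix.mulVec_add, Matrix.mulVec_smul, (img_spec hu (h x (by simp))).2,
      mulVec_comb hu cs xs fun y hy => h y (by simp [hy])]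

/-- Combinations giving multiples of the simple roots. -/
def spanB (xs : List ℕ) (cert : List (ℤ × List ℤ)) : Bool :=
  allLt 8 fun k =>
    decide ((cert.getD k (0, [])).1 ≠ 0) && allLt 8 fun j =>
      decide (combL (cert.getD k (0, [])).2 xs j = (cert.getD k (0, [])).1 * (rootL k).getD j 0)

theorem eq_of_span {xs : List ℕ} {cert : List (ℤ × List ℤ)} (h : spanB xs cert = true)
    (hx : ∀ x ∈ xs, x < 240) {u v : O8.Z8ˣ} (hu : u ∈ W) (hv : v ∈ W)
    (he : ∀ x ∈ xs, img u x = img v x) : u = v := by
  refine Units.ext (mulVec_simple_ext fun k hk => ?_)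
  have h' := allLt_spec h k hk
  simp only [Bool.and_eq_true, decide_eq_true_eq] at h'
  have e : (cert.getD k (0, [])).1 • rv k = comb (cert.getD k (0, [])).2 xs := funext fun j => by
    rw [comb_apply, of_decide_eq_true (allLt_spec h'.2 j j.2)]
    rfl
  have e2 : (u : O8.Z8) *ᵥ ((cert.getD k (0, [])).1 • rv k) =
      (v : O8.Z8) *ᵥ ((cert.getD k (0, [])).1 • rv k) := by
    rw [e, mulVec_comb hu _ _ hx, mulVec_comb hv _ _ hx, List.map_congr_left he]
  rw [Matrix.mulVec_smul, Matrix.mulVec_smul] at e2
  exact smul_right_injective _ h'.1 e2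

/-! ### Elements with square `1` or `-1` -/

/-- The end of a branch: a conjugating word, the number of the representative and a spanning
certificate, or a proof that no element has these images. -/
inductive Fin' where
  | rep (v : List ℕ) (i : ℕ) (cert : List (ℤ × List ℤ))
  | none (k : ℕ) (d : ℤ) (c : List ℤ) (j : ℕ)
  | next (r : ℕ) (os : List Orb)

/-- A node: the known images and what follows. -/
abbrev Node : Type := List (ℕ × ℕ) × Fin'

/-- The image of an image. -/
def sgn2 (e : Bool) (a : ℕ) : ℕ := if e then a else negN a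

/-- All known pairs. -/
def known (e : Bool) : List (ℕ × ℕ) → List (ℕ × ℕ)
  | [] => []
  | (a, b) :: T => (a, b) :: (b, sgn2 e a) :: known e T

/-- The possible images of `r`. -/
def candB (e : Bool) (T : List (ℕ × ℕ)) (r t : ℕ) : Bool :=
  Nat.beq (ipN t (sgn2 e r)) (ipN r t) && (known e T).all fun p => Nat.beq (ipN t p.2) (ipN r p.1)

/-- The check of one node. -/
def nodeB (e : Bool) (reps : List (List ℕ)) (nodes : List Node) (i : ℕ) : Bool :=
  match nodes.getD i ([], .none 0 0 [] 0) with
  | (T, fin) =>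
    let P := known e T
    (T.all fun p => Nat.blt p.1 240 && Nat.blt p.2 240) &&
    match fin with
    | .rep v m cert =>
      (v.all fun k => Nat.blt k 240) && ((reps.getD m []).all fun k => Nat.blt k 240) &&
        Nat.blt m reps.length && spanB (P.map Prod.fst) cert &&
        P.all fun p => Nat.beq (evR (reps.getD m []) (evR v p.1)) (evR v p.2)
    | .none k d c j =>
      Nat.blt k 8 && Nat.blt j 8 &&
        (allLt 8 fun l => decide (combL c (P.map Prod.fst) l = d * (rootL k).getD l 0)) &&
        decide (¬ d ∣ combL c (P.map Prod.snd) j)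
    | .next r os =>
      Nat.blt r 240 &&
        (os.all fun o => Nat.blt o.1 240 && Nat.blt i o.2.2 && Nat.blt o.2.2 nodes.length &&
          decide ((nodes.getD o.2.2 ([], .none 0 0 [] 0)).1 = T ++ [(r, o.1)])) &&
        coverB (r :: P.map Prod.fst) (candB e T r) os

/-- All nodes. -/
def treeB (e : Bool) (reps : List (List ℕ)) (nodes : List Node) : Bool :=
  allLt nodes.length (nodeB e reps nodes) && decide ((nodes.getD 0 ([(0, 0)], .none 0 0 [] 0)).1 = [])

theorem sgn2_lt {e : Bool} {a : ℕ} (ha : a < 240) : sgn2 e a < 240 := by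
  unfold sgn2
  split
  · exact ha
  · exact negN_lt ha

theorem sgn2_spec {e : Bool} {u : O8.Z8ˣ} (hu : u ∈ W) (h2 : u * u = if e then 1 else -1) {a : ℕ}
    (ha : a < 240) : img u (img u a) = sgn2 e a := by
  rw [← img_mul hu hu ha, h2, sgn2]
  cases e
  · rw [if_neg (by simp), if_neg (by simp), img_negOne ha]
  · rw [if_pos rfl, if_pos rfl, img_one ha]

theorem known_spec {e : Bool} {u : O8.Z8ˣ} (hu : u ∈ W) (h2 : u * u = if e then 1 else -1) :
    ∀ {T : List (ℕ × ℕ)}, (∀ p ∈ T, p.1 < 240 ∧ p.2 < 240 ∧ img u p.1 = p.2) →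
      ∀ p ∈ known e T, p.1 < 240 ∧ p.2 < 240 ∧ img u p.1 = p.2
  | [], _, p, hp => by simp [known] at hp
  | (a, b) :: T, h, p, hp => by
    obtain ⟨ha, hb, hab⟩ := h (a, b) (by simp)
    simp only [known, List.mem_cons] at hp
    rcases hp with rfl | rfl | hp
    · exact ⟨ha, hb, hab⟩
    · exact ⟨hb, sgn2_lt ha, by
        show img u b = sgn2 e a
        rw [← (show img u a = b from hab), sgn2_spec hu h2 ha]⟩
    · exact known_spec hu h2 (fun q hq => h q (by simp [hq])) p hp

theorem mem_known {e : Bool} : ∀ {T : List (ℕ × ℕ)} {p : ℕ × ℕ}, p ∈ T →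
    p ∈ known e T ∧ (p.2, sgn2 e p.1) ∈ known e T
  | [], p, hp => by simp at hp
  | q :: T, p, hp => by
    rcases List.mem_cons.1 hp with rfl | hp
    · simp [known]
    · simp [known, mem_known (e := e) hp]

theorem descend {e : Bool} {reps : List (List ℕ)} {nodes : List Node} (h : treeB e reps nodes = true) :
    ∀ n i, i < nodes.length → nodes.length - i = n → ∀ u ∈ W, u * u = (if e then 1 else -1) →
      (∀ p ∈ (nodes.getD i ([], .none 0 0 [] 0)).1, img u p.1 = p.2) →
      ∃ v ∈ W, ∃ m < reps.length, v * u * v⁻¹ = rprod (reps.getD m []) := by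
  intro n
  induction n using Nat.strong_induction_on with
  | _ n ih =>
    intro i hi hn u hu h2 hT
    simp only [treeB, Bool.and_eq_true] at h
    have hnode := allLt_spec h.1 i hi
    rw [nodeB] at hnode
    rcases hn' : nodes.getD i ([], .none 0 0 [] 0) with ⟨T, fin⟩
    rw [hn'] at hnode hT
    simp only [Bool.and_eq_true, List.all_eq_true, Nat.blt_eq] at hnode
    obtain ⟨hlt, hfin⟩ := hnode
    have hP := known_spec hu h2 (T := T) fun p hp => ⟨(hlt p hp).1, (hlt p hp).2, hT p hp⟩
    have hP1 : ∀ x ∈ (known e T).map Prod.fst, x < 240 := fun x hx => by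
      obtain ⟨p, hp, rfl⟩ := List.mem_map.1 hx
      exact (hP p hp).1
    cases fin with
    | rep w m cert =>
      simp only [Bool.and_eq_true, List.all_eq_true, Nat.blt_eq, Nat.beq_eq] at hfin
      obtain ⟨⟨⟨⟨hw, hm⟩, hlm⟩, hspan⟩, heq⟩ := hfin
      have hwW := rprod_mem hw
      have hrW := rprod_mem hm
      refine ⟨rprod w, hwW, m, hlm, ?_⟩
      have key : u = (rprod w)⁻¹ * rprod (reps.getD m []) * rprod w := by
        refine eq_of_span hspan hP1 hu (mul_mem (mul_mem (inv_mem hwW) hrW) hwW) fun x hx => ?_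
        obtain ⟨p, hp, rfl⟩ := List.mem_map.1 hx
        obtain ⟨h1, h2', h3⟩ := hP p hp
        rw [h3, img_mul (mul_mem (inv_mem hwW) hrW) hwW h1, img_mul (inv_mem hwW) hrW (img_lt hwW h1),
          img_rprod hw h1, img_rprod hm (evR_lt hw h1), heq p hp, ← img_rprod hw h2',
          img_inv_img hwW h2']
      rw [key]
      group
    | none k d c j =>
      simp only [Bool.and_eq_true, Nat.blt_eq, decide_eq_true_eq] at hfin
      obtain ⟨⟨⟨hk, hj⟩, hcomb⟩, hdiv⟩ := hfin
      exfalso
      apply hdiv
      have e1 : d • rv k = comb c ((known e T).map Prod.fst) := funext fun l => by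
        rw [comb_apply, of_decide_eq_true (allLt_spec hcomb l l.2)]
        rfl
      have e2 : (u : O8.Z8) *ᵥ comb c ((known e T).map Prod.fst) = comb c ((known e T).map Prod.snd) := by
        rw [mulVec_comb hu _ _ hP1, List.map_map]
        exact congrArg _ (List.map_congr_left fun p hp => (hP p hp).2.2)
      rw [← e1, Matrix.mulVec_smul, (img_spec hu (show k < 240 by omega)).2] at e2
      exact ⟨rv (img u k) ⟨j, hj⟩, by
        rw [show combL c _ j = comb c _ ⟨j, hj⟩ from (comb_apply _ _ ⟨j, hj⟩).symm, ← e2]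
        rfl⟩
    | next r os =>
      simp only [Bool.and_eq_true, List.all_eq_true, Nat.blt_eq, decide_eq_true_eq] at hfin
      obtain ⟨⟨hr, hos⟩, hcov⟩ := hfin
      have ht := img_lt hu hr
      have hcand : candB e T r (img u r) = true := by
        simp only [candB, Bool.and_eq_true, List.all_eq_true, Nat.beq_eq]
        refine ⟨?_, fun p hp => ?_⟩
        · rw [← sgn2_spec hu h2 hr, ipN_img hu hr ht]
        · obtain ⟨h1, -, h3⟩ := hP p hp
          rw [← h3, ipN_img hu hr h1]
      have hfixlt : ∀ a ∈ r :: (known e T).map Prod.fst, a < 240 := fun a ha => by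
        rcases List.mem_cons.1 ha with rfl | ha
        · exact hr
        · exact hP1 a ha
      obtain ⟨o, ho, v, hv, hfix, hvt⟩ :=
        cover_spec hcov (fun o ho => (hos o ho).1.1.1) hfixlt ht hcand
      obtain ⟨⟨⟨-, hio⟩, hlen⟩, hchild⟩ := hos o ho
      have hu' : v * u * v⁻¹ ∈ W := mul_mem (mul_mem hv hu) (inv_mem hv)
      have h2' : v * u * v⁻¹ * (v * u * v⁻¹) = if e then 1 else -1 := by
        rw [show v * u * v⁻¹ * (v * u * v⁻¹) = v * (u * u) * v⁻¹ by group, h2]
        cases e <;> simp
      have hfix' : ∀ a < 240, img v a = a → img v⁻¹ a = a := fun a ha h => by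
        conv_lhs => rw [← h]
        exact img_inv_img hv ha
      have hT' : ∀ p ∈ (nodes.getD o.2.2 ([], .none 0 0 [] 0)).1, img (v * u * v⁻¹) p.1 = p.2 := by
        rw [hchild]
        intro p hp
        rcases List.mem_append.1 hp with hp | hp
        · obtain ⟨h1, h2p⟩ := hlt p hp
          obtain ⟨hmem, hmem'⟩ := mem_known (e := e) hp
          have hf1 : img v p.1 = p.1 := hfix _ (List.mem_cons_of_mem _ (List.mem_map.2 ⟨p, hmem, rfl⟩))
          have hf2 : img v p.2 = p.2 := by
            exact hfix _ (List.mem_cons_of_mem _ (List.mem_map.2 ⟨(p.2, sgn2 e p.1), hmem', rfl⟩))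
          rw [img_mul (mul_mem hv hu) (inv_mem hv) h1, hfix' _ h1 hf1, img_mul hv hu h1, hT p hp, hf2]
        · rw [List.mem_singleton] at hp
          subst hp
          rw [img_mul (mul_mem hv hu) (inv_mem hv) hr, hfix' _ hr (hfix r (by simp)),
            img_mul hv hu hr, hvt]
      obtain ⟨w, hw, m, hm, hwm⟩ :=
        ih (nodes.length - o.2.2) (by omega) o.2.2 hlen rfl _ hu' h2' hT'
      exact ⟨w * v, mul_mem hw hv, m, hm, by rw [← hwm]; group⟩

/-- Every element with the square prescribed is conjugate to one of the representatives. -/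
theorem classify {e : Bool} {reps : List (List ℕ)} {nodes : List Node} (h : treeB e reps nodes = true)
    {u : O8.Z8ˣ} (hu : u ∈ W) (h2 : u * u = if e then 1 else -1) :
    ∃ v ∈ W, ∃ m < reps.length, v * u * v⁻¹ = rprod (reps.getD m []) := by
  have h' := h
  simp only [treeB, Bool.and_eq_true, decide_eq_true_eq] at h'
  cases nodes with
  | nil => simp at h'
  | cons n ns =>
    refine descend h _ 0 (by simp) rfl u hu h2 ?_
    have := h'.2
    simp only [List.getD_cons_zero] at this ⊢
    simp [this]

/-! ### Frames -/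

/-- A node of the frame tree: the roots so far, and either orbits or the end. -/
abbrev FNode : Type := List ℕ × (List Orb ⊕ (List ℕ × List ℕ))

/-- The roots of the standard frame. -/
def frameOK (FR : List ℕ) (nodes : List FNode) (i : ℕ) : Bool :=
  match nodes.getD i ([], .inl []) with
  | (T, .inl os) =>
    (T.all fun a => Nat.blt a 240) && Nat.blt T.length 8 &&
      (os.all fun o => Nat.blt o.1 240 && Nat.blt i o.2.2 && Nat.blt o.2.2 nodes.length &&
        decide ((nodes.getD o.2.2 ([], .inl [])).1 = T ++ [o.1])) &&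
      coverB T (fun t => T.all fun a => Nat.beq (ipN t a) 2) os
  | (T, .inr (v, rho)) =>
    (T.all fun a => Nat.blt a 240) && Nat.beq T.length 8 && (v.all fun k => Nat.blt k 240) &&
      allLt 8 fun j => Nat.blt (rho.getD j 8) 8 && Nat.beq (evR v (T.getD j 0)) (FR.getD (rho.getD j 8) 0)

/-- All nodes of the frame tree. -/
def frameTreeB (FR : List ℕ) (nodes : List FNode) : Bool :=
  allLt nodes.length (frameOK FR nodes) && decide ((nodes.getD 0 ([0], .inl [])).1 = [])

theorem descendFrame {FR : List ℕ} {nodes : List FNode} (h : frameTreeB FR nodes = true) :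
    ∀ n i, i < nodes.length → nodes.length - i = n → ∀ t : ℕ → ℕ, (∀ j < 8, t j < 240) →
      (∀ a < 8, ∀ b < 8, a ≠ b → ipN (t a) (t b) = 2) →
      (∀ j < (nodes.getD i ([], .inl [])).1.length, t j = (nodes.getD i ([], .inl [])).1.getD j 0) →
      ∃ v ∈ W, ∃ m < nodes.length, ∃ w rho, (nodes.getD m ([], .inl [])).2 = .inr (w, rho) ∧
        ∀ j < 8, rho.getD j 8 < 8 ∧ img v (t j) = FR.getD (rho.getD j 8) 0 := by
  intro n
  induction n using Nat.strong_induction_on with
  | _ n ih =>
    intro i hi hn t htlt horth hT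
    simp only [frameTreeB, Bool.and_eq_true] at h
    have hnode := allLt_spec h.1 i hi
    rw [frameOK] at hnode
    rcases hn' : nodes.getD i ([], .inl []) with ⟨T, os | ⟨w, rho⟩⟩
    · rw [hn'] at hnode hT
      simp only [Bool.and_eq_true, List.all_eq_true, Nat.blt_eq, decide_eq_true_eq] at hnode
      obtain ⟨⟨⟨hlt, hlen⟩, hos⟩, hcov⟩ := hnode
      have hc : (T.all fun a => Nat.beq (ipN (t T.length) a) 2) = true := by
        simp only [List.all_eq_true, Nat.beq_eq]
        intro a ha
        obtain ⟨j, hj, rfl⟩ := List.getElem_of_mem ha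
        rw [← List.getD_eq_getElem T 0 hj, ← hT j hj]
        exact horth _ hlen j (by omega) (by omega)
      obtain ⟨o, ho, v, hv, hfix, hvt⟩ :=
        cover_spec hcov (fun o ho => (hos o ho).1.1.1) hlt (htlt _ hlen) hc
      obtain ⟨⟨⟨-, hio⟩, holen⟩, hchild⟩ := hos o ho
      obtain ⟨u, hu, m, hm, w', rho', hm', hj'⟩ := ih (nodes.length - o.2.2) (by omega) o.2.2 holen rfl
        (fun j => if j < 8 then img v (t j) else 0)
        (fun j hj => by rw [if_pos hj]; exact img_lt hv (htlt j hj))
        (fun a ha b hb hab => by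
          rw [if_pos ha, if_pos hb, ipN_img hv (htlt a ha) (htlt b hb), horth a ha b hb hab])
        (by
          rw [hchild]
          intro j hj
          rw [List.length_append, List.length_singleton] at hj
          rw [if_pos (by omega)]
          by_cases hjT : j < T.length
          · rw [List.getD_append _ _ _ _ hjT, hT j hjT, List.getD_eq_getElem _ _ hjT,
              hfix _ (List.getElem_mem hjT)]
          · obtain rfl : j = T.length := by omega
            rw [hvt, List.getD_append_right _ _ _ _ le_rfl, Nat.sub_self]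
            rfl)
      refine ⟨u * v, mul_mem hu hv, m, hm, w', rho', hm', fun j hj => ⟨(hj' j hj).1, ?_⟩⟩
      have h2 := (hj' j hj).2
      rw [if_pos hj] at h2
      rw [img_mul hu hv (htlt j hj), h2]
    · rw [hn'] at hnode hT
      simp only [Bool.and_eq_true, List.all_eq_true, Nat.blt_eq, Nat.beq_eq] at hnode
      obtain ⟨⟨⟨-, hlen⟩, hw⟩, hall⟩ := hnode
      refine ⟨rprod w, rprod_mem hw, i, hi, w, rho, by rw [hn'], fun j hj => ?_⟩
      have h' := allLt_spec hall j hj
      simp only [Bool.and_eq_true, Nat.blt_eq, Nat.beq_eq] at h'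
      refine ⟨h'.1, ?_⟩
      rw [img_rprod hw (htlt j hj), hT j (by rw [hlen]; exact hj), h'.2]

end Cfsg.Agent.O8Standard
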