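import Cfsg.Agent.Lib.O8Standard.Witness

/-!
# Elements of order five in centralisers

* `no_five` : no element of order 5 centralises three or four orthogonal reflections
* `plane_fix` : a perfect group centralising two reflections fixes both roots
-/

set_option autoImplicit false
set_option maxRecDepth 100000

namespace Cfsg.Agent.O8Standard

open Cfsg.Agent.Multiplier
open scoped commutatorElement

/-- The roots of `S` with the inner products of `x` with `B` on `im`. -/
def profile (S : List ℕ) (P : List (ℕ × ℕ)) (x : ℕ) : List ℕ :=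
  S.filter fun t => P.all fun p => Nat.beq (ipN t p.2) (ipN x p.1)

/-- One step of the map determined by the images. -/
def stepS (S : List ℕ) (P : List (ℕ × ℕ)) : Option ℕ → Option ℕ
  | none => none
  | some x => match profile S P x with
    | [t] => some t
    | _ => none

/-- An assignment of order five is the identity. -/
def leafB (S B im : List ℕ) : Bool :=
  !(B.all fun b => match stepS S (B.zip im) (stepS S (B.zip im) (stepS S (B.zip im)
      (stepS S (B.zip im) (stepS S (B.zip im) (some b))))) with
    | none => true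
    | some t => Nat.beq t b) || im == B

/-- All isometric assignments. -/
def enumB (S B : List ℕ) : List ℕ → List ℕ → Bool
  | [], im => leafB S B im
  | b :: rest, im => S.all fun t =>
      !((B.zip im).all fun p => Nat.beq (ipN t p.2) (ipN b p.1)) || enumB S B rest (im ++ [t])

section enum

variable {S B : List ℕ} {e : O8.Z8ˣ}

theorem step_spec (he : e ∈ W) (hS : ∀ x ∈ S, x < 240 ∧ img e x ∈ S) (hB : ∀ b ∈ B, b ∈ S) {x : ℕ}
    (hx : x ∈ S) : stepS S (B.zip (B.map (img e))) (some x) = none ∨
      stepS S (B.zip (B.map (img e))) (some x) = some (img e x) := by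
  have hmem : img e x ∈ profile S (B.zip (B.map (img e))) x := by
    simp only [profile, List.mem_filter, List.all_eq_true, Nat.beq_eq]
    refine ⟨(hS x hx).2, fun p hp => ?_⟩
    rw [List.zip_map_right, List.mem_map] at hp
    obtain ⟨⟨a, b⟩, hab, rfl⟩ := hp
    have : a = b := by
      obtain ⟨i, hi, hie⟩ := List.getElem_of_mem hab
      simp only [List.getElem_zip, Prod.mk.injEq] at hie
      rw [← hie.1, ← hie.2]
    subst this
    exact ipN_img he (hS x hx).1 (hS a (hB a (List.of_mem_zip hab).1)).1
  rcases h : profile S (B.zip (B.map (img e))) x with _ | ⟨t, _ | ⟨t', l⟩⟩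
  · simp [h] at hmem
  · rw [h, List.mem_singleton] at hmem
    exact .inr (by simp [stepS, h, hmem])
  · exact .inl (by simp [stepS, h])

theorem step_none (P : List (ℕ × ℕ)) : stepS S P none = none := rfl

theorem leaf_spec (he : e ∈ W) (h5 : e ^ 5 = 1) (hS : ∀ x ∈ S, x < 240 ∧ img e x ∈ S)
    (hB : ∀ b ∈ B, b ∈ S) (h : leafB S B (B.map (img e)) = true) : B.map (img e) = B := by
  simp only [leafB, Bool.or_eq_true, Bool.not_eq_true', beq_iff_eq] at h
  refine h.resolve_left fun h' => ?_
  apply absurd h'
  rw [Bool.not_eq_false, List.all_eq_true]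
  intro b hb
  have hb' := (hS b (hB b hb)).1
  have h5' : img e (img e (img e (img e (img e b)))) = b := by
    rw [← img_mul he he hb', ← img_mul he (mul_mem he he) hb', ← img_mul he (mul_mem he (mul_mem he he)) hb',
      ← img_mul he (mul_mem he (mul_mem he (mul_mem he he))) hb',
      show e * (e * (e * (e * e))) = e ^ 5 by rw [pow_succ', pow_succ', pow_succ', pow_succ', pow_one],
      h5, img_one hb']
  generalize hP : B.zip (B.map (img e)) = P
  have st : ∀ {o : Option ℕ} {x : ℕ}, x ∈ S → o = none ∨ o = some x →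
      stepS S P o = none ∨ stepS S P o = some (img e x) := by
    intro o x hx ho
    rcases ho with rfl | rfl
    · exact .inl rfl
    · rw [← hP]; exact step_spec he hS hB hx
  have m1 := hB b hb
  have m2 := (hS _ m1).2
  have m3 := (hS _ m2).2
  have m4 := (hS _ m3).2
  have m5 := (hS _ m4).2
  rcases st m5 (st m4 (st m3 (st m2 (st m1 (.inr rfl))))) with r | r
  · rw [r]
  · rw [r, h5']; simp

theorem enum_spec (he : e ∈ W) (h5 : e ^ 5 = 1) (hS : ∀ x ∈ S, x < 240 ∧ img e x ∈ S)
    (hB : ∀ b ∈ B, b ∈ S) :
    ∀ (rest done : List ℕ), B = done ++ rest → enumB S B rest (done.map (img e)) = true →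
      B.map (img e) = B
  | [], done, hd, h => by
    rw [List.append_nil] at hd
    subst hd
    exact leaf_spec he h5 hS hB h
  | b :: rest, done, hd, h => by
    simp only [enumB, List.all_eq_true] at h
    have hbS := hB b (by rw [hd]; simp)
    have h' := h (img e b) (hS b hbS).2
    simp only [Bool.or_eq_true, Bool.not_eq_true'] at h'
    rcases h' with h' | h'
    · exfalso
      apply absurd h'
      rw [Bool.not_eq_false, List.all_eq_true]
      intro p hp
      rw [hd, List.zip_map_right, List.mem_map] at hp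
      obtain ⟨⟨a, c⟩, hac, rfl⟩ := hp
      have : a = c := by
        obtain ⟨i, hi, hie⟩ := List.getElem_of_mem hac
        simp only [List.getElem_zip, Prod.mk.injEq] at hie
        rw [← hie.1, ← hie.2, List.getElem_append_left]
      subst this
      rw [Nat.beq_eq]
      exact ipN_img he (hS b hbS).1 (hS a (hB a (by rw [hd]; exact (List.of_mem_zip hac).1))).1
    · exact enum_spec he h5 hS hB rest (done ++ [b]) (by simp [hd]) (by simpa using h')

end enum

/-- The negated roots of a word are `S`. -/
def negSetB (b S : List ℕ) : Bool :=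
  okW b && (S.all fun x => Nat.blt x 240) &&
    allLt 240 fun x => Nat.beq (evR b x) (negN x) == S.contains x

/-- The roots orthogonal to three orthogonal roots. -/
def orthB (S : List ℕ) : Bool :=
  (S.all fun x => Nat.blt x 240) &&
    allLt 240 fun x => (b3.all fun a => Nat.beq (ipN x a) 2) == S.contains x

theorem five_ok : ((allLt 3 fun i =>
    let d := negSets.getD i ([], [])
    negSetB ([b3, bD, bE].getD i []) d.1 && (d.2.all fun x => d.1.contains x) &&
      (b3.all fun a => d.2.contains a) && enumB d.1 d.2 d.2 []) &&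
    orthB orthSet.1 && (orthSet.2.all fun x => orthSet.1.contains x) &&
    enumB orthSet.1 orthSet.2 orthSet.2 [] && spanB (orthSet.2 ++ b3) orthCert) = true := by
  decide +kernel

/-- No element of order 5 centralises three or four orthogonal reflections. -/
theorem no_five {b : List ℕ} (hb : b ∈ [b3, bD, bE]) {e : O8.Z8ˣ} (he : e ∈ W) (h5 : e ^ 5 = 1)
    (hc : e * rprod b = rprod b * e) : e = 1 := by
  have h := five_ok
  simp only [Bool.and_eq_true] at h
  obtain ⟨⟨⟨⟨hthree, ho⟩, hoB⟩, hoE⟩, hspan⟩ := h
  obtain ⟨i, hi, rfl⟩ : ∃ i < 3, [b3, bD, bE].getD i [] = b := by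
    simp only [List.mem_cons, List.not_mem_nil, or_false] at hb
    rcases hb with rfl | rfl | rfl
    exacts [⟨0, by decide, rfl⟩, ⟨1, by decide, rfl⟩, ⟨2, by decide, rfl⟩]
  have h' := allLt_spec hthree i hi
  generalize [b3, bD, bE].getD i [] = b at *
  generalize negSets.getD i ([], []) = d at *
  obtain ⟨S, B⟩ := d
  simp only [Bool.and_eq_true, List.all_eq_true, List.contains_iff_mem, negSetB, Nat.blt_eq] at h'
  obtain ⟨⟨⟨⟨⟨hb', hS⟩, hset⟩, hBS⟩, hB3⟩, hen⟩ := h'
  have hS' : ∀ x ∈ S, x < 240 ∧ img e x ∈ S := by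
    intro x hx
    refine ⟨hS x hx, ?_⟩
    have h1 := allLt_spec hset x (hS x hx)
    have h2 := allLt_spec hset (img e x) (img_lt he (hS x hx))
    simp only [beq_iff_eq, List.contains_eq_mem] at h1 h2
    have hx' : evR b x = negN x := Nat.eq_of_beq_eq_true (by rw [h1]; simpa using hx)
    have hy : evR b (img e x) = negN (img e x) := by
      rw [← img_rprod (okW_spec hb') (img_lt he (hS x hx)), ← img_mul (W_of_ok hb') he (hS x hx), ← hc,
        img_mul he (W_of_ok hb') (hS x hx), img_rprod (okW_spec hb') (hS x hx), hx', img_negN he (hS x hx)]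
    rw [hy, show Nat.beq (negN (img e x)) (negN (img e x)) = true from Nat.beq_refl _] at h2
    simpa using h2.symm
  have hfix := enum_spec he h5 hS' hBS B [] rfl hen
  have hfix3 : ∀ a ∈ b3, img e a = a := fun a ha => by
    have hm := hB3 a ha
    exact (List.map_eq_map_iff.1 (hfix.trans (List.map_id B).symm)) a hm
  simp only [orthB, Bool.and_eq_true, List.all_eq_true, Nat.blt_eq] at ho
  simp only [List.all_eq_true, List.contains_iff_mem] at hoB
  have h3lt : ∀ a ∈ b3, a < 240 := by decide +kernel
  have hO : ∀ x ∈ orthSet.1, x < 240 ∧ img e x ∈ orthSet.1 := by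
    intro x hx
    refine ⟨ho.1 x hx, ?_⟩
    have h1 := allLt_spec ho.2 x (ho.1 x hx)
    have h2 := allLt_spec ho.2 (img e x) (img_lt he (ho.1 x hx))
    simp only [beq_iff_eq, List.contains_eq_mem] at h1 h2
    have hall : (b3.all fun a => Nat.beq (ipN (img e x) a) 2) = true := by
      rw [List.all_eq_true]
      intro a ha
      rw [Nat.beq_eq, ← hfix3 a ha, ipN_img he (ho.1 x hx) (h3lt a ha)]
      have hh : (b3.all fun a => Nat.beq (ipN x a) 2) = true := by rw [h1]; simpa using hx
      exact Nat.eq_of_beq_eq_true (List.all_eq_true.1 hh a ha)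
    rw [hall] at h2
    simpa using h2.symm
  have hfixO := enum_spec he h5 hO hoB orthSet.2 [] rfl hoE
  refine eq_of_span hspan (fun x hx => ?_) he (one_mem W) fun x hx => ?_
  · rcases List.mem_append.1 hx with hx | hx
    · exact ho.1 x (hoB x hx)
    · exact h3lt x hx
  · rcases List.mem_append.1 hx with hx | hx
    · rw [img_one (ho.1 x (hoB x hx))]
      exact (List.map_eq_map_iff.1 (hfixO.trans (List.map_id _).symm)) x hx
    · rw [img_one (h3lt x hx)]
      exact hfix3 x hx

theorem plane_ok : (negSetB bA [0, 2, negN 0, negN 2] && Nat.beq (evR bA 0) (negN 0) &&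
    allLt 240 fun x => !(Nat.beq (negN x) x)) = true := by decide +kernel

/-- A perfect group centralising two reflections fixes the first root. -/
theorem plane_fix {K : Subgroup O8.Z8ˣ} (hK : K ≤ W) (hperf : K ≤ ⁅K, K⁆)
    (hc : ∀ x ∈ K, x * rprod bA = rprod bA * x) {x : O8.Z8ˣ} (hx : x ∈ K) : img x 0 = 0 := by
  have h := plane_ok
  simp only [Bool.and_eq_true, negSetB, List.all_eq_true, Nat.blt_eq] at h
  obtain ⟨⟨⟨⟨hb, hS⟩, hset⟩, h0⟩, hne⟩ := h
  have hk : commutator ↥K = ⊤ := by
    refine Subgroup.map_injective K.subtype_injective ?_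
    rw [commutator_def, Subgroup.map_commutator, ← MonoidHom.range_eq_map, Subgroup.range_subtype]
    exact le_antisymm (Subgroup.commutator_le_self K) hperf
  have hmem : ∀ g : ↥K, ∀ r, r ∈ [0, 2, negN 0, negN 2] → img (g : O8.Z8ˣ) r ∈ [0, 2, negN 0, negN 2] := by
    intro g r hr
    have hg := hK g.2
    have h1 := allLt_spec hset r (hS r hr)
    have h2 := allLt_spec hset (img (g : O8.Z8ˣ) r) (img_lt hg (hS r hr))
    simp only [beq_iff_eq, List.contains_eq_mem] at h1 h2
    have hr' : evR bA r = negN r := Nat.eq_of_beq_eq_true (by rw [h1]; simpa using hr)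
    have hy : evR bA (img (g : O8.Z8ˣ) r) = negN (img (g : O8.Z8ˣ) r) := by
      rw [← img_rprod (okW_spec hb) (img_lt hg (hS r hr)), ← img_mul (W_of_ok hb) hg (hS r hr),
        ← hc _ g.2, img_mul hg (W_of_ok hb) (hS r hr), img_rprod (okW_spec hb) (hS r hr), hr',
        img_negN hg (hS r hr)]
    rw [hy, show Nat.beq (negN (img (g : O8.Z8ˣ) r)) (negN (img (g : O8.Z8ˣ) r)) = true from Nat.beq_refl _] at h2
    simpa using h2.symm
  -- the pair of lines
  have hline : ∀ g : ↥K, img (g : O8.Z8ˣ) 0 = 0 ∨ img (g : O8.Z8ˣ) 0 = negN 0 := by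
    intro g
    have e : (g : O8.Z8ˣ) * sU 0 * (g : O8.Z8ˣ)⁻¹ = sU 0 :=
      fix_of_pair hk (fun k u => (k : O8.Z8ˣ) * u * (k : O8.Z8ˣ)⁻¹) (a := sU 0) (b := sU 2)
        (fun u _ => by simp) (fun k l u _ => by simp [mul_assoc])
        (fun k u hu => by
          have hku : ∀ r, r ∈ [0, 2, negN 0, negN 2] → sU r = sU 0 ∨ sU r = sU 2 := by
            intro r hr
            simp only [List.mem_cons, List.not_mem_nil, or_false] at hr
            rcases hr with rfl | rfl | rfl | rfl
            exacts [.inl rfl, .inr rfl, .inl (sU_negN (by norm_num)), .inr (sU_negN (by norm_num))]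
          rcases hu with rfl | rfl <;> rw [conj_sU (hK k.2) (by norm_num)]
          · exact hku _ (hmem k 0 (by simp))
          · exact hku _ (hmem k 2 (by simp))) g
    rw [conj_sU (hK g.2) (by norm_num)] at e
    exact sU_eq_cases (by norm_num) (img_lt (hK g.2) (by norm_num)) (.inl e.symm)
  exact fix_of_pair hk (fun k r => img (k : O8.Z8ˣ) r) (a := 0) (b := negN 0)
    (fun r hr => img_one (hr.elim (fun e => by omega) (fun e => e ▸ negN_lt (by norm_num))))
    (fun k l r hr => img_mul (hK k.2) (hK l.2)
      (hr.elim (fun e => by omega) (fun e => e ▸ negN_lt (by norm_num))))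
    (fun k r hr => by
      rcases hr with rfl | rfl
      · exact hline k
      · rw [img_negN (hK k.2) (by norm_num)]
        rcases hline k with e | e <;> rw [e]
        · exact .inr rfl
        · exact .inl (negN_negN (by norm_num))) ⟨x, hx⟩

theorem negOne_moves : img (-1) 0 ≠ 0 := by
  rw [img_negOne (by norm_num)]
  decide +kernel

end Cfsg.Agent.O8Standard
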