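import Cfsg.Agent.Lib.O8Standard.Trees

/-!
# The tree for ordered frames
-/

set_option autoImplicit false
set_option maxRecDepth 100000

namespace Cfsg.Agent.O8Standard

/-- Part 0. -/
def frTree0 : List FNode := [
  ([], .inl [(0, [(0, 0), (1, 0), (9, 0), (11, 0), (24, 0), (26, 0), (27, 0), (38, 0), (39, 0), (42, 0), (43, 0), (53, 0), (54, 0), (57, 0), (58, 0), (59, 0), (67, 0), (68, 0), (69, 0), (73, 0), (74, 0), (75, 0), (82, 0), (83, 0), (84, 0), (89, 0), (90, 0), (91, 0), (97, 0), (98, 0), (100, 0), (104, 0), (105, 0), (110, 0), (112, 0), (116, 0), (117, 0), (123, 0), (125, 0), (129, 0), (136, 0), (141, 0), (149, 0), (187, 0), (194, 0), (195, 0), (201, 0), (202, 0), (206, 0), (208, 0), (212, 0), (213, 0), (216, 0), (217, 0), (220, 0), (221, 0), (225, 0), (1, 1), (9, 1), (11, 1), (24, 1), (26, 1), (27, 1), (38, 1), (39, 1), (42, 1), (43, 1), (53, 1), (54, 1), (57, 1),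 (58, 1), (59, 1), (67, 1), (68, 1), (69, 1), (73, 1), (74, 1), (75, 1), (82, 1), (83, 1), (84, 1), (89, 1), (90, 1), (91, 1), (97, 1), (98, 1), (100, 1), (104, 1), (105, 1), (110, 1), (112, 1), (116, 1), (117, 1), (123, 1), (125, 1), (129, 1), (136, 1), (141, 1), (149, 1), (187, 1), (194, 1), (195, 1), (201, 1), (202, 1), (206, 1), (208, 1), (212, 1), (213, 1), (216, 1), (217, 1), (220, 1), (221, 1), (225, 1), (24, 2), (38, 2), (39, 2), (53, 2), (54, 2), (59, 2), (67, 2), (68, 2), (75, 2), (82, 2), (83, 2), (90, 2), (91, 2), (97, 2), (104, 2), (105, 2), (116, 2), (117, 2), (129, 2), (141, 2), (195, 2), (202, 2), (208, 2), (212, 2), (216, 2), (217, 2), (221, 2), (11, 3), (26, 3), (27, 3), (42, 3), (43, 3), (57, 3), (58, 3), (69, 3), (73, 3), (74, 3), (84, 3), (89, 3), (98, 3), (100, 3), (110, 3), (112, 3), (123, 3), (125, 3), (136, 3), (149, 3), (187, 3), (194, 3), (201, 3),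 (206, 3), (213, 3), (220, 3), (225, 3), (38, 4), (39, 4), (53, 4), (67, 4), (82, 4), (91, 4), (105, 4), (116, 4), (117, 4), (129, 4), (141, 4), (195, 4), (202, 4), (208, 4), (212, 4), (221, 4), (26, 5), (27, 5), (42, 5), (57, 5), (73, 5), (100, 5), (112, 5), (123, 5), (125, 5), (136, 5), (149, 5), (187, 5), (194, 5), (201, 5), (206, 5), (225, 5), (53, 6), (67, 6), (82, 6), (117, 6), (129, 6), (141, 6), (195, 6), (202, 6), (208, 6), (221, 6), (91, 7), (105, 7), (116, 7), (117, 7), (129, 7), (141, 7), (195, 7), (202, 7), (208, 7), (212, 7), (42, 8), (57, 8), (73, 8), (225, 8), (100, 9), (112, 9), (123, 9), (206, 9), (67, 10), (82, 10), (221, 10), (57, 12), (73, 12), (225, 12), (82, 14), (221, 14), (73, 17), (225, 17), (221, 20), (225, 23)], 1)]),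
  ([0], .inl [(2, [(2, 0), (3, 0), (7, 0), (13, 0), (14, 0), (16, 0), (30, 0), (33, 0), (46, 0), (49, 0), (62, 0), (113, 0), (124, 0), (126, 0), (135, 0), (137, 0), (138, 0), (147, 0), (148, 0), (150, 0), (158, 0), (160, 0), (169, 0), (171, 0), (177, 0), (179, 0), (185, 0), (186, 0), (192, 0), (193, 0), (200, 0), (228, 0), (230, 0), (3, 1), (7, 1), (13, 1), (14, 1), (16, 1), (30, 1), (33, 1), (46, 1), (49, 1), (62, 1), (113, 1), (124, 1), (126, 1), (135, 1), (137, 1), (138, 1), (147, 1), (148, 1), (150, 1), (158, 1), (160, 1), (169, 1), (171, 1), (177, 1), (179, 1), (185, 1), (186, 1), (192, 1), (193, 1), (200, 1), (228, 1), (230, 1), (7, 2), (30, 2), (46, 2), (62, 2), (126, 2), (137, 2), (138, 2), (147, 2), (148, 2), (160, 2), (179, 2), (186, 2), (192, 2), (193, 2), (228, 2), (16, 3), (33, 3), (49, 3), (113, 3), (124, 3), (135, 3), (138, 3), (148, 3), (160, 3), (179, 3), (186,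 3), (193, 3), (200, 3), (230, 3), (14, 4), (16, 4), (33, 4), (49, 4), (113, 4), (124, 4), (135, 4), (200, 4), (230, 4), (30, 5), (46, 5), (62, 5), (126, 5), (137, 5), (147, 5), (192, 5), (228, 5), (46, 6), (62, 6), (126, 6), (228, 6), (33, 7), (49, 7), (113, 7), (230, 7), (62, 8), (228, 8), (49, 9), (230, 9), (228, 10), (230, 11)], 2)]),
  ([0, 2], .inl [(4, [(4, 0), (5, 0), (18, 0), (20, 0), (31, 0), (35, 0), (47, 0), (85, 0), (99, 0), (151, 0), (159, 0), (162, 0), (170, 0), (176, 0), (184, 0), (232, 0), (234, 0), (5, 1), (18, 1), (20, 1), (31, 1), (35, 1), (47, 1), (85, 1), (99, 1), (151, 1), (159, 1), (162, 1), (170, 1), (176, 1), (184, 1), (232, 1), (234, 1), (31, 2), (35, 2), (85, 2), (159, 2), (162, 2), (184, 2), (232, 2), (20, 3), (47, 3), (99, 3), (151, 3), (170, 3), (176, 3), (234, 3), (31, 4), (85, 4), (184, 4), (232, 4), (170, 5), (176, 5), (234, 5), (47, 6), (176,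 6), (234, 6), (184, 7), (232, 7)], 3)]),
  ([0, 2, 4], .inl [(6, [(6, 0), (63, 0), (78, 0), (111, 0), (122, 0), (161, 0), (168, 0), (236, 0), (238, 0), (63, 1), (78, 1), (111, 1), (122, 1), (161, 1), (168, 1), (236, 1), (238, 1), (111, 2), (161, 2), (238, 2), (122, 3), (168, 3), (236, 3)], 4), (139, [(139, 0)], 69)]),
  ([0, 2, 4, 6], .inl [(139, [(139, 0)], 5), (178, [(178, 0)], 21), (207, [(207, 0)], 37), (224, [(224, 0)], 53)]),
  ([0, 2, 4, 6, 139], .inl [(178, [(178, 0)], 6), (207, [(207, 0)], 11), (224, [(224, 0)], 16)]),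
  ([0, 2, 4, 6, 139, 178], .inl [(207, [(207, 0)], 7), (224, [(224, 0)], 9)]),
  ([0, 2, 4, 6, 139, 178, 207], .inl [(224, [(224, 0)], 8)]),
  ([0, 2, 4, 6, 139, 178, 207, 224], .inr ([2, 104, 27, 91, 7, 33, 38, 42], [5, 7, 6, 1, 4, 2, 0, 3])),
  ([0, 2, 4, 6, 139, 178, 224], .inl [(207, [(207, 0)], 10)]),
  ([0, 2, 4, 6, 139, 178, 224, 207], .inr ([2, 147, 7, 33, 26, 112, 1, 90], [4, 0, 6, 7, 3, 1, 2, 5])),
  ([0, 2, 4, 6, 139, 207], .inl [(178, [(178, 0)], 12), (224, [(224, 0)], 14)]),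
  ([0, 2, 4, 6, 139, 207, 178], .inl [(224, [(224, 0)], 13)]),
  ([0, 2, 4, 6, 139, 207, 178, 224], .inr ([139, 63, 57, 161, 13, 16, 73, 221], [2, 5, 1, 3, 7, 0, 6, 4])),
  ([0, 2, 4, 6, 139, 207, 224], .inl [(178, [(178, 0)], 15)]),
  ([0, 2, 4, 6, 139, 207, 224, 178], .inr ([111, 0, 161, 195, 62, 160, 16, 124, 9, 74], [7, 5, 1, 6, 2, 3, 0, 4])),
  ([0, 2, 4, 6, 139, 224], .inl [(178, [(178, 0)], 17), (207, [(207, 0)], 19)]),
  ([0, 2, 4, 6, 139, 224, 178], .inl [(207, [(207, 0)], 18)]),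
  ([0, 2, 4, 6, 139, 224, 178, 207], .inr ([63, 138, 38, 42, 89, 216, 27, 91], [6, 2, 0, 5, 7, 4, 3, 1])),
  ([0, 2, 4, 6, 139, 224, 207], .inl [(178, [(178, 0)], 20)]),
  ([0, 2, 4, 6, 139, 224, 207, 178], .inr ([20, 161, 5, 31], [0, 1, 7, 3, 4, 6, 5, 2])),
  ([0, 2, 4, 6, 178], .inl [(139, [(139, 0)], 22), (207, [(207, 0)], 27), (224, [(224, 0)], 32)]),
  ([0, 2, 4, 6, 178, 139], .inl [(207, [(207, 0)], 23), (224, [(224, 0)], 25)]),
  ([0, 2, 4, 6, 178, 139, 207], .inl [(224, [(224, 0)], 24)]),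
  ([0, 2, 4, 6, 178, 139, 207, 224], .inr ([4, 161, 2, 68, 42, 105, 141, 225, 1, 90], [4, 2, 7, 6, 1, 3, 5, 0])),
  ([0, 2, 4, 6, 178, 139, 224], .inl [(207, [(207, 0)], 26)]),
  ([0, 2, 4, 6, 178, 139, 224, 207], .inr ([161, 2, 4, 150, 123, 129, 11, 74, 27, 91], [6, 7, 0, 4, 5, 2, 1, 3])),
  ([0, 2, 4, 6, 178, 207], .inl [(139, [(139, 0)], 28), (224, [(224, 0)], 30)]),
  ([0, 2, 4, 6, 178, 207, 139], .inl [(224, [(224, 0)], 29)]),
  ([0, 2, 4, 6, 178, 207, 139, 224], .inr ([6, 111, 9, 11], [1, 0, 5, 4, 7, 3, 6, 2])),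
  ([0, 2, 4, 6, 178, 207, 224], .inl [(139, [(139, 0)], 31)]),
  ([0, 2, 4, 6, 178, 207, 224, 139], .inr ([2, 0, 4, 58, 42, 105, 1, 83, 73, 221], [2, 4, 7, 5, 0, 1, 6, 3])),
  ([0, 2, 4, 6, 178, 224], .inl [(139, [(139, 0)], 33), (207, [(207, 0)], 35)]),
  ([0, 2, 4, 6, 178, 224, 139], .inl [(207, [(207, 0)], 34)]),
  ([0, 2, 4, 6, 178, 224, 139, 207], .inr ([139, 111, 16, 161, 5, 31, 49, 228], [0, 2, 7, 3, 1, 4, 6, 5])),
  ([0, 2, 4, 6, 178, 224, 207], .inl [(139, [(139, 0)], 36)]),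
  ([0, 2, 4, 6, 178, 224, 207, 139], .inr ([63, 139, 2, 186, 14, 171, 9, 11, 38, 42], [5, 0, 3, 1, 6, 2, 4, 7])),
  ([0, 2, 4, 6, 207], .inl [(139, [(139, 0)], 38), (178, [(178, 0)], 43), (224, [(224, 0)], 48)]),
  ([0, 2, 4, 6, 207, 139], .inl [(178, [(178, 0)], 39), (224, [(224, 0)], 41)]),
  ([0, 2, 4, 6, 207, 139, 178], .inl [(224, [(224, 0)], 40)]),
  ([0, 2, 4, 6, 207, 139, 178, 224], .inr ([161, 179, 38, 42, 1, 83, 73, 221], [2, 4, 0, 6, 7, 5, 1, 3])),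
  ([0, 2, 4, 6, 207, 139, 224], .inl [(178, [(178, 0)], 42)]),
  ([0, 2, 4, 6, 207, 139, 224, 178], .inr ([0, 4, 2, 136, 3, 137, 57, 91, 9, 74], [7, 6, 3, 2, 4, 1, 5, 0])),
  ([0, 2, 4, 6, 207, 178], .inl [(139, [(139, 0)], 44), (224, [(224, 0)], 46)]),
  ([0, 2, 4, 6, 207, 178, 139], .inl [(224, [(224, 0)], 45)]),
  ([0, 2, 4, 6, 207, 178, 139, 224], .inr ([0, 74, 97, 213, 7, 113, 38, 42], [5, 6, 3, 0, 7, 1, 2, 4])),
  ([0, 2, 4, 6, 207, 178, 224], .inl [(139, [(139, 0)], 47)]),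
  ([0, 2, 4, 6, 207, 178, 224, 139], .inr ([111, 63, 0, 149, 39, 187, 38, 42, 9, 11], [1, 5, 3, 2, 0, 7, 6, 4])),
  ([0, 2, 4, 6, 207, 224], .inl [(139, [(139, 0)], 49), (178, [(178, 0)], 51)]),
  ([0, 2, 4, 6, 207, 224, 139], .inl [(178, [(178, 0)], 50)]),
  ([0, 2, 4, 6, 207, 224, 139, 178], .inr ([9, 83, 135, 192, 43, 68, 26, 117], [3, 6, 5, 7, 0, 4, 2, 1])),
  ([0, 2, 4, 6, 207, 224, 178], .inl [(139, [(139, 0)], 52)]),
  ([0, 2, 4, 6, 207, 224, 178, 139], .inr ([49, 111, 7, 33], [0, 7, 5, 4, 2, 6, 1, 3])),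
  ([0, 2, 4, 6, 224], .inl [(139, [(139, 0)], 54), (178, [(178, 0)], 59), (207, [(207, 0)], 64)]),
  ([0, 2, 4, 6, 224, 139], .inl [(178, [(178, 0)], 55), (207, [(207, 0)], 57)]),
  ([0, 2, 4, 6, 224, 139, 178], .inl [(207, [(207, 0)], 56)]),
  ([0, 2, 4, 6, 224, 139, 178, 207], .inr ([38, 117, 129, 201, 27, 91, 9, 11], [1, 6, 4, 3, 0, 2, 7, 5])),
  ([0, 2, 4, 6, 224, 139, 207], .inl [(178, [(178, 0)], 58)]),
  ([0, 2, 4, 6, 224, 139, 207, 178], .inr ([139, 194, 26, 112, 14, 46, 1, 90], [4, 1, 3, 2, 0, 5, 7, 6])),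
  ([0, 2, 4, 6, 224, 178], .inl [(139, [(139, 0)], 60), (207, [(207, 0)], 62)]),
  ([0, 2, 4, 6, 224, 178, 139], .inl [(207, [(207, 0)], 61)]),
  ([0, 2, 4, 6, 224, 178, 139, 207], .inr ([4, 111, 206, 63, 26, 117, 9, 11], [1, 3, 7, 4, 2, 5, 6, 0])),
  ([0, 2, 4, 6, 224, 178, 207], .inl [(139, [(139, 0)], 63)]),
  ([0, 2, 4, 6, 224, 178, 207, 139], .inr ([46, 161, 73, 149, 1, 83, 38, 42], [5, 4, 0, 3, 6, 1, 7, 2]))]

/-- Part 1. -/
def frTree1 : List FNode := [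
  ([0, 2, 4, 6, 224, 207], .inl [(139, [(139, 0)], 65), (178, [(178, 0)], 67)]),
  ([0, 2, 4, 6, 224, 207, 139], .inl [(178, [(178, 0)], 66)]),
  ([0, 2, 4, 6, 224, 207, 139, 178], .inr ([3, 4, 35, 159, 7, 33], [0, 7, 6, 5, 4, 1, 2, 3])),
  ([0, 2, 4, 6, 224, 207, 178], .inl [(139, [(139, 0)], 68)]),
  ([0, 2, 4, 6, 224, 207, 178, 139], .inr ([6, 161, 13, 16, 7, 113], [0, 6, 1, 3, 7, 2, 4, 5])),
  ([0, 2, 4, 139], .inl [(6, [(6, 0), (63, 0), (78, 0), (111, 0), (122, 0), (161, 0), (168, 0), (236, 0), (238, 0), (63, 1), (78, 1), (111, 1), (122, 1), (161, 1), (168, 1), (236, 1), (238, 1), (111, 2), (161, 2), (238, 2), (122, 3), (168, 3), (236, 3)], 70)]),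
  ([0, 2, 4, 139, 6], .inl [(178, [(178, 0)], 71), (207, [(207, 0)], 76), (224, [(224, 0)], 81)]),
  ([0, 2, 4, 139, 6, 178], .inl [(207, [(207, 0)], 72), (224, [(224, 0)], 74)]),
  ([0, 2, 4, 139, 6, 178, 207], .inl [(224, [(224, 0)], 73)]),
  ([0, 2, 4, 139, 6, 178, 207, 224], .inr ([111, 122, 18, 151, 9, 11], [1, 0, 6, 5, 7, 4, 3, 2])),
  ([0, 2, 4, 139, 6, 178, 224], .inl [(207, [(207, 0)], 75)]),
  ([0, 2, 4, 139, 6, 178, 224, 207], .inr ([49, 139, 43, 75, 11, 74, 26, 117], [3, 7, 5, 0, 6, 1, 4, 2])),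
  ([0, 2, 4, 139, 6, 207], .inl [(178, [(178, 0)], 77), (224, [(224, 0)], 79)]),
  ([0, 2, 4, 139, 6, 207, 178], .inl [(224, [(224, 0)], 78)]),
  ([0, 2, 4, 139, 6, 207, 178, 224], .inr ([111, 39, 91, 4, 13, 16, 7, 33, 73, 221], [2, 7, 1, 5, 6, 4, 0, 3])),
  ([0, 2, 4, 139, 6, 207, 224], .inl [(178, [(178, 0)], 80)]),
  ([0, 2, 4, 139, 6, 207, 224, 178], .inr ([0, 139, 202, 4, 5, 162, 26, 117, 9, 11], [1, 3, 4, 5, 2, 6, 7, 0])),
  ([0, 2, 4, 139, 6, 224], .inl [(178, [(178, 0)], 82), (207, [(207, 0)], 84)]),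
  ([0, 2, 4, 139, 6, 224, 178], .inl [(207, [(207, 0)], 83)]),
  ([0, 2, 4, 139, 6, 224, 178, 207], .inr ([2, 111, 63, 98, 116, 206, 3, 138, 27, 91], [6, 3, 5, 2, 0, 7, 4, 1])),
  ([0, 2, 4, 139, 6, 224, 207], .inl [(178, [(178, 0)], 85)]),
  ([0, 2, 4, 139, 6, 224, 207, 178], .inr ([116, 63, 26, 117], [3, 1, 7, 6, 5, 2, 0, 4]))]

/-- All nodes. -/
def frTree : List FNode := frTree0 ++ frTree1

theorem frTree_ok : frameTreeB FR frTree = true := by decide +kernel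

end Cfsg.Agent.O8Standard
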