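import Cfsg.Agent.Lib.O8Standard.Witness

/-!
# The permutations of a frame

* `exists_frame_map` : an ordered frame is mapped to the standard one in some order
* `aPerm`, `gPerm` : two permutations realised on the standard frame and on a conjugate one
* `bad_impossible` : the certificate permutation is realised by no element of `W`
-/

set_option autoImplicit false
set_option maxRecDepth 100000

namespace Cfsg.Agent.O8Standard

open Cfsg.Agent.Multiplier

/-- The orders that occur. -/
def rhoList : List (List ℕ) := badWords.map Prod.fst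

/-- The position of `x`. -/
def rinv (rho : List ℕ) (x : ℕ) : ℕ := rho.findIdx (fun y => Nat.beq y x)

/-- A permutation of the standard frame. -/
def aPerm (k i : ℕ) : ℕ := (frAut.getD k ([], [])).1.getD i 8

/-- The permutation moved to another order. -/
def bPerm (rho : List ℕ) (k i : ℕ) : ℕ := rinv rho (aPerm k (rho.getD i 8))

/-- Exchanges `0` and `1`. -/
def sw : ℕ → ℕ
  | 0 => 1
  | 1 => 0
  | n + 2 => n + 2

/-- An extension fixing `0`. -/
def lift9 (p : ℕ → ℕ) : ℕ → ℕ
  | 0 => 0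
  | i + 1 => p i + 1

/-- The four generating permutations of nine points. -/
def gPerm (rho : List ℕ) : ℕ → ℕ → ℕ
  | 0, i => lift9 (aPerm 0) i
  | 1, i => lift9 (aPerm 1) i
  | k + 2, i => sw (lift9 (bPerm rho k) (sw i))

/-- The composite along a word. -/
def wPerm (rho : List ℕ) : List ℕ → ℕ → ℕ
  | [], i => i
  | k :: w, i => gPerm rho k (wPerm rho w i)

theorem frame_ok : ((allLt 2 fun k => let d := frAut.getD k ([], [])
      evenW d.2 && allLt 8 fun i => Nat.blt (aPerm k i) 8 &&
        (Nat.beq (evR d.2 (fR i)) (fR (aPerm k i)) || Nat.beq (evR d.2 (fR i)) (negN (fR (aPerm k i))))) &&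
    (rhoList.all fun rho => Nat.beq rho.length 8 &&
      allLt 8 fun i => Nat.blt (rho.getD i 8) 8 && Nat.beq (rinv rho (rho.getD i 8)) i &&
        Nat.blt (rinv rho i) 8 && Nat.beq (rho.getD (rinv rho i) 8) i) &&
    frTree.all fun n => match n.2 with
      | .inl _ => true
      | .inr d => rhoList.contains d.2) = true := by
  decide +kernel

theorem aPerm_spec {k : ℕ} (hk : k < 2) : ∃ a ∈ M1, ∀ i < 8, aPerm k i < 8 ∧
    (img a (fR i) = fR (aPerm k i) ∨ img a (fR i) = negN (fR (aPerm k i))) := by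
  have h := frame_ok
  simp only [Bool.and_eq_true] at h
  have h' := allLt_spec h.1.1 k hk
  simp only [Bool.and_eq_true] at h'
  refine ⟨_, M1_of_even h'.1, fun i hi => ?_⟩
  have h'' := allLt_spec h'.2 i hi
  have he := h'.1
  simp only [evenW, Bool.and_eq_true] at he
  simp only [Bool.and_eq_true, Bool.or_eq_true, Nat.blt_eq, Nat.beq_eq] at h''
  rw [img_rprod (okW_spec he.1) (fR_lt hi)]
  exact h''

theorem rho_spec {rho : List ℕ} (hr : rho ∈ rhoList) {i : ℕ} (hi : i < 8) :
    rho.getD i 8 < 8 ∧ rinv rho (rho.getD i 8) = i ∧ rinv rho i < 8 ∧ rho.getD (rinv rho i) 8 = i := by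
  have h := frame_ok
  simp only [Bool.and_eq_true, List.all_eq_true] at h
  have h' := allLt_spec (h.1.2 rho hr).2 i hi
  simp only [Bool.and_eq_true, Nat.blt_eq, Nat.beq_eq] at h'
  exact ⟨h'.1.1.1, h'.1.1.2, h'.1.2, h'.2⟩

/-- An ordered frame is mapped to the standard one in one of the orders listed. -/
theorem exists_frame_map (t : ℕ → ℕ) (ht : ∀ j < 8, t j < 240)
    (ho : ∀ a < 8, ∀ b < 8, a ≠ b → ipN (t a) (t b) = 2) :
    ∃ v ∈ W, ∃ rho ∈ rhoList, ∀ j < 8, rho.getD j 8 < 8 ∧ img v (t j) = fR (rho.getD j 8) := by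
  have hb := frTree_ok
  simp only [frameTreeB, Bool.and_eq_true, decide_eq_true_eq] at hb
  have h0 : 0 < frTree.length := by decide +kernel
  have hnil : (frTree.getD 0 ([], .inl [])).1 = [] := by decide +kernel
  obtain ⟨v, hv, m, hm, w, rho, hn, hj⟩ :=
    descendFrame frTree_ok _ 0 h0 rfl t ht ho (by rw [hnil]; intro j hj; simp at hj)
  refine ⟨v, hv, rho, ?_, hj⟩
  have h := frame_ok
  simp only [Bool.and_eq_true, List.all_eq_true] at h
  have hmem : frTree.getD m ([], .inl []) ∈ frTree := by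
    rw [List.getD_eq_getElem _ _ hm]; exact List.getElem_mem hm
  have h' := h.2 _ hmem
  rw [hn] at h'
  simpa using h'

/-- The bad permutation of a row. -/
def badB (d : List ℕ × List ℕ × List ℕ × ℕ) : Bool :=
  let h := wPerm d.1 d.2.1
  let c := d.2.2.1
  Nat.beq (h 0) 0 && (d.2.1.all fun k => Nat.blt k 4) && Nat.blt d.2.2.2 8 &&
    Nat.beq c.length 4 &&
    (c.all fun i => Nat.blt i 8 && Nat.blt 0 (h (i + 1)) && Nat.blt (h (i + 1)) 9) &&
    (allLt 8 fun l => decide ((2 : ℤ) ∣ combL [1, 1, 1, 1] (c.map fR) l)) &&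
    decide (¬ (2 : ℤ) ∣ combL [1, 1, 1, 1] (c.map fun i => fR (h (i + 1) - 1)) d.2.2.2)

theorem badWords_ok : badWords.all badB = true := by decide +kernel

theorem exists_bad {rho : List ℕ} (hr : rho ∈ rhoList) : ∃ w c j,
    (∀ k ∈ w, k < 4) ∧ wPerm rho w 0 = 0 ∧ badB (rho, w, c, j) = true := by
  simp only [rhoList, List.mem_map] at hr
  obtain ⟨⟨rho', w, c, j⟩, hm, rfl⟩ := hr
  have h := List.all_eq_true.1 badWords_ok _ hm
  have h' := h
  simp only [badB, Bool.and_eq_true, List.all_eq_true, Nat.blt_eq, Nat.beq_eq] at h'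
  exact ⟨w, c, j, h'.1.1.1.1.1.2, h'.1.1.1.1.1.1, h⟩

theorem comb_sign : ∀ (cs : List ℤ) (as bs : List ℕ), as.length = bs.length →
    (∀ p ∈ as.zip bs, rv p.1 = rv p.2 ∨ rv p.1 = -rv p.2) →
    ∀ l, (2 : ℤ) ∣ comb cs as l - comb cs bs l
  | [], _, _, _, _, _ => by simp [comb]
  | _ :: _, [], [], _, _, _ => by simp [comb]
  | c :: cs, a :: as, b :: bs, hl, h, l => by
    have ih := comb_sign cs as bs (by simpa using hl) (fun p hp => h p (by simp [hp])) l
    simp only [comb, Pi.add_apply, Pi.smul_apply, smul_eq_mul]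
    rcases h (a, b) (by simp) with e | e <;> rw [show rv a = _ from e]
    · simpa using ih
    · rw [Pi.neg_apply, show c * -rv b l + comb cs as l - (c * rv b l + comb cs bs l) =
        (comb cs as l - comb cs bs l) - 2 * (c * rv b l) by ring]
      exact dvd_sub ih (dvd_mul_right _ _)

theorem even_mulVec {u : O8.Z8ˣ} {v : Fin 8 → ℤ} (h : ∀ l, (2 : ℤ) ∣ v l) (l : Fin 8) :
    (2 : ℤ) ∣ ((u : O8.Z8).mulVec v) l := by
  simp only [Matrix.mulVec, dotProduct]
  exact
  Finset.dvd_sum fun m _ => dvd_mul_of_dvd_right (h m) _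

/-- No element of `W` induces the bad permutation on the lines of the standard frame. -/
theorem bad_impossible {rho w c : List ℕ} {j : ℕ} (h : badB (rho, w, c, j) = true) {x : O8.Z8ˣ}
    (hx : x ∈ W) (hp : ∀ i < 8, img x (fR i) = fR (wPerm rho w (i + 1) - 1) ∨
      img x (fR i) = negN (fR (wPerm rho w (i + 1) - 1))) : False := by
  simp only [badB, Bool.and_eq_true, List.all_eq_true, Nat.blt_eq, Nat.beq_eq, decide_eq_true_eq] at h
  obtain ⟨⟨⟨⟨⟨-, hj⟩, -⟩, hc⟩, heven⟩, hodd⟩ := h
  apply hodd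
  have h8 : ∀ i ∈ c, i < 8 := fun i hi => (hc i hi).1.1
  have hlt : ∀ r ∈ c.map fR, r < 240 := fun r hr => by
    obtain ⟨i, hi, rfl⟩ := List.mem_map.1 hr
    exact fR_lt (h8 i hi)
  have e1 : ∀ l : Fin 8, (2 : ℤ) ∣ comb [1, 1, 1, 1] ((c.map fR).map (img x)) l := by
    intro l
    rw [← mulVec_comb hx _ _ hlt]
    refine even_mulVec (fun m => ?_) l
    rw [comb_apply]
    exact of_decide_eq_true (allLt_spec heven m m.2)
  have e2 := comb_sign [1, 1, 1, 1] ((c.map fR).map (img x))
    (c.map fun i => fR (wPerm rho w (i + 1) - 1)) (by simp) (fun p hp' => by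
      rw [List.map_map, List.zip_map', List.mem_map] at hp'
      obtain ⟨i, hi, rfl⟩ := hp'
      have h' := hc i hi
      rcases hp i (h8 i hi) with e | e
      · exact .inl (by simp [e])
      · exact .inr (by simp [e, rv_negN (fR_lt (show wPerm rho w (i + 1) - 1 < 8 by omega))]))
    ⟨j, hj⟩
  have := dvd_sub (e1 ⟨j, hj⟩) e2
  rw [sub_sub_cancel, comb_apply] at this
  exact this

end Cfsg.Agent.O8Standard
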