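import Cfsg.Agent.Lib.O8Standard.Refl
import Cfsg.Agent.Lib.ZStar.Apply
import Cfsg.Agent.Lib.ZStar.Unique

/-!
# Standard subgroups isomorphic to the double cover of O8+(2)

Main result: `normal_of_setting`: with cyclic Sylow 2-subgroups of the centraliser and trivial
core, such a subgroup is normal.
-/

set_option autoImplicit false
set_option linter.unusedSectionVars false

open Cfsg

namespace Cfsg.Agent.O8Standard

open Cfsg.Agent.Multiplier

universe u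

variable {G : Type u} [Group G] [Finite G] {L : Subgroup G} {ι : O8.Z8ˣ → G}

theorem rep_ne_negOne : rprod bA ≠ -1 ∧ rprod bD ≠ -1 ∧ rprod bE ≠ -1 := by
  have key : ∀ b : List ℕ, okW b = true → eqW b FR = false → rprod b ≠ -1 := fun b hb he e => by
    rw [eqW_of_eq hb (by decide +kernel) (e.trans rprod_FR.symm)] at he
    cases he
  exact ⟨key _ (by decide +kernel) (by decide +kernel), key _ (by decide +kernel) (by decide +kernel),
    key _ (by decide +kernel) (by decide +kernel)⟩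

theorem rep_comm : ∀ b ∈ [bA, bD, bE], sU 0 * rprod b = rprod b * sU 0 ∧ rprod b ∈ M1 := by
  intro b hb
  simp only [List.mem_cons, List.not_mem_nil, or_false] at hb
  rcases hb with rfl | rfl | rfl <;> refine ⟨?_, M1_of_even (by decide +kernel)⟩ <;>
    rw [← rprod_bS] <;> exact comm_of_comW (by decide +kernel)

namespace Setting

/-- Conjugates of one class are conjugate in the component. -/
theorem inn_conj (S : Setting L ι) {b : List ℕ} (hb : b ∈ [bA, bD, bE]) {p q : G}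
    (hp : Inn ι (rprod b) p) (hq : Inn ι (rprod b) q) : ∃ k : G, k * p * k⁻¹ = q := by
  obtain ⟨hs, hbM⟩ := rep_comm b hb
  obtain ⟨v, hv, rfl⟩ := hp
  obtain ⟨w, hw, rfl⟩ := hq
  obtain ⟨a, haM, ha⟩ : ∃ a ∈ M1, a * (v * rprod b * v⁻¹) * a⁻¹ = w * rprod b * w⁻¹ := by
    by_cases h : w * v⁻¹ ∈ M1
    · exact ⟨_, h, by group⟩
    · refine ⟨w * sU 0 * v⁻¹, ?_, ?_⟩
      · have hs0 := not_mem_sU (show 0 < 240 by norm_num)
        have h0 := sU_mem 0 (show 0 < 240 by norm_num)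
        rw [mul_mem_M1_iff hw (inv_mem hv), inv_mem_iff] at h
        rw [mul_mem_M1_iff (mul_mem hw h0) (inv_mem hv), mul_mem_M1_iff hw h0, inv_mem_iff]
        tauto
      · calc w * sU 0 * v⁻¹ * (v * rprod b * v⁻¹) * (w * sU 0 * v⁻¹)⁻¹
            = w * (sU 0 * rprod b) * (sU 0)⁻¹ * w⁻¹ := by group
          _ = w * rprod b * w⁻¹ := by rw [hs]; group
  refine ⟨ι a, ?_⟩
  rw [← S.map_inv haM, ← S.hmul _ haM _ (conj_mem_M1 hv hbM),
    ← S.hmul _ (mul_mem haM (conj_mem_M1 hv hbM)) _ (inv_mem haM), ha]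

theorem cz_of_inn (S : Setting L ι) {b : List ℕ} (hb : b ∈ [bA, bD, bE]) {p q : G} (hp : CZ L ι p)
    (hip : Inn ι (rprod b) p) (hiq : Inn ι (rprod b) q) : CZ L ι q := by
  obtain ⟨k, hk⟩ := S.inn_conj hb hip hiq
  obtain ⟨g, hg⟩ := hp.1
  obtain ⟨v, hv, rfl⟩ := hiq
  obtain ⟨hs, hbM⟩ := rep_comm b hb
  refine ⟨⟨k * g, by rw [← hk, ← hg]; group⟩, S.mem_N (conj_mem_M1 hv hbM), fun e => ?_⟩
  have e' := S.inj _ (conj_mem_M1 hv hbM) _ negOne_mem_M1 e
  have e'' : rprod b = -1 := by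
    calc rprod b = v⁻¹ * (v * rprod b * v⁻¹) * v := by group
      _ = -1 := by rw [e', mul_neg, mul_one, neg_mul, inv_mul_cancel]
  simp only [List.mem_cons, List.not_mem_nil, or_false] at hb
  rcases hb with rfl | rfl | rfl
  exacts [rep_ne_negOne.1 e'', rep_ne_negOne.2.1 e'', rep_ne_negOne.2.2 e'']

theorem phi_cz (S : Setting L ι) {g q : G} (hq : ∃ k : G, k * ι (-1) * k⁻¹ = q)
    (hc : q * (g * ι (-1) * g⁻¹) = g * ι (-1) * g⁻¹ * q) (hne : q ≠ g * ι (-1) * g⁻¹) :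
    CZ L ι (g⁻¹ * q * g) := by
  obtain ⟨k, hk⟩ := hq
  exact ⟨⟨g⁻¹ * k, by rw [← hk]; group⟩, S.conj_N hc, fun e => hne (by rw [← e]; group)⟩

theorem no_A_base (S : Setting L ι) {y : G} (hy : CZ L ι y) : y ≠ ι (rprod bA) := by
  intro e
  obtain ⟨g, hg⟩ := hy.1
  obtain ⟨hA, -, -, -, -, -⟩ := rep_mem_M1
  obtain ⟨hxM, hxc, ⟨v1, hv1, e1⟩, ⟨v2, hv2, e2⟩⟩ := exists_x
  have hyA : Inn ι (rprod bA) y := ⟨1, one_mem _, by rw [e, one_mul, inv_one, mul_one]⟩
  have hx : CZ L ι (ι (rprod xWord)) :=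
    S.cz_of_inn (b := bA) (by simp) hy hyA ⟨v1⁻¹, inv_mem hv1, by congr 1; rw [← e1]; group⟩
  have hyx : CZ L ι (ι (rprod bA * rprod xWord)) :=
    S.cz_of_inn (b := bA) (by simp) hy hyA ⟨v2⁻¹, inv_mem hv2, by
      congr 1
      have e3 : rprod bA * rprod xWord = v2⁻¹ * (v2 * (rprod bA * rprod xWord) * v2⁻¹) * v2 := by group
      rw [e2] at e3
      rw [e3]; group⟩
  have hxy : ι (rprod xWord) * y = y * ι (rprod xWord) := by rw [e]; exact (S.comm_iff hxM hA).2 hxc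
  have hne : ι (rprod xWord) ≠ y := fun h => (S.cz_invol hyx).2 (by
    rw [S.hmul _ hA _ hxM, h, ← e]; exact (S.cz_invol hy).1)
  have hx' : CZ L ι (g⁻¹ * ι (rprod xWord) * g) := S.phi_cz hx.1 (by rw [hg]; exact hxy) (by rw [hg]; exact hne)
  obtain ⟨K, hK, hc⟩ := perfect_X
  obtain ⟨h3, hD, hE⟩ := S.no_five_class hK (g := g) (q := ι (rprod xWord))
    (fun u hu => by rw [hg, e]; exact (S.comm_iff (hK.le hu) hA).2 (hc u hu).1)
    (fun u hu => (S.comm_iff (hK.le hu) hxM).2 (hc u hu).2)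
  by_cases hLC : InLC ι (g⁻¹ * ι (rprod xWord) * g)
  · rcases S.inner_of_inLC hx' hLC with ⟨v, hv, h⟩ | k | k | k
    · have hzx : g⁻¹ * ι (rprod bA * rprod xWord) * g = ι (-1) * (g⁻¹ * ι (rprod xWord) * g) := by
        rw [S.hmul _ hA _ hxM, ← e, ← hg]
        group
      have hq : CZ L ι (g⁻¹ * ι (rprod bA * rprod xWord) * g) := S.phi_cz hyx.1
        (by rw [hg, S.hmul _ hA _ hxM, ← e, mul_assoc, hxy])
        (by rw [hg, S.hmul _ hA _ hxM, ← e]; exact fun h => (S.cz_invol hx).2 (mul_eq_left.1 h))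
      refine S.no_negA hq ⟨v, hv, ?_⟩
      rw [hzx, h, ← S.map_neg (conj_mem_M1 hv hA), mul_neg, neg_mul]
    · exact S.no_negA hx' k
    · exact hD k
    · exact hE k
  · exact (S.outer_of_not_inLC hx' hLC).elim (S.no_refl hx') h3

theorem no_A (S : Setting L ι) {y : G} (hy : CZ L ι y) : ¬ Inn ι (rprod bA) y := fun h => by
  obtain ⟨ι', S', hy', -, e⟩ := S.inn_rebase h hy
  exact S'.no_A_base hy' e

theorem inner_DE (S : Setting L ι) {y : G} (hy : CZ L ι y) (h : InLC ι y) :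
    ∃ b ∈ [bD, bE], Inn ι (rprod b) y := by
  rcases S.inner_of_inLC hy h with k | k | k | k
  · exact absurd k (S.no_A hy)
  · exact absurd k (S.no_negA hy)
  · exact ⟨bD, by simp, k⟩
  · exact ⟨bE, by simp, k⟩

/-- Inner conjugates stay conjugates after multiplication by `z`. -/
theorem twin (S : Setting L ι) {q : G} (hq : CZ L ι q) (h : InLC ι q) : CZ L ι (ι (-1) * q) := by
  obtain ⟨b, hb, v, hv, e⟩ := S.inner_DE hq h
  obtain ⟨k, hk, hkb⟩ := neg_conj hb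
  have hb' : b ∈ [bA, bD, bE] := List.mem_cons_of_mem _ hb
  refine S.cz_of_inn hb' hq ⟨v, hv, e⟩ ⟨v * k⁻¹, mul_mem hv (inv_mem hk), ?_⟩
  have e1 : -rprod b = k⁻¹ * (k * -rprod b * k⁻¹) * k := by group
  rw [hkb] at e1
  rw [e, ← S.map_neg (conj_mem_M1 hv (rep_comm b hb').2)]
  congr 1
  rw [show -(v * rprod b * v⁻¹) = v * -rprod b * v⁻¹ by rw [mul_neg, neg_mul], e1]
  group

theorem no_three_base (S : Setting L ι) {y : G} (hy : CZ L ι y) : ¬ Ind ι y (rprod b3) := by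
  intro hind
  obtain ⟨g, hg⟩ := hy.1
  obtain ⟨-, -, hD, -, -, h3M⟩ := rep_mem_M1
  obtain ⟨hy2, -⟩ := S.cz_invol hy
  have hnLC : ¬ InLC ι y := fun h => h3M ((S.LC_mem_iff hind).1 h)
  have hcomm : ∀ k ∈ M1, k * rprod b3 = rprod b3 * k → ι k * y = y * ι k := fun k hk e => by
    have e' := hind.2 k hk
    rw [← e, mul_inv_cancel_right, mul_inv_eq_iff_eq_mul] at e'
    exact e'.symm
  have hsq : ∀ x ∈ sqSub (rprod b3), x ∈ M1 ∧ x * rprod b3 = rprod b3 * x ∧ InLC ι (g⁻¹ * ι x * g) := by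
    intro x hx
    induction hx using Subgroup.closure_induction with
    | mem x hx =>
      obtain ⟨k, hk, hkb, rfl⟩ := hx
      refine ⟨mul_mem hk hk, by rw [mul_assoc, hkb, ← mul_assoc, hkb, mul_assoc], ?_⟩
      have := S.inLC_sq (S.conj_N (g := g) (q := ι k) (by rw [hg]; exact hcomm k hk hkb))
      rwa [show g⁻¹ * ι k * g * (g⁻¹ * ι k * g) = g⁻¹ * (ι k * ι k) * g by group,
        ← S.hmul _ hk _ hk] at this
    | one =>
      refine ⟨one_mem _, by simp, ?_⟩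
      rw [show g⁻¹ * ι 1 * g = ι 1 by rw [S.map_one]; group]
      exact S.inLC_elt (one_mem M1)
    | mul a b _ _ ha hb =>
      refine ⟨mul_mem ha.1 hb.1, by rw [mul_assoc, hb.2.1, ← mul_assoc, ha.2.1, mul_assoc], ?_⟩
      have := S.inLC_mul ha.2.2 hb.2.2
      rwa [show g⁻¹ * ι a * g * (g⁻¹ * ι b * g) = g⁻¹ * (ι a * ι b) * g by group,
        ← S.hmul _ ha.1 _ hb.1] at this
    | inv a _ ha =>
      refine ⟨inv_mem ha.1, (Commute.inv_left (show Commute a _ from ha.2.1)).eq, ?_⟩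
      have := S.inLC_inv ha.2.2
      rwa [show (g⁻¹ * ι a * g)⁻¹ = g⁻¹ * (ι a)⁻¹ * g by group, ← S.map_inv ha.1] at this
  have hsq3 : rprod b3 * rprod b3 = 1 := by
    rw [← rprod_append, eq_of_eqW (l := b3 ++ b3) (m := []) (by decide +kernel), rprod_nil]
  -- the first element
  obtain ⟨a, ha, u, hu, v, hv, hau, hav⟩ := exists_a1
  obtain ⟨haM, hac, haLC⟩ := hsq a ha
  have hea : a = v⁻¹ * rprod bD * v⁻¹⁻¹ := by rw [← hav]; group
  have hya : ι u * y * (ι u)⁻¹ = y * ι a := by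
    have h3W : rprod b3 ∈ W := W_of_ok (by decide +kernel)
    have hm := conj_mem_M1 h3W hu
    have e1 : y * ι u * y = ι (rprod b3 * u * (rprod b3)⁻¹) := by
      rw [← hind.2 u hu, inv_eq_of_mul_eq_one_right hy2]
    calc ι u * y * (ι u)⁻¹ = y * y * (ι u * y * (ι u)⁻¹) := by rw [hy2, one_mul]
      _ = y * (y * ι u * y * (ι u)⁻¹) := by group
      _ = y * ι (rprod b3 * u * (rprod b3)⁻¹ * u⁻¹) := by
          rw [e1, S.hmul _ hm _ (inv_mem hu), S.map_inv hu]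
      _ = y * ι a := by rw [hau, inv_eq_of_mul_eq_one_right hsq3]
  have hya_c : y * ι a * y = y * (y * ι a) := by rw [mul_assoc, hcomm a haM hac]
  have ha_ne : ι a ≠ 1 := fun e => by
    have e' := S.inj _ haM _ (one_mem _) (e.trans S.map_one.symm)
    rw [e', mul_one, mul_inv_cancel] at hav
    have : eqW bD [] = true := eqW_of_eq (by decide +kernel) rfl (by rw [← hav, rprod_nil])
    revert this
    decide +kernel
  have hq : CZ L ι (g⁻¹ * (y * ι a) * g) := S.phi_cz ⟨ι u * g, by rw [← hya, ← hg]; group⟩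
    (by rw [hg]; exact hya_c) (by rw [hg]; exact fun h => ha_ne (mul_eq_left.1 h))
  have hqe : g⁻¹ * (y * ι a) * g = ι (-1) * (g⁻¹ * ι a * g) := by rw [← hg]; group
  have hqLC : InLC ι (g⁻¹ * (y * ι a) * g) := by
    rw [hqe]; exact S.inLC_mul (S.inLC_elt negOne_mem_M1) haLC
  have ha' := S.twin hq hqLC
  rw [hqe, ← mul_assoc, S.z_sq, one_mul] at ha'
  have haD : Inn ι (rprod bD) (ι a) := ⟨v⁻¹, inv_mem hv, by rw [← hea]⟩
  have hazne : ι a ≠ ι (-1) := fun e => by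
    have e' := S.inj _ haM _ negOne_mem_M1 e
    rw [e', mul_neg, mul_one, neg_mul, mul_inv_cancel] at hav
    exact rep_ne_negOne.2.1 hav.symm
  have haCZ : CZ L ι (ι a) := by
    obtain ⟨k, hk⟩ := ha'.1
    exact ⟨⟨g * k, by rw [show g * k * ι (-1) * (g * k)⁻¹ = g * (k * ι (-1) * k⁻¹) * g⁻¹ by group, hk]; group⟩,
      S.mem_N haM, hazne⟩
  -- the second element
  obtain ⟨p, hp, ⟨v', hv', hpv⟩, ⟨v'', hv'', hpr⟩⟩ := exists_p1
  obtain ⟨hpM, hpc, hpLC⟩ := hsq p hp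
  have hpCZ : CZ L ι (ι p) :=
    S.cz_of_inn (b := bD) (by simp) haCZ haD ⟨v'⁻¹, inv_mem hv', by congr 1; rw [← hpv]; group⟩
  have hp' : CZ L ι (g⁻¹ * ι p * g) := S.phi_cz hpCZ.1 (by rw [hg]; exact hcomm p hpM hpc)
    (by rw [hg]; exact fun h => hnLC (h ▸ S.inLC_elt hpM))
  obtain ⟨k, hk⟩ := (S.twin hp' hpLC).1
  have hyp : CZ L ι (y * ι p) := by
    refine ⟨⟨g * k, ?_⟩, mul_mem hy.2.1 (S.mem_N hpM), fun e => hnLC ?_⟩
    · rw [show g * k * ι (-1) * (g * k)⁻¹ = g * (k * ι (-1) * k⁻¹) * g⁻¹ by group, hk, ← hg]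
      group
    · rw [eq_mul_inv_of_mul_eq e]
      exact S.inLC_mul (S.inLC_elt negOne_mem_M1) (S.inLC_inv (S.inLC_elt hpM))
  refine S.no_refl hyp ⟨v''⁻¹, inv_mem hv'', ?_⟩
  have := S.ind_neg (S.ind_mul hind (S.ind_elt hpM))
  rwa [show -(rprod b3 * p) = v''⁻¹ * sU 0 * v''⁻¹⁻¹ by
    rw [← neg_neg (sU 0), ← rprod_bS, ← hpr, mul_neg, neg_mul]
    congr 1
    group] at this

theorem all_inner (S : Setting L ι) {y : G} (hy : CZ L ι y) : InLC ι y := by
  by_contra h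
  rcases S.outer_of_not_inLC hy h with k | k
  · exact S.no_refl hy k
  · obtain ⟨ι', S', hy', -, e⟩ := S.out_rebase k hy
    exact S'.no_three_base hy' e

theorem no_four_base (S : Setting L ι) {y : G} (hy : CZ L ι y) {b : List ℕ} (hb : b ∈ [bD, bE]) :
    y ≠ ι (rprod b) := by
  intro e
  obtain ⟨g, hg⟩ := hy.1
  have hb' : b ∈ [bA, bD, bE] := List.mem_cons_of_mem _ hb
  obtain ⟨-, hbM⟩ := rep_comm b hb'
  obtain ⟨h, hh, hcomm, v, hv, hprod⟩ := exists_pair hb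
  have hyb : Inn ι (rprod b) y := ⟨1, one_mem _, by rw [e, one_mul, inv_one, mul_one]⟩
  have hxM := conj_mem_M1 hh hbM
  have hA := rep_mem_M1.1
  have hpA : Inn ι (rprod bA) (ι (h * rprod b * h⁻¹ * rprod b)) :=
    ⟨v⁻¹, inv_mem hv, by congr 1; rw [← hprod]; group⟩
  have hx : CZ L ι (ι (h * rprod b * h⁻¹)) := S.cz_of_inn hb' hy hyb ⟨h, hh, rfl⟩
  have hxy : ι (h * rprod b * h⁻¹) * y = y * ι (h * rprod b * h⁻¹) := by
    rw [e]; exact (S.comm_iff hxM hbM).2 hcomm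
  have hne : ι (h * rprod b * h⁻¹) ≠ y := fun e' => by
    rw [S.hmul _ hxM _ hbM, e', ← e, (S.cz_invol hy).1] at hpA
    obtain ⟨w, hw, ew⟩ := hpA
    have e3 := S.inj _ (conj_mem_M1 hw hA) _ (one_mem _) (ew.symm.trans S.map_one.symm)
    have : eqW bA [] = true := eqW_of_eq (by decide +kernel) rfl (by
      rw [rprod_nil]; exact conj_eq_one_iff.1 e3)
    revert this
    decide +kernel
  have hx' : CZ L ι (g⁻¹ * ι (h * rprod b * h⁻¹) * g) :=
    S.phi_cz hx.1 (by rw [hg]; exact hxy) (by rw [hg]; exact hne)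
  obtain ⟨k, hk⟩ := (S.twin hx' (S.all_inner hx')).1
  obtain ⟨w, hw, ew⟩ := id hpA
  refine S.no_A ⟨⟨g * k, ?_⟩, S.mem_N (mul_mem hxM hbM), fun e' => ?_⟩ hpA
  · rw [show g * k * ι (-1) * (g * k)⁻¹ = g * (k * ι (-1) * k⁻¹) * g⁻¹ by group, hk,
      S.hmul _ hxM _ hbM, ← e, hxy, ← hg]
    group
  · rw [ew] at e'
    have e3 := S.inj _ (conj_mem_M1 hw hA) _ negOne_mem_M1 e'
    refine rep_ne_negOne.1 ?_
    calc rprod bA = w⁻¹ * (w * rprod bA * w⁻¹) * w := by group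
      _ = -1 := by rw [e3, mul_neg, mul_one, neg_mul, inv_mul_cancel]

theorem no_cz (S : Setting L ι) (y : G) : ¬ CZ L ι y := fun hy => by
  obtain ⟨b, hb, h⟩ := S.inner_DE hy (S.all_inner hy)
  obtain ⟨ι', S', hy', -, e⟩ := S.inn_rebase h hy
  exact S'.no_four_base hy' hb e

/-- Such a standard subgroup of a group with trivial core is normal. -/
theorem normal_of_setting (S : Setting L ι) (hO : Cfsg.oddCore G = ⊥) : L.Normal := by
  have hiso : IsIsolatedInvolution (ι (-1)) := ⟨S.z_order, fun g hg => by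
    by_contra hne
    exact S.no_cz _ ⟨⟨g, rfl⟩, S.mem_N_iff.2 hg.eq.symm, hne⟩⟩
  have hcen := ZStar.isolated_mem_center ZStar.uniqueInvolution hiso hO
  rw [← Subgroup.normalizer_eq_top_iff, eq_top_iff]
  exact fun g _ => S.mem_N_iff.2 (Subgroup.mem_center_iff.1 hcen g)

end Setting

end Cfsg.Agent.O8Standard
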