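import Cfsg.Agent.Lib.O8Standard.Roots

/-!
# The Weyl group of E8

* `sU`, `rprod` : root reflections and their products
* `W`, `img`, `img_mul`, `ipN_img`, `ext_img`
-/

set_option autoImplicit false

namespace Cfsg.Agent.O8Standard

open Cfsg.Agent.Multiplier Matrix

theorem dotG_comm (v w : Fin 8 → ℤ) : dotG v w = dotG w v := by
  simp only [dotG]
  rw [dotProduct_comm, ← Matrix.vecMul_transpose, O8.gram_symm, Matrix.dotProduct_mulVec]

theorem dotG_sub_smul (u : Fin 8 → ℤ) (x y : Fin 8 → ℤ) (c : ℤ) :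
    dotG (x - c • u) y = dotG x y - c * dotG u y := by
  rw [dotG, dotG, dotG, sub_dotProduct, smul_dotProduct, smul_eq_mul]

theorem dotG_sub_smul' (u : Fin 8 → ℤ) (x y : Fin 8 → ℤ) (c : ℤ) :
    dotG x (y - c • u) = dotG x y - c * dotG x u := by
  rw [dotG, dotG, dotG, Matrix.mulVec_sub, Matrix.mulVec_smul, dotProduct_sub, dotProduct_smul, smul_eq_mul]

theorem dotL_eq : ∀ (n : ℕ) (v w : List ℤ), v.length = n → w.length = n →
    dotL v w = ∑ i : Fin n, v.getD i 0 * w.getD i 0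
  | 0, v, w, hv, hw => by simp [List.length_eq_zero_iff.1 hv, dotL]
  | n + 1, a :: v, b :: w, hv, hw => by
    rw [dotL, Fin.sum_univ_succ, dotL_eq n v w (by simpa using hv) (by simpa using hw)]
    simp

/-- The reflection in a vector. -/
def sM (v : Fin 8 → ℤ) : O8.Z8 := 1 - Matrix.vecMulVec v (gM *ᵥ v)

theorem sM_mulVec (v x : Fin 8 → ℤ) : sM v *ᵥ x = x - dotG v x • v := by
  rw [sM, Matrix.sub_mulVec, Matrix.one_mulVec, Matrix.vecMulVec_mulVec, dotG_comm, dotG]
  congr 1
  ext i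
  simp [dotProduct_comm, mul_comm]

theorem sM_sq {v : Fin 8 → ℤ} (h : dotG v v = 2) : sM v * sM v = 1 := by
  refine Matrix.ext_of_mulVec_single fun j => ?_
  rw [← Matrix.mulVec_mulVec, sM_mulVec, sM_mulVec, dotG_sub_smul', h, Matrix.one_mulVec]
  ext i
  simp
  ring

/-- A root reflection, `1` beyond the table. -/
def sU (k : ℕ) : O8.Z8ˣ :=
  if h : dotG (rv k) (rv k) = 2 then ⟨sM (rv k), sM (rv k), sM_sq h, sM_sq h⟩ else 1

/-- A product of root reflections. -/
def rprod (l : List ℕ) : O8.Z8ˣ := (l.map sU).prod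

@[simp] theorem rprod_nil : rprod [] = 1 := rfl

theorem rprod_cons (k : ℕ) (l : List ℕ) : rprod (k :: l) = sU k * rprod l := List.prod_cons

theorem rprod_append (l m : List ℕ) : rprod (l ++ m) = rprod l * rprod m := by simp [rprod]

theorem sU_base {k b : ℕ} (hk : k < 8) (hb : b < 240) :
    dotG (rv k) (rv b) = (ipN k b : ℤ) - 2 ∧
      rv (refN k b) = rv b - ((ipN k b : ℤ) - 2) • rv k := by
  have h := allLt_spec (allLt_spec baseB_ok k hk) b hb
  simp only [Bool.and_eq_true, decide_eq_true_eq] at h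
  have hl : ∀ i < 240, (rootL i).length = 8 := fun i hi => Nat.eq_of_beq_eq_true (allLt_spec shape_ok i hi)
  refine ⟨?_, funext fun j => ?_⟩
  · have hlen : (O8Data.gram.map (dotL (rootL k))).length = 8 := by rw [List.length_map]; rfl
    have e : ∀ i : Fin 8, (O8Data.gram.map (dotL (rootL k))).getD i 0 = (gM *ᵥ rv k) i := by
      intro i
      have hi : (i : ℕ) < O8Data.gram.length := i.2
      rw [List.getD_eq_getElem _ _ (by simp [hlen]), List.getElem_map]
      have hr : ∀ i : Fin 8, (O8Data.gram.getD i []).length = 8 := by decide +kernel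
      rw [dotL_eq 8 _ _ (hl k (by omega)) (by rw [← List.getD_eq_getElem _ [] hi]; exact hr i),
        Matrix.mulVec, dotProduct]
      refine Finset.sum_congr rfl fun j _ => ?_
      rw [← List.getD_eq_getElem _ [] hi, mul_comm]
      rfl
    rw [dotG_comm, dotG, dotProduct_comm]
    rw [dotL_eq 8 _ _ hlen (hl b hb)] at h
    have h1 := h.1
    simp only [e] at h1
    rw [dotProduct]
    simp only [rv] at h1 ⊢
    linarith
  · simp only [Pi.sub_apply, Pi.smul_apply, smul_eq_mul]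
    exact of_decide_eq_true (allLt_spec h.2 j j.2)

theorem refN_lt {k b : ℕ} (hk : k < 240) (hb : b < 240) : refN k b < 240 := by
  have h := allLt_spec recB_ok k hk
  simp only [Bool.and_eq_true, Bool.or_eq_true] at h
  rcases h with h | h
  · simp at h
  have h' := allLt_spec h.2 b hb
  simp only [Bool.and_eq_true, Nat.blt_eq] at h'
  exact h'.1

theorem eq_of_ipN_four {a b : ℕ} (ha : a < 240) (hb : b < 240) (h4 : 4 ≤ ipN a b) : a = b := by
  have h := allLt_spec recB_ok a ha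
  simp only [Bool.and_eq_true, Bool.or_eq_true] at h
  rcases h with h | h
  · simp at h
  have h' := allLt_spec h.2 b hb
  simp only [Bool.and_eq_true, Bool.or_eq_true, Nat.blt_eq, Nat.beq_eq] at h'
  rcases h'.2 with e | e
  · exact e
  · omega

theorem parent_spec {i : ℕ} (hi : i < 240) (h8 : 8 ≤ i) : ∃ k j, k < 8 ∧ j < i ∧ refN k j = i ∧
    ∀ b < 240, ipN i b = ipN j (refN k b) ∧ refN i b = refN k (refN j (refN k b)) := by
  have h := allLt_spec recB_ok i hi
  simp only [Bool.and_eq_true, Bool.or_eq_true, Nat.blt_eq, Nat.beq_eq] at h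
  rcases h with h | ⟨h | ⟨⟨⟨h1, h2⟩, h3⟩, h4⟩, -⟩
  · simp at h
  · omega
  · refine ⟨_, _, h1, h2, h3, fun b hb => ?_⟩
    have h' := allLt_spec h4 b hb
    simpa only [Bool.and_eq_true, Nat.beq_eq] using h'

theorem diag_base : ∀ k < 8, ipN k k = 4 := by decide +kernel

/-- The table facts for root `i`. -/
theorem root_spec : ∀ i < 240, dotG (rv i) (rv i) = 2 ∧
    (∀ b < 240, dotG (rv i) (rv b) = (ipN i b : ℤ) - 2) ∧
    ∀ b < 240, rv (refN i b) = rv b - dotG (rv i) (rv b) • rv i := by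
  intro i
  induction i using Nat.strong_induction_on with
  | _ i ih =>
    intro hi
    by_cases h8 : i < 8
    · refine ⟨?_, fun b hb => (sU_base h8 hb).1, fun b hb => ?_⟩
      · rw [(sU_base h8 hi).1, diag_base i h8]; norm_num
      · rw [(sU_base h8 hb).1, (sU_base h8 hb).2]
    obtain ⟨k, j, hk, hji, hij, hb'⟩ := parent_spec hi (not_lt.1 h8)
    obtain ⟨jd, jip, jref⟩ := ih j hji (by omega)
    obtain ⟨kd, kip, kref⟩ : dotG (rv k) (rv k) = 2 ∧ (∀ b < 240, dotG (rv k) (rv b) = (ipN k b : ℤ) - 2) ∧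
        ∀ b < 240, rv (refN k b) = rv b - dotG (rv k) (rv b) • rv k := by
      refine ⟨?_, fun b hb => (sU_base hk hb).1, fun b hb => ?_⟩
      · rw [(sU_base hk (by omega)).1, diag_base k hk]; norm_num
      · rw [(sU_base hk hb).1, (sU_base hk hb).2]
    have hk2 : k < 240 := by omega
    have hji' : j < 240 := by omega
    have hrv : rv i = rv j - dotG (rv k) (rv j) • rv k := by rw [← kref j hji', hij]
    have hip : ∀ b < 240, dotG (rv i) (rv b) = dotG (rv j) (rv (refN k b)) := by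
      intro b hb
      rw [hrv, kref b hb, dotG_sub_smul, dotG_sub_smul', dotG_comm (rv j) (rv k)]
      ring
    refine ⟨?_, fun b hb => ?_, fun b hb => ?_⟩
    · rw [hrv, dotG_sub_smul, dotG_sub_smul', dotG_sub_smul', jd, kd, dotG_comm (rv j) (rv k)]
      ring
    · rw [hip b hb, (hb' b hb).1, jip _ (refN_lt hk2 hb)]
    · rw [(hb' b hb).2, hip b hb, kref _ (refN_lt hji' (refN_lt hk2 hb)), jref _ (refN_lt hk2 hb),
        dotG_sub_smul', kref b hb, dotG_sub_smul', dotG_sub_smul', kd, hrv]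
      funext t
      simp only [Pi.sub_apply, Pi.smul_apply, smul_eq_mul]
      ring

theorem dotG_rv {a b : ℕ} (ha : a < 240) (hb : b < 240) : dotG (rv a) (rv b) = (ipN a b : ℤ) - 2 :=
  (root_spec a ha).2.1 b hb

theorem sU_val {k : ℕ} (hk : k < 240) : ((sU k : O8.Z8ˣ) : O8.Z8) = sM (rv k) := by
  rw [sU, dif_pos (root_spec k hk).1]

theorem sU_mulVec {k b : ℕ} (hk : k < 240) (hb : b < 240) :
    ((sU k : O8.Z8ˣ) : O8.Z8) *ᵥ rv b = rv (refN k b) := by
  rw [sU_val hk, sM_mulVec, (root_spec k hk).2.2 b hb]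

theorem sU_inv (k : ℕ) : (sU k)⁻¹ = sU k := by
  rw [inv_eq_iff_mul_eq_one]
  unfold sU
  split
  · rename_i h; exact Units.ext (sM_sq h)
  · simp

theorem rv_inj {a b : ℕ} (ha : a < 240) (hb : b < 240) (h : rv a = rv b) : a = b := by
  have h1 := dotG_rv ha hb
  rw [← h, (root_spec a ha).1] at h1
  exact eq_of_ipN_four ha hb (by omega)

/-- The Weyl group. -/
def W : Subgroup O8.Z8ˣ := Subgroup.closure (sU '' Set.Iio 8)

theorem sU_mem_simple {k : ℕ} (hk : k < 8) : sU k ∈ W := Subgroup.subset_closure ⟨k, hk, rfl⟩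

/-- Induction over the generators of `W`. -/
theorem W_induction {p : O8.Z8ˣ → Prop} (h1 : p 1)
    (hm : ∀ k < 8, ∀ u ∈ W, p u → p (sU k * u)) : ∀ u ∈ W, p u := by
  intro u hu
  induction hu using Subgroup.closure_induction_left with
  | one => exact h1
  | mul_left x hx y hy ih =>
    obtain ⟨k, hk, rfl⟩ := hx
    exact hm k hk y hy ih
  | inv_mul_cancel x hx y hy ih =>
    obtain ⟨k, hk, rfl⟩ := hx
    rw [sU_inv]
    exact hm k hk y hy ih

theorem exists_img : ∀ u ∈ W, ∀ i < 240, ∃ j < 240, (u : O8.Z8) *ᵥ rv i = rv j := by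
  refine W_induction (fun i hi => ⟨i, hi, by simp⟩) fun k hk u _ h i hi => ?_
  obtain ⟨j, hj, e⟩ := h i hi
  exact ⟨refN k j, refN_lt (by omega) hj, by
    rw [Units.val_mul, ← Matrix.mulVec_mulVec, e, sU_mulVec (by omega) hj]⟩

theorem isom : ∀ u ∈ W, (u : O8.Z8)ᵀ * gM * (u : O8.Z8) = gM := by
  refine W_induction (by simp) fun k hk u _ h => ?_
  have hs : (sM (rv k))ᵀ * gM * sM (rv k) = gM := by
    refine Matrix.ext_of_mulVec_single fun j => funext fun i => ?_
    rw [← single_one_dotProduct (i := i) (v := _ *ᵥ Pi.single j 1),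
      ← single_one_dotProduct (i := i) (v := gM *ᵥ Pi.single j 1), ← Matrix.mulVec_mulVec,
      ← Matrix.mulVec_mulVec, Matrix.dotProduct_mulVec, Matrix.vecMul_transpose]
    show dotG (sM (rv k) *ᵥ _) (sM (rv k) *ᵥ _) = dotG _ _
    rw [sM_mulVec, sM_mulVec, dotG_sub_smul, dotG_sub_smul', dotG_sub_smul',
      (root_spec k (by omega)).1, dotG_comm _ (rv k)]
    ring
  rw [Units.val_mul, Matrix.transpose_mul, sU_val (by omega)]
  rw [show (u : O8.Z8)ᵀ * (sM (rv k))ᵀ * gM * (sM (rv k) * (u : O8.Z8)) =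
    (u : O8.Z8)ᵀ * ((sM (rv k))ᵀ * gM * sM (rv k)) * (u : O8.Z8) by simp only [Matrix.mul_assoc], hs, h]

theorem dotG_mulVec {u : O8.Z8ˣ} (hu : u ∈ W) (v w : Fin 8 → ℤ) :
    dotG ((u : O8.Z8) *ᵥ v) ((u : O8.Z8) *ᵥ w) = dotG v w := by
  simp only [dotG]
  rw [Matrix.mulVec_mulVec, ← Matrix.vecMul_transpose, ← Matrix.dotProduct_mulVec,
    Matrix.mulVec_mulVec, ← Matrix.mul_assoc, isom u hu]

open Classical in
/-- The action on root indices. -/
noncomputable def img (u : O8.Z8ˣ) (i : ℕ) : ℕ :=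
  if h : ∃ j, j < 240 ∧ (u : O8.Z8) *ᵥ rv i = rv j then h.choose else 0

theorem img_spec {u : O8.Z8ˣ} (hu : u ∈ W) {i : ℕ} (hi : i < 240) :
    img u i < 240 ∧ (u : O8.Z8) *ᵥ rv i = rv (img u i) := by
  have h : ∃ j, j < 240 ∧ (u : O8.Z8) *ᵥ rv i = rv j := exists_img u hu i hi
  rw [img, dif_pos h]
  exact h.choose_spec

theorem img_lt {u : O8.Z8ˣ} (hu : u ∈ W) {i : ℕ} (hi : i < 240) : img u i < 240 := (img_spec hu hi).1

theorem img_eq {u : O8.Z8ˣ} (hu : u ∈ W) {i j : ℕ} (hi : i < 240) (hj : j < 240)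
    (h : (u : O8.Z8) *ᵥ rv i = rv j) : img u i = j :=
  rv_inj (img_lt hu hi) hj ((img_spec hu hi).2.symm.trans h)

theorem img_one {i : ℕ} (hi : i < 240) : img 1 i = i := img_eq (one_mem W) hi hi (by simp)

theorem img_mul {u v : O8.Z8ˣ} (hu : u ∈ W) (hv : v ∈ W) {i : ℕ} (hi : i < 240) :
    img (u * v) i = img u (img v i) :=
  img_eq (mul_mem hu hv) hi (img_lt hu (img_lt hv hi)) (by
    rw [Units.val_mul, ← Matrix.mulVec_mulVec, (img_spec hv hi).2, (img_spec hu (img_lt hv hi)).2])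

theorem img_inv_img {u : O8.Z8ˣ} (hu : u ∈ W) {i : ℕ} (hi : i < 240) : img u⁻¹ (img u i) = i := by
  rw [← img_mul (inv_mem hu) hu hi, inv_mul_cancel, img_one hi]

theorem img_img_inv {u : O8.Z8ˣ} (hu : u ∈ W) {i : ℕ} (hi : i < 240) : img u (img u⁻¹ i) = i := by
  rw [← img_mul hu (inv_mem hu) hi, mul_inv_cancel, img_one hi]

theorem img_inj {u : O8.Z8ˣ} (hu : u ∈ W) {i j : ℕ} (hi : i < 240) (hj : j < 240)
    (h : img u i = img u j) : i = j := by
  rw [← img_inv_img hu hi, h, img_inv_img hu hj]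

theorem ipN_img {u : O8.Z8ˣ} (hu : u ∈ W) {a b : ℕ} (ha : a < 240) (hb : b < 240) :
    ipN (img u a) (img u b) = ipN a b := by
  have h := dotG_mulVec hu (rv a) (rv b)
  rw [(img_spec hu ha).2, (img_spec hu hb).2, dotG_rv (img_lt hu ha) (img_lt hu hb), dotG_rv ha hb] at h
  omega

theorem sU_mem : ∀ k < 240, sU k ∈ W := by
  intro k
  induction k using Nat.strong_induction_on with
  | _ k ih =>
    intro hk
    by_cases h8 : k < 8
    · exact sU_mem_simple h8
    obtain ⟨s, j, hs, hjk, hsj, -⟩ := parent_spec hk (not_lt.1 h8)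
    have hj : j < 240 := by omega
    have e : sU k = sU s * sU j * sU s := by
      refine Units.ext (Matrix.ext_of_mulVec_single fun t => ?_)
      rw [Units.val_mul, Units.val_mul, ← Matrix.mulVec_mulVec, ← Matrix.mulVec_mulVec,
        sU_val hk, sU_val hj, sU_val (show s < 240 by omega), sM_mulVec, sM_mulVec, sM_mulVec, sM_mulVec,
        ← hsj, (root_spec s (by omega)).2.2 j hj, dotG_sub_smul, dotG_sub_smul', dotG_sub_smul',
        dotG_sub_smul', (root_spec s (by omega)).1, dotG_comm (rv j) (rv s)]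
      funext i
      simp only [Pi.sub_apply, Pi.smul_apply, smul_eq_mul]
      ring
    rw [e]
    exact mul_mem (mul_mem (sU_mem_simple hs) (ih j hjk hj)) (sU_mem_simple hs)

theorem rprod_mem {l : List ℕ} (h : ∀ k ∈ l, k < 240) : rprod l ∈ W :=
  list_prod_mem fun x hx => by
    obtain ⟨k, hk, rfl⟩ := List.mem_map.1 hx
    exact sU_mem k (h k hk)

theorem img_sU {k i : ℕ} (hk : k < 240) (hi : i < 240) : img (sU k) i = refN k i :=
  img_eq (sU_mem k hk) hi (refN_lt hk hi) (sU_mulVec hk hi)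

theorem evR_lt : ∀ {l : List ℕ}, (∀ k ∈ l, k < 240) → ∀ {i : ℕ}, i < 240 → evR l i < 240
  | [], _, _, hi => hi
  | k :: _, h, _, hi => refN_lt (h k (by simp)) (evR_lt (fun m hm => h m (by simp [hm])) hi)

theorem img_rprod : ∀ {l : List ℕ}, (∀ k ∈ l, k < 240) → ∀ {i : ℕ}, i < 240 → img (rprod l) i = evR l i
  | [], _, _, hi => img_one hi
  | k :: l, h, i, hi => by
    have hl : ∀ m ∈ l, m < 240 := fun m hm => h m (by simp [hm])
    rw [rprod_cons, img_mul (sU_mem k (h k (by simp))) (rprod_mem hl) hi, img_rprod hl hi,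
      img_sU (h k (by simp)) (evR_lt hl hi), evR]

theorem simple_cols_all : (allLt 8 fun j => allLt 8 fun k =>
    decide ((rootL k).getD j 0 = (O8Data.roots.getD j []).getD k 0)) = true := by decide +kernel

theorem simple_cols (j k : Fin 8) : rv k j = O8.toZ O8Data.roots j k :=
  of_decide_eq_true (allLt_spec (allLt_spec simple_cols_all j j.2) k k.2)

theorem mulVec_simple_ext {A B : O8.Z8} (h : ∀ k < 8, A *ᵥ rv k = B *ᵥ rv k) : A = B := by
  have e : A * O8.toZ O8Data.roots = B * O8.toZ O8Data.roots := by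
    ext i j
    have := congrFun (h j j.2) i
    simpa [Matrix.mulVec, dotProduct, Matrix.mul_apply, simple_cols] using this
  calc A = A * (O8.toZ O8Data.roots * O8.toZ O8Data.rootsInv) := by rw [O8.roots_facts.1, mul_one]
    _ = B * (O8.toZ O8Data.roots * O8.toZ O8Data.rootsInv) := by rw [← mul_assoc, e, mul_assoc]
    _ = B := by rw [O8.roots_facts.1, mul_one]

theorem ext_img {u v : O8.Z8ˣ} (hu : u ∈ W) (hv : v ∈ W) (h : ∀ k < 8, img u k = img v k) : u = v :=
  Units.ext (mulVec_simple_ext fun k hk => by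
    rw [(img_spec hu (by omega)).2, (img_spec hv (by omega)).2, h k hk])

theorem conj_sU {u : O8.Z8ˣ} (hu : u ∈ W) {k : ℕ} (hk : k < 240) :
    u * sU k * u⁻¹ = sU (img u k) := by
  rw [mul_inv_eq_iff_eq_mul]
  refine Units.ext (Matrix.ext_of_mulVec_single fun t => ?_)
  rw [Units.val_mul, Units.val_mul, ← Matrix.mulVec_mulVec, ← Matrix.mulVec_mulVec, sU_val hk,
    sU_val (img_lt hu hk), sM_mulVec, sM_mulVec, Matrix.mulVec_sub, Matrix.mulVec_smul,
    ← (img_spec hu hk).2, dotG_mulVec hu]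

end Cfsg.Agent.O8Standard
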