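import Cfsg.Agent.Lib.O8Standard.Frames

/-!
# Pairs in the standard frame
-/

set_option autoImplicit false
set_option maxRecDepth 100000

namespace Cfsg.Agent.O8Standard

open Cfsg.Agent.Multiplier

/-- Words moving two roots of the frame to the first two. -/
def pairWords : List (List (List ℕ)) :=
  [[[], [], [49, 228], [3, 138], [13, 124], [13, 16], [7, 113], [7, 33]],
   [[9, 11], [], [49, 228, 9, 11], [3, 138, 9, 11], [7, 33, 9, 11], [13, 16, 9, 11], [7, 113, 9, 11], [13, 124, 9, 11]],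
   [[49, 228, 73, 221], [73, 221], [], [3, 138, 73, 221], [13, 124, 73, 221], [13, 16, 73, 221], [14, 46, 73, 221], [14, 126, 73, 221]],
   [[3, 138, 26, 117], [26, 117], [49, 228, 26, 117], [], [13, 124, 26, 117], [14, 46, 26, 117], [7, 113, 26, 117], [3, 30, 26, 117]],
   [[13, 124, 1, 90], [14, 46, 1, 90], [49, 228, 1, 90], [3, 138, 1, 90], [], [13, 16, 1, 90], [7, 113, 1, 90], [2, 1, 90]],
   [[13, 16, 38, 42], [38, 42], [49, 228, 38, 42], [7, 33, 38, 42], [13, 124, 38, 42], [], [7, 113, 38, 42], [3, 138, 38, 42]],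
   [[7, 113, 27, 91], [27, 91], [49, 228, 27, 91], [13, 124, 27, 91], [3, 138, 27, 91], [13, 16, 27, 91], [], [7, 33, 27, 91]],
   [[7, 33, 9, 74], [13, 124, 9, 74], [49, 228, 9, 74], [3, 138, 9, 74], [9, 74], [13, 16, 9, 74], [7, 113, 9, 74], []]]

theorem pairWords_ok : (allLt 8 fun a => allLt 8 fun b => Nat.beq a b ||
    (let l := (pairWords.getD a []).getD b []
     okW l && Nat.beq (evR l (fR a)) 0 && Nat.beq (evR l (fR b)) 2)) = true := by
  decide +kernel

/-- Two roots of the frame are moved to the first two. -/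
theorem exists_pair_map {a b : ℕ} (ha : a < 8) (hb : b < 8) (hab : a ≠ b) :
    ∃ v ∈ W, img v (fR a) = 0 ∧ img v (fR b) = 2 := by
  have h := allLt_spec (allLt_spec pairWords_ok a ha) b hb
  simp only [Bool.or_eq_true, Bool.and_eq_true, Nat.beq_eq] at h
  obtain ⟨⟨hok, e1⟩, e2⟩ := h.resolve_left hab
  exact ⟨_, W_of_ok hok, by rw [img_rprod (okW_spec hok) (fR_lt ha), e1],
    by rw [img_rprod (okW_spec hok) (fR_lt hb), e2]⟩

end Cfsg.Agent.O8Standard
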