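import Cfsg.Agent.Lib.O8Standard.Steps
import Cfsg.Agent.Lib.O8Standard.Frames
import Cfsg.Agent.Lib.O8Standard.Pairs

/-!
# No conjugate induces a reflection

* `good5_conj`, `exists_K_pair` : perfect groups centralising two roots of the frame
* `frame_conj` : the action on the lifts of the reflections of a frame
* `no_refl` : a conjugate of the central involution does not induce a reflection
-/

set_option autoImplicit false
set_option linter.unusedSectionVars false

open Cfsg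
open scoped commutatorElement

namespace Cfsg.Agent.O8Standard

open Cfsg.Agent.Multiplier

universe u

theorem good5_conj {K : Subgroup O8.Z8ˣ} (hK : Good5 K) {v : O8.Z8ˣ} (hv : v ∈ W) :
    Good5 (K.map (MulAut.conj v).toMonoidHom) where
  le := by
    rintro _ ⟨x, hx, rfl⟩
    exact conj_mem_M1 hv (hK.le hx)
  perf := by
    rw [← Subgroup.map_commutator]
    exact Subgroup.map_mono hK.perf
  gen := by
    obtain ⟨S, hS, hKS⟩ := hK.gen
    refine ⟨(MulAut.conj v) '' S, ?_, by rw [hKS, MonoidHom.map_closure]; rfl⟩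
    rintro _ ⟨x, hx, rfl⟩
    rw [← _root_.map_mul, hS x hx, _root_.map_one]
  five := by
    obtain ⟨f, hf, hf1, hf5⟩ := hK.five
    exact ⟨_, Subgroup.mem_map_of_mem _ hf, fun e => hf1 ((MulAut.conj v).injective
      (e.trans (_root_.map_one _).symm)), by rw [← _root_.map_pow, hf5, _root_.map_one]⟩

theorem exists_K_pair {a b : ℕ} (ha : a < 8) (hb : b < 8) (hab : a ≠ b) : ∃ K : Subgroup O8.Z8ˣ,
    Good5 K ∧ ∀ x ∈ K, x * sU (fR a) = sU (fR a) * x ∧ x * sU (fR b) = sU (fR b) * x := by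
  obtain ⟨K, hK, -, hc⟩ := perfect_A
  obtain ⟨v, hv, ea, eb⟩ := exists_pair_map ha hb hab
  have e1 : ∀ {r k : ℕ}, r < 240 → k < 240 → img v r = k → ∀ x ∈ K, x * sU k = sU k * x →
      v⁻¹ * x * v * sU r = sU r * (v⁻¹ * x * v) := by
    intro r k hr hk e x _ h
    have es : v * sU r * v⁻¹ = sU k := by rw [conj_sU hv hr, e]
    calc v⁻¹ * x * v * sU r = v⁻¹ * (x * (v * sU r * v⁻¹)) * v := by group
      _ = v⁻¹ * (v * sU r * v⁻¹ * x) * v := by rw [es, h]
      _ = sU r * (v⁻¹ * x * v) := by group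
  refine ⟨_, good5_conj hK (inv_mem hv), ?_⟩
  rintro _ ⟨x, hx, rfl⟩
  show MulAut.conj v⁻¹ x * _ = _ ∧ _
  rw [MulAut.conj_apply, inv_inv]
  exact ⟨e1 (fR_lt ha) (by norm_num) ea x hx (hc x hx).2.1, e1 (fR_lt hb) (by norm_num) eb x hx (hc x hx).2.2⟩

theorem pair_mem_M1 {a b : ℕ} (ha : a < 240) (hb : b < 240) : sU a * sU b ∈ M1 :=
  (mul_mem_M1_iff (sU_mem a ha) (sU_mem b hb)).2
    ⟨fun h => absurd h (not_mem_sU ha), fun h => absurd h (not_mem_sU hb)⟩

theorem ne_of_orth {a b : ℕ} (ha : a < 240) (h : ipN a b = 2) : b ≠ a ∧ b ≠ negN a := by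
  have h1 := (root_spec a ha).1
  refine ⟨fun e => ?_, fun e => ?_⟩ <;> rw [e] at h
  · rw [dotG_rv ha ha, h] at h1
    norm_num at h1
  · have h2 := dotG_rv ha (negN_lt ha)
    rw [h, rv_negN ha, dotG, Matrix.mulVec_neg, dotProduct_neg, ← dotG, h1] at h2
    norm_num at h2

theorem sU_sq (k : ℕ) : sU k * sU k = 1 := mul_eq_one_iff_eq_inv.2 (sU_inv k).symm

variable {G : Type u} [Group G] [Finite G] {L : Subgroup G} {ι : O8.Z8ˣ → G}

namespace Setting

theorem ind_pair (S : Setting L ι) {o : G} {a b : ℕ} (ha : a < 240) (hb : b < 240)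
    (ho : Ind ι o (sU a)) : Ind ι (o * ι (sU a * sU b)) (sU b) := by
  have := S.ind_mul ho (S.ind_elt (pair_mem_M1 ha hb))
  rwa [← mul_assoc, sU_sq, one_mul] at this

theorem frame_conj (S : Setting L ι) {o : G} (ho : o * o = 1) {t : ℕ → ℕ} (ht : ∀ j < 8, t j < 240)
    (hind : Ind ι o (sU (t 0))) {a : O8.Z8ˣ} (ha : a ∈ M1) {i j : ℕ} (hi : i < 8) (hj : j < 8)
    (h : img a (t i) = t j ∨ img a (t i) = negN (t j)) :
    ι a * (o * ι (sU (t 0) * sU (t i))) * (ι a)⁻¹ = o * ι (sU (t 0) * sU (t j)) := by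
  have h0 := ht 0 (by norm_num)
  have hp := pair_mem_M1 h0 (ht i hi)
  have hsj : a * sU (t i) * a⁻¹ = sU (t j) := by
    rw [conj_sU (M1_le ha) (ht i hi)]
    rcases h with h | h <;> rw [h]
    exact sU_negN (ht j hj)
  have hoi : o⁻¹ = o := inv_eq_of_mul_eq_one_right ho
  have e1 : o * ι a * o = ι (sU (t 0) * a * (sU (t 0))⁻¹) := by
    rw [← hind.2 a ha, hoi]
  have hm1 := conj_mem_M1 (sU_mem _ h0) ha
  calc ι a * (o * ι (sU (t 0) * sU (t i))) * (ι a)⁻¹
      = o * o * (ι a * (o * ι (sU (t 0) * sU (t i))) * (ι a)⁻¹) := by rw [ho, one_mul]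
    _ = o * (o * ι a * o * ι (sU (t 0) * sU (t i)) * (ι a)⁻¹) := by group
    _ = o * ι (sU (t 0) * a * (sU (t 0))⁻¹ * (sU (t 0) * sU (t i)) * a⁻¹) := by
        rw [e1, S.hmul _ (mul_mem hm1 hp) _ (inv_mem ha), S.hmul _ hm1 _ hp, S.map_inv ha]
    _ = o * ι (sU (t 0) * (a * sU (t i) * a⁻¹)) := by congr 2; group
    _ = o * ι (sU (t 0) * sU (t j)) := by rw [hsj]

/-- A conjugate does not induce the standard reflection. -/
theorem no_refl_base (S : Setting L ι) {y : G} (hy : CZ L ι y) : ¬ Ind ι y (sU 0) := by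
  intro hind
  obtain ⟨g, hg⟩ := hy.1
  obtain ⟨hy2, hy1⟩ := S.cz_invol hy
  have hyN := S.mem_N_iff.1 hy.2.1
  have hnLC : ¬ InLC ι y := fun h => not_mem_sU (show 0 < 240 by norm_num) ((S.LC_mem_iff hind).1 h)
  have hy' : CZ L ι (g⁻¹ * ι (-1) * g) := S.cz_inv (hg ▸ hy)
  have hnLC' : ¬ InLC ι (g⁻¹ * ι (-1) * g) := by
    intro h
    have := S.sym_inLC (g := g⁻¹) (by rwa [inv_inv]) (by rwa [inv_inv])
    rw [inv_inv, hg] at this
    exact hnLC this
  -- the lifts of the frame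
  obtain ⟨P, hP⟩ : ∃ P : ℕ → G, P = fun j => y * ι (sU 0 * sU (fR j)) := ⟨_, rfl⟩
  have hpM : ∀ j < 8, sU 0 * sU (fR j) ∈ M1 := fun j hj => pair_mem_M1 (by norm_num) (fR_lt hj)
  have hPind : ∀ j < 8, Ind ι (P j) (sU (fR j)) := fun j hj => by
    rw [hP]; exact S.ind_pair (by norm_num) (fR_lt hj) hind
  have hP0 : P 0 = y := by
    rw [hP]
    show y * ι (sU 0 * sU (fR 0)) = y
    rw [fR_zero, sU_sq, S.map_one, mul_one]
  have hscomm : ∀ {i j}, i < 8 → j < 8 → sU (fR i) * sU (fR j) = sU (fR j) * sU (fR i) := by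
    intro i j hi hj
    by_cases h : i = j
    · rw [h]
    · exact sU_commute_of_orth (fR_lt hi) (fR_lt hj) (fR_orth hi hj h)
  have hPP : ∀ i < 8, ∀ j < 8, P i * P j = ι (sU (fR i) * sU (fR j)) := by
    intro i hi j hj
    have e1 : y * ι (sU 0 * sU (fR i)) * y = ι (sU 0 * (sU 0 * sU (fR i)) * (sU 0)⁻¹) := by
      rw [← hind.2 _ (hpM i hi), inv_eq_of_mul_eq_one_right hy2]
    rw [hP]
    calc y * ι (sU 0 * sU (fR i)) * (y * ι (sU 0 * sU (fR j)))
        = y * ι (sU 0 * sU (fR i)) * y * ι (sU 0 * sU (fR j)) := by group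
      _ = ι (sU 0 * (sU 0 * sU (fR i)) * (sU 0)⁻¹ * (sU 0 * sU (fR j))) := by
          rw [e1, S.hmul _ (conj_mem_M1 (sU_mem 0 (by norm_num)) (hpM i hi)) _ (hpM j hj)]
      _ = ι (sU (fR i) * sU (fR j)) := by
          congr 1
          rw [← mul_assoc (sU 0) (sU 0), sU_sq, one_mul]
          group
  have hPcomm : ∀ i < 8, ∀ j < 8, P i * P j = P j * P i := fun i hi j hj => by
    rw [hPP i hi j hj, hPP j hj i hi, hscomm hi hj]
  have hPconj : ∀ j < 8, ∃ a ∈ M1, ι a * y * (ι a)⁻¹ = P j := by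
    intro j hj
    obtain ⟨a, ha, e⟩ := exists_M1_to_frame hj
    refine ⟨a, ha, ?_⟩
    have := S.frame_conj (t := fR) hy2 (fun k hk => fR_lt hk) (by rw [fR_zero]; exact hind) ha
      (i := 0) (show 0 < 8 by norm_num) hj (.inl (by rw [fR_zero]; exact e))
    rw [fR_zero, sU_sq, S.map_one, mul_one] at this
    rw [this, hP]
  have hPz : ∀ j < 8, P j * ι (-1) = ι (-1) * P j := fun j hj => by
    rw [hP]
    calc y * ι (sU 0 * sU (fR j)) * ι (-1) = y * (ι (sU 0 * sU (fR j)) * ι (-1)) := by group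
      _ = y * (ι (-1) * ι (sU 0 * sU (fR j))) := by rw [S.z_comm (hpM j hj)]
      _ = y * ι (-1) * ι (sU 0 * sU (fR j)) := by group
      _ = ι (-1) * y * ι (sU 0 * sU (fR j)) := by rw [hyN]
      _ = ι (-1) * (y * ι (sU 0 * sU (fR j))) := by group
  have hPy : ∀ j < 8, P j * y = y * P j := fun j hj => by
    rw [← hP0]; exact hPcomm j hj 0 (by norm_num)
  -- nine points
  obtain ⟨Q, hQ⟩ : ∃ Q : ℕ → G, Q = fun i => if i = 0 then ι (-1) else P (i - 1) := ⟨_, rfl⟩
  have hQcomm : ∀ i < 9, ∀ j < 9, Q i * Q j = Q j * Q i := by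
    intro i hi j hj
    rw [hQ]
    rcases i with _ | i <;> rcases j with _ | j <;> simp only [Nat.succ_ne_zero, if_true, if_false,
      Nat.add_sub_cancel]
    · exact (hPz j (by omega)).symm
    · exact hPz i (by omega)
    · exact hPcomm i (by omega) j (by omega)
  have hQinj : ∀ i < 9, ∀ j < 9, Q i = Q j → i = j := by
    have key : ∀ i < 8, P i ≠ ι (-1) := fun i hi h => by
      refine not_mem_sU (fR_lt hi) ((S.LC_mem_iff (hPind i hi)).1 ?_)
      rw [h]
      exact S.inLC_elt negOne_mem_M1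
    intro i hi j hj h
    rw [hQ] at h
    rcases i with _ | i <;> rcases j with _ | j <;> simp only [Nat.succ_ne_zero, if_true, if_false,
      Nat.add_sub_cancel] at h
    · rfl
    · exact absurd h.symm (key j (by omega))
    · exact absurd h (key i (by omega))
    · by_contra hne
      have hij : i ≠ j := fun e => hne (by rw [e])
      have h4 := S.ind_unique (hPind i (by omega)) (h ▸ hPind j (by omega))
      have h5 := sU_eq_cases (fR_lt (show i < 8 by omega)) (fR_lt (show j < 8 by omega))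
        (h4.imp (fun e => e.symm) fun e => by rw [e, neg_neg])
      obtain ⟨n1, n2⟩ := ne_of_orth (fR_lt (show i < 8 by omega))
        (fR_orth (show i < 8 by omega) (show j < 8 by omega) hij)
      exact h5.elim n1 n2
  have hsw : ∀ j, j < 8 → sw (j + 1) < 9 := by
    intro j hj
    rcases j with _ | j <;> simp only [sw] <;> omega
  -- their images
  obtain ⟨O, hO⟩ : ∃ O : ℕ → G, O = fun j => g⁻¹ * Q (sw (j + 1)) * g := ⟨_, rfl⟩
  have hO0 : O 0 = g⁻¹ * ι (-1) * g := by rw [hO, hQ]; rfl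
  have hOs : ∀ j, O (j + 1) = g⁻¹ * P (j + 1) * g := fun j => by rw [hO, hQ]; rfl
  have hOcomm : ∀ i < 8, ∀ j < 8, O i * O j = O j * O i := fun i hi j hj => by
    rw [hO]
    calc g⁻¹ * Q (sw (i + 1)) * g * (g⁻¹ * Q (sw (j + 1)) * g)
        = g⁻¹ * (Q (sw (i + 1)) * Q (sw (j + 1))) * g := by group
      _ = g⁻¹ * (Q (sw (j + 1)) * Q (sw (i + 1))) * g := by
          rw [hQcomm _ (hsw i hi) _ (hsw j hj)]
      _ = g⁻¹ * Q (sw (j + 1)) * g * (g⁻¹ * Q (sw (i + 1)) * g) := by group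
  have hQconj : ∀ i < 9, ∃ h, h * ι (-1) * h⁻¹ = Q i := by
    intro i hi
    rcases i with _ | i
    · exact ⟨1, by rw [hQ]; simp⟩
    · obtain ⟨a, -, e⟩ := hPconj i (by omega)
      refine ⟨ι a * g, ?_⟩
      rw [hQ]
      simp only [Nat.succ_ne_zero, if_false, Nat.add_sub_cancel]
      rw [← e, ← hg]
      group
  have hQy : ∀ i < 9, Q i * y = y * Q i := by
    intro i hi
    rw [hQ]
    rcases i with _ | i <;> simp only [Nat.succ_ne_zero, if_true, if_false, Nat.add_sub_cancel]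
    · exact hyN.symm
    · exact hPy i (by omega)
  have hOz : ∀ j < 8, CZ L ι (O j) := by
    intro j hj
    obtain ⟨h, hh⟩ := hQconj _ (hsw j hj)
    refine ⟨⟨g⁻¹ * h, by rw [hO]; dsimp only; rw [← hh]; group⟩,
      by rw [hO]; exact S.conj_N (by rw [hg]; exact hQy _ (hsw j hj)), fun e => ?_⟩
    have e2 : Q (sw (j + 1)) = y := by
      rw [hO] at e
      dsimp only at e
      calc Q (sw (j + 1)) = g * (g⁻¹ * Q (sw (j + 1)) * g) * g⁻¹ := by group
        _ = y := by rw [e, hg]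
    have e3 : Q (sw (j + 1)) = Q 1 := by rw [e2, hQ]; exact hP0.symm
    have := hQinj _ (hsw j hj) 1 (by norm_num) e3
    rcases j with _ | j <;> simp [sw] at this
  have hOout : ∀ j < 8, ¬ InLC ι (O j) := by
    intro j hj h
    rcases j with _ | j
    · rw [hO0] at h; exact hnLC' h
    rw [hOs] at h
    have hsq : ∀ x ∈ sqSub (rprod bS), x ∈ M1 ∧ InLC ι (g⁻¹ * ι x * g) := by
      intro x hx
      induction hx using Subgroup.closure_induction with
      | mem x hx =>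
        obtain ⟨k, hk, hks, rfl⟩ := hx
        refine ⟨mul_mem hk hk, ?_⟩
        rw [rprod_bS] at hks
        have hkN : g⁻¹ * ι k * g ∈ Subgroup.normalizer (L : Set G) := S.conj_N (by
          rw [hg]
          have e := hind.2 k hk
          rw [← hks, mul_inv_cancel_right, mul_inv_eq_iff_eq_mul] at e
          exact e.symm)
        have := S.inLC_sq hkN
        rwa [show g⁻¹ * ι k * g * (g⁻¹ * ι k * g) = g⁻¹ * (ι k * ι k) * g by group,
          ← S.hmul _ hk _ hk] at this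
      | one =>
        refine ⟨one_mem _, ?_⟩
        rw [show g⁻¹ * ι 1 * g = ι 1 by rw [S.map_one]; group]
        exact S.inLC_elt (one_mem M1)
      | mul a b _ _ ha hb =>
        refine ⟨mul_mem ha.1 hb.1, ?_⟩
        have := S.inLC_mul ha.2 hb.2
        rwa [show g⁻¹ * ι a * g * (g⁻¹ * ι b * g) = g⁻¹ * (ι a * ι b) * g by group,
          ← S.hmul _ ha.1 _ hb.1] at this
      | inv a _ ha =>
        refine ⟨inv_mem ha.1, ?_⟩
        have := S.inLC_inv ha.2
        rwa [show (g⁻¹ * ι a * g)⁻¹ = g⁻¹ * (ι a)⁻¹ * g by group, ← S.map_inv ha.1] at this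
    obtain ⟨hxM, hx⟩ := hsq _ (neg_pair_sq hj (Nat.succ_ne_zero j))
    have e : g⁻¹ * ι (-1) * g = ι (-1) * (g⁻¹ * P (j + 1) * g) * (g⁻¹ * ι (-(sU 0 * sU (fR (j + 1)))) * g)⁻¹ := by
      have ep : P (j + 1) = y * ι (-1) * ι (-(sU 0 * sU (fR (j + 1)))) := by
        rw [mul_assoc, ← S.hmul _ negOne_mem_M1 _ hxM, neg_one_mul, neg_neg, hP]
      rw [ep, ← hg]
      calc g⁻¹ * ι (-1) * g = ι (-1) * ι (-1) * (g⁻¹ * ι (-1) * g) := by rw [S.z_sq, one_mul]
        _ = _ := by group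
    exact hnLC' (e ▸ S.inLC_mul (S.inLC_mul (S.inLC_elt negOne_mem_M1) h) (S.inLC_inv hx))
  have hOrefl : ∀ j < 8, ∃ t < 240, Ind ι (O j) (sU t) := by
    intro j hj
    rcases S.outer_of_not_inLC (hOz j hj) (hOout j hj) with ⟨v, hv, h⟩ | h
    · exact ⟨_, img_lt hv (show 0 < 240 by norm_num), by rw [← conj_sU hv (show 0 < 240 by norm_num)]; exact h⟩
    · exfalso
      have key : ∀ q : G, g⁻¹ * q * g = O j → ∀ K : Subgroup O8.Z8ˣ, Good5 K →
          (∀ x ∈ K, x * sU 0 = sU 0 * x) → (∀ x ∈ K, ι x * q = q * ι x) → False := by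
        intro q hq K hK hK0 hKq
        refine (S.no_five_class hK (g := g) (q := q) (fun x hx => ?_) hKq).1 (hq ▸ h)
        rw [hg]
        have e := hind.2 x (hK.le hx)
        rw [← hK0 x hx, mul_inv_cancel_right, mul_inv_eq_iff_eq_mul] at e
        exact e.symm
      rcases j with _ | j
      · obtain ⟨K, hK, -, hc⟩ := perfect_A
        exact key (ι (-1)) hO0.symm K hK (fun x hx => (hc x hx).2.1) fun x hx => S.z_comm (hK.le hx)
      · obtain ⟨K, hK, hc⟩ := exists_K_pair (show 0 < 8 by norm_num) hj (Nat.succ_ne_zero j).symm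
        refine key (P (j + 1)) (hOs j).symm K hK (fun x hx => by have := (hc x hx).1; rwa [fR_zero] at this)
          fun x hx => ?_
        have e := (hPind _ hj).2 x (hK.le hx)
        rw [← (hc x hx).2, mul_inv_cancel_right, mul_inv_eq_iff_eq_mul] at e
        exact e.symm
  choose! t ht hti using hOrefl
  have hzP : ∀ j < 8, P j ≠ ι (-1) * y := by
    intro j hj e
    have e3 : y * ι (sU 0 * sU (fR j)) = y * ι (-1) := by rw [hyN, ← e, hP]
    have e2 := S.inj _ (hpM j hj) _ negOne_mem_M1 (mul_left_cancel e3)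
    by_cases hj0 : j = 0
    · rw [hj0, fR_zero, sU_sq] at e2
      exact O8.neg_one_ne_one e2.symm
    have e4 := eq_inv_mul_of_mul_eq e2
    rw [sU_inv, mul_neg, mul_one] at e4
    have h0 := fR_orth (show 0 < 8 by norm_num) hj (Ne.symm hj0)
    rw [fR_zero] at h0
    obtain ⟨n1, n2⟩ := ne_of_orth (show 0 < 240 by norm_num) h0
    exact (sU_eq_cases (show 0 < 240 by norm_num) (fR_lt hj) (.inr (by rw [e4, neg_neg]))).elim n1 n2
  have hQprod : ∀ i < 9, ∀ j < 9, i ≠ j → Q i * Q j ≠ y := by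
    intro i hi j hj hij e
    rw [hQ] at e
    rcases i with _ | i <;> rcases j with _ | j <;> simp only [Nat.succ_ne_zero, if_true, if_false,
      Nat.add_sub_cancel] at e
    · exact hij rfl
    · exact hzP j (by omega) (by rw [← e, ← mul_assoc, S.z_sq, one_mul])
    · rw [hPz i (by omega)] at e
      exact hzP i (by omega) (by rw [← e, ← mul_assoc, S.z_sq, one_mul])
    · rw [hPP i (by omega) j (by omega)] at e
      exact hnLC (e ▸ S.inLC_elt (pair_mem_M1 (fR_lt (by omega)) (fR_lt (by omega))))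
  have horth : ∀ a < 8, ∀ b < 8, a ≠ b → ipN (t a) (t b) = 2 := by
    intro a ha b hb hab
    have e1 : Ind ι (O a * O b) (sU (t b) * sU (t a)) := by
      rw [hOcomm a ha b hb]; exact S.ind_mul (hti b hb) (hti a ha)
    have h1 := S.ind_unique e1 (S.ind_mul (hti a ha) (hti b hb))
    rcases sU_commute_cases (ht a ha) (ht b hb) h1 with h | h | h
    · exact h
    all_goals
      exfalso
      have es : sU (t b) = sU (t a) := by rw [h]; try exact sU_negN (ht a ha)
      have hC : O a * O b ∈ Subgroup.centralizer (L : Set G) := S.mem_C_of_ind (by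
        have := S.ind_mul (hti a ha) (hti b hb)
        rwa [es, sU_sq] at this)
      have hsq : O a * O b * (O a * O b) = 1 := by
        rw [show O a * O b * (O a * O b) = O a * (O b * O a) * O b by group, hOcomm b hb a ha,
          show O a * (O a * O b) * O b = O a * O a * (O b * O b) by group, (S.cz_invol (hOz a ha)).1,
          (S.cz_invol (hOz b hb)).1, one_mul]
      have hab' : sw (a + 1) ≠ sw (b + 1) := by
        rcases a with _ | a <;> rcases b with _ | b <;> simp only [sw] <;> omega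
      have eQ : Q (sw (a + 1)) * Q (sw (b + 1)) = g * (O a * O b) * g⁻¹ := by rw [hO]; group
      rcases S.C_sq hC hsq with e | e <;> rw [e] at eQ
      · rw [mul_one, mul_inv_cancel] at eQ
        refine hab' (hQinj _ (hsw a ha) _ (hsw b hb) ?_)
        rw [mul_eq_one_iff_eq_inv.1 eQ]
        refine inv_eq_of_mul_eq_one_right ?_
        obtain ⟨k, hk⟩ := hQconj _ (hsw b hb)
        rw [← hk, show k * ι (-1) * k⁻¹ * (k * ι (-1) * k⁻¹) = k * (ι (-1) * ι (-1)) * k⁻¹ by group, S.z_sq]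
        group
      · rw [hg] at eQ
        exact hQprod _ (hsw a ha) _ (hsw b hb) hab' eQ
  obtain ⟨v, hv, rho, hrho, hvt⟩ := exists_frame_map t ht horth
  -- the images are the lifts belonging to their frame
  have ho0 := (S.cz_invol (hOz 0 (by norm_num))).1
  have hOeq : ∀ j < 8, O j = O 0 * ι (sU (t 0) * sU (t j)) := by
    intro j hj
    by_cases hj0 : j = 0
    · rw [hj0, sU_sq, S.map_one, mul_one]
    have h0' := ht 0 (by norm_num)
    have hpm := pair_mem_M1 h0' (ht j hj)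
    set d := O 0 * ι (sU (t 0) * sU (t j)) with hd
    have hdind : Ind ι d (sU (t j)) := S.ind_pair h0' (ht j hj) (hti 0 (by norm_num))
    have hst := sU_commute_of_orth h0' (ht j hj) (horth 0 (by norm_num) j hj (Ne.symm hj0))
    have hcp : O 0 * ι (sU (t 0) * sU (t j)) = ι (sU (t 0) * sU (t j)) * O 0 := by
      have e := (hti 0 (by norm_num)).2 _ hpm
      rw [show sU (t 0) * (sU (t 0) * sU (t j)) * (sU (t 0))⁻¹ = sU (t 0) * sU (t j) by
        rw [← mul_assoc (sU (t 0)) (sU (t 0)), sU_sq, one_mul, sU_inv, hst], mul_inv_eq_iff_eq_mul] at e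
      exact e
    have hcj : O j * ι (sU (t 0) * sU (t j)) = ι (sU (t 0) * sU (t j)) * O j := by
      have e := (hti j hj).2 _ hpm
      rw [show sU (t j) * (sU (t 0) * sU (t j)) * (sU (t j))⁻¹ = sU (t 0) * sU (t j) by
        rw [← mul_assoc (sU (t j)), ← hst]; group, mul_inv_eq_iff_eq_mul] at e
      exact e
    have hd2 : d * d = 1 := by
      rw [hd]
      nth_rw 2 [hcp]
      rw [show O 0 * ι (sU (t 0) * sU (t j)) * (ι (sU (t 0) * sU (t j)) * O 0) =
        O 0 * (ι (sU (t 0) * sU (t j)) * ι (sU (t 0) * sU (t j))) * O 0 by group, ← S.hmul _ hpm _ hpm,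
        show sU (t 0) * sU (t j) * (sU (t 0) * sU (t j)) = 1 by
          nth_rw 2 [hst]
          rw [mul_assoc, ← mul_assoc (sU (t j)), sU_sq, one_mul, sU_sq], S.map_one, mul_one, ho0]
    have hdc : d * O j = O j * d := by
      rw [hd, mul_assoc, ← hcj, ← mul_assoc, hOcomm 0 (by norm_num) j hj, mul_assoc]
    have hC : d * O j ∈ Subgroup.centralizer (L : Set G) := S.mem_C_of_ind (by
      have := S.ind_mul hdind (hti j hj)
      rwa [sU_sq] at this)
    have hsq : d * O j * (d * O j) = 1 := by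
      nth_rw 2 [hdc]
      rw [show d * O j * (O j * d) = d * (O j * O j) * d by group, (S.cz_invol (hOz j hj)).1, mul_one, hd2]
    rcases S.C_sq hC hsq with e | e
    · rw [mul_eq_one_iff_inv_eq.1 e |>.symm, inv_eq_of_mul_eq_one_right hd2]
    exfalso
    -- the twisted lift is impossible
    have hOj : O j = d * ι (-1) := by rw [← e, ← mul_assoc, hd2, one_mul]
    have hu : ∃ u ∈ M1, img u (t 0) = t j := by
      obtain ⟨a, ha, hae⟩ := exists_M1_to_frame (hvt 0 (by norm_num)).1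
      obtain ⟨b, hb, hbe⟩ := exists_M1_to_frame (hvt j hj).1
      have haW := M1_le ha
      have hbW := M1_le hb
      refine ⟨_, conj_mem_M1 (inv_mem hv) (mul_mem hb (inv_mem ha)), ?_⟩
      have h1 : img a⁻¹ (fR (rho.getD 0 8)) = 0 := by rw [← hae, img_inv_img haW (by norm_num)]
      rw [inv_inv, img_mul (mul_mem (inv_mem hv) (mul_mem hbW (inv_mem haW))) hv h0', (hvt 0 (by norm_num)).2,
        img_mul (inv_mem hv) (mul_mem hbW (inv_mem haW)) (fR_lt (hvt 0 (by norm_num)).1),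
        img_mul hbW (inv_mem haW) (fR_lt (hvt 0 (by norm_num)).1), h1, hbe, ← (hvt j hj).2,
        img_inv_img hv (ht j hj)]
    obtain ⟨u, hu, hut⟩ := hu
    have hud : ι u * O 0 * (ι u)⁻¹ = d := by
      have := S.frame_conj ho0 ht (hti 0 (by norm_num)) hu (i := 0) (show 0 < 8 by norm_num) hj (.inl hut)
      rwa [sU_sq, S.map_one, mul_one] at this
    -- so `z y` is conjugate to `z`
    obtain ⟨h1, hh1⟩ := (hOz j hj).1
    have hzy : g * (ι u)⁻¹ * h1 * ι (-1) * (g * (ι u)⁻¹ * h1)⁻¹ = ι (-1) * y := by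
      rw [show g * (ι u)⁻¹ * h1 * ι (-1) * (g * (ι u)⁻¹ * h1)⁻¹ =
        g * ((ι u)⁻¹ * (h1 * ι (-1) * h1⁻¹) * ι u) * g⁻¹ by group, hh1, hOj, ← hud,
        show (ι u)⁻¹ * (ι u * O 0 * (ι u)⁻¹ * ι (-1)) * ι u = O 0 * ((ι u)⁻¹ * (ι (-1) * ι u)) by group,
        ← S.z_comm hu, inv_mul_cancel_left, hO0, ← hg]
      group
    obtain ⟨a, ha, hay⟩ := hPconj j hj
    obtain ⟨i, rfl⟩ := Nat.exists_eq_succ_of_ne_zero hj0
    have hconj2 : ∃ k, k * ι (-1) * k⁻¹ = O 0 * O (i + 1) := by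
      refine ⟨g⁻¹ * ι a * (g * (ι u)⁻¹ * h1), ?_⟩
      rw [show g⁻¹ * ι a * (g * (ι u)⁻¹ * h1) * ι (-1) * (g⁻¹ * ι a * (g * (ι u)⁻¹ * h1))⁻¹ =
        g⁻¹ * (ι a * (g * (ι u)⁻¹ * h1 * ι (-1) * (g * (ι u)⁻¹ * h1)⁻¹) * (ι a)⁻¹) * g by group, hzy,
        show ι a * (ι (-1) * y) * (ι a)⁻¹ = ι a * ι (-1) * (y * (ι a)⁻¹) by group, S.z_comm ha,
        show ι (-1) * ι a * (y * (ι a)⁻¹) = ι (-1) * (ι a * y * (ι a)⁻¹) by group, hay, hO0, hOs]
      group
    have hneg : O 0 * O (i + 1) = ι (-(sU (t 0) * sU (t (i + 1)))) := by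
      rw [hOj, hd, show O 0 * (O 0 * ι (sU (t 0) * sU (t (i + 1))) * ι (-1)) =
        O 0 * O 0 * (ι (sU (t 0) * sU (t (i + 1))) * ι (-1)) by group, ho0, one_mul, S.z_comm hpm,
        ← S.map_neg hpm]
    obtain ⟨k, hk⟩ := hconj2
    obtain ⟨w, hw, hw0, hwj⟩ := exists_pair_map (hvt 0 (by norm_num)).1 (hvt _ hj).1 (fun e => by
      have h1 := (rho_spec hrho (show 0 < 8 by norm_num)).2.1
      rw [e, (rho_spec hrho hj).2.1] at h1
      exact Nat.succ_ne_zero i h1)
    have hwv := mul_mem hw hv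
    have e0 : img (w * v) (t 0) = 0 := by rw [img_mul hw hv h0', (hvt 0 (by norm_num)).2, hw0]
    have e1 : img (w * v) (t (i + 1)) = 2 := by rw [img_mul hw hv (ht _ hj), (hvt _ hj).2, hwj]
    have hb : w * v * (sU (t 0) * sU (t (i + 1))) * (w * v)⁻¹ = rprod bA := by
      have a0 := conj_sU hwv h0'
      have a1 := conj_sU hwv (ht _ hj)
      rw [e0] at a0
      rw [e1] at a1
      rw [show w * v * (sU (t 0) * sU (t (i + 1))) * (w * v)⁻¹ =
        w * v * sU (t 0) * (w * v)⁻¹ * (w * v * sU (t (i + 1)) * (w * v)⁻¹) by group, a0, a1]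
      simp [bA, rprod]
    have hinn : Inn ι (-rprod bA) (O 0 * O (i + 1)) := by
      refine ⟨(w * v)⁻¹, inv_mem hwv, ?_⟩
      rw [hneg, ← hb, inv_inv, mul_neg, neg_mul]
      congr 2
      group
    refine S.no_negA ⟨⟨k, hk⟩, mul_mem (hOz 0 (by norm_num)).2.1 (hOz _ hj).2.1, fun e' => ?_⟩ hinn
    rw [hneg] at e'
    have e'' := neg_inj.1 (S.inj _ (by rw [← neg_one_mul]; exact mul_mem negOne_mem_M1 hpm) _ negOne_mem_M1 e')
    have h8 := horth 0 (by norm_num) (i + 1) hj (Nat.succ_ne_zero i).symm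
    have e9 : sU (t 0) = sU (t (i + 1)) := by rw [← sU_inv (t (i + 1))]; exact eq_inv_of_mul_eq_one_left e''
    obtain ⟨n1, n2⟩ := ne_of_orth h0' h8
    exact (sU_eq_cases h0' (ht _ hj) (.inl e9)).elim n1 n2
  -- permutations of the nine points
  have hgen : ∀ k < 4, ∃ h : G, ∀ i < 9, gPerm rho k i < 9 ∧ h * Q i * h⁻¹ = Q (gPerm rho k i) := by
    intro k hk
    have case1 : ∀ k < 2, ∃ h : G, ∀ i < 9, lift9 (aPerm k) i < 9 ∧ h * Q i * h⁻¹ = Q (lift9 (aPerm k) i) := by
      intro k hk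
      obtain ⟨a, ha, hap⟩ := aPerm_spec hk
      refine ⟨ι a, fun i hi => ?_⟩
      rcases i with _ | i
      · refine ⟨by simp [lift9], ?_⟩
        rw [hQ]
        simp only [lift9, if_true]
        rw [S.z_comm ha, mul_inv_cancel_right]
      · obtain ⟨hlt, himg⟩ := hap i (by omega)
        refine ⟨by simp only [lift9]; omega, ?_⟩
        rw [hQ]
        simp only [lift9, Nat.succ_ne_zero, if_false, Nat.add_sub_cancel]
        have := S.frame_conj (t := fR) hy2 (fun k hk => fR_lt hk) (by rw [fR_zero]; exact hind) ha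
          (show i < 8 by omega) hlt himg
        rw [fR_zero] at this
        rw [hP]
        exact this
    rcases k with _ | _ | k
    · exact case1 0 (by norm_num)
    · exact case1 1 (by norm_num)
    obtain ⟨a, ha, hap⟩ := aPerm_spec (show k < 2 by omega)
    have hb : v⁻¹ * a * v⁻¹⁻¹ ∈ M1 := conj_mem_M1 (inv_mem hv) ha
    refine ⟨g * ι (v⁻¹ * a * v⁻¹⁻¹) * g⁻¹, fun i hi => ?_⟩
    have hsw9 : sw i < 9 := by rcases i with _ | _ | i <;> simp only [sw] <;> omega
    have hsws : sw (sw i) = i := by rcases i with _ | _ | i <;> rfl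
    obtain ⟨n, hn⟩ : ∃ n, sw i = n := ⟨_, rfl⟩
    rw [hn] at hsw9
    simp only [gPerm, hn]
    rw [show Q i = Q (sw n) by rw [← hn, hsws]]
    rcases n with _ | n
    · refine ⟨by simp [lift9, sw], ?_⟩
      simp only [lift9, sw]
      rw [show Q 1 = y by rw [hQ]; exact hP0, ← hg]
      rw [show g * ι (v⁻¹ * a * v⁻¹⁻¹) * g⁻¹ * (g * ι (-1) * g⁻¹) * (g * ι (v⁻¹ * a * v⁻¹⁻¹) * g⁻¹)⁻¹ =
        g * (ι (v⁻¹ * a * v⁻¹⁻¹) * ι (-1) * (ι (v⁻¹ * a * v⁻¹⁻¹))⁻¹) * g⁻¹ by group, S.z_comm hb]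
      group
    · obtain ⟨hr1, hr2⟩ := hvt n (by omega)
      obtain ⟨hlt, himg⟩ := hap _ hr1
      obtain ⟨-, -, hlt', hinv⟩ := rho_spec hrho hlt
      have hm : bPerm rho k n < 8 := hlt'
      refine ⟨by simp only [lift9]; exact hsw _ hm, ?_⟩
      simp only [lift9]
      have hrv : img v⁻¹ (fR (aPerm k (rho.getD n 8))) = t (bPerm rho k n) := by
        have := (hvt _ hm).2
        unfold bPerm at *
        rw [hinv] at this
        rw [← this, img_inv_img hv (ht _ hm)]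
      have himg' : img (v⁻¹ * a * v⁻¹⁻¹) (t n) = t (bPerm rho k n) ∨
          img (v⁻¹ * a * v⁻¹⁻¹) (t n) = negN (t (bPerm rho k n)) := by
        rw [inv_inv, img_mul (mul_mem (inv_mem hv) (M1_le ha)) hv (ht n (by omega)), hr2,
          img_mul (inv_mem hv) (M1_le ha) (fR_lt hr1)]
        rcases himg with h | h <;> rw [h]
        · exact .inl hrv
        · rw [img_negN (inv_mem hv) (fR_lt hlt), hrv]
          exact .inr rfl
      have := S.frame_conj ho0 ht (hti 0 (by norm_num)) hb (show n < 8 by omega) hm himg'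
      rw [← hOeq n (by omega), ← hOeq _ hm, hO] at this
      calc g * ι (v⁻¹ * a * v⁻¹⁻¹) * g⁻¹ * Q (sw (n + 1)) * (g * ι (v⁻¹ * a * v⁻¹⁻¹) * g⁻¹)⁻¹
          = g * (ι (v⁻¹ * a * v⁻¹⁻¹) * (g⁻¹ * Q (sw (n + 1)) * g) * (ι (v⁻¹ * a * v⁻¹⁻¹))⁻¹) * g⁻¹ := by
            group
        _ = Q (sw (bPerm rho k n + 1)) := by rw [this]; group
  obtain ⟨w, c, jj, hw4, hw0, hbad⟩ := exists_bad hrho
  have hword : ∀ l : List ℕ, (∀ k ∈ l, k < 4) →
      ∃ h : G, ∀ i < 9, wPerm rho l i < 9 ∧ h * Q i * h⁻¹ = Q (wPerm rho l i) := by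
    intro l hl
    induction l with
    | nil => exact ⟨1, fun i hi => ⟨hi, by simp [wPerm]⟩⟩
    | cons k l ih =>
      obtain ⟨h, hh⟩ := ih fun x hx => hl x (by simp [hx])
      obtain ⟨h', hh'⟩ := hgen k (hl k (by simp))
      refine ⟨h' * h, fun i hi => ⟨(hh' _ (hh i hi).1).1, ?_⟩⟩
      rw [show h' * h * Q i * (h' * h)⁻¹ = h' * (h * Q i * h⁻¹) * h'⁻¹ by group, (hh i hi).2,
        (hh' _ (hh i hi).1).2]
      rfl
  obtain ⟨h, hh⟩ := hword w hw4
  have hhN : h ∈ Subgroup.normalizer (L : Set G) := by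
    refine S.mem_N_iff.2 ?_
    have := (hh 0 (by norm_num)).2
    rw [hw0, hQ] at this
    simp only [if_true] at this
    exact mul_inv_eq_iff_eq_mul.1 this
  obtain ⟨x, hx⟩ := S.exists_ind hhN
  refine bad_impossible hbad hx.1 fun i hi => ?_
  obtain ⟨hlt, e⟩ := hh (i + 1) (by omega)
  have hne : wPerm rho w (i + 1) ≠ 0 := fun e0 => by
    have e' := (hh 0 (by norm_num)).2
    rw [hw0] at e'
    rw [e0, ← e'] at e
    have := hQinj (i + 1) (by omega) 0 (by norm_num) (mul_left_cancel (mul_right_cancel e))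
    omega
  obtain ⟨m, hm⟩ := Nat.exists_eq_succ_of_ne_zero hne
  rw [hm] at e hlt ⊢
  rw [hQ] at e
  simp only [Nat.succ_ne_zero, if_false, Nat.succ_eq_add_one, Nat.add_sub_cancel] at e ⊢
  have e1 := S.ind_mul (S.ind_mul hx (hPind i hi)) (S.ind_inv hx)
  rw [e, conj_sU hx.1 (fR_lt hi)] at e1
  exact sU_eq_cases (fR_lt (show m < 8 by omega)) (img_lt hx.1 (fR_lt hi))
    ((S.ind_unique e1 (hPind m (by omega))))

theorem no_refl (S : Setting L ι) {y : G} (hy : CZ L ι y) : ¬ Out ι (sU 0) y := fun h => by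
  obtain ⟨ι', S', hy', -, e⟩ := S.out_rebase h hy
  exact S'.no_refl_base hy' e

end Setting

end Cfsg.Agent.O8Standard
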