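import Cfsg.Agent.Lib.O8Standard.Table
import Cfsg.Agent.Lib.StabCert.Chain
import Cfsg.Agent.Lib.Multiplier.O8Cover

/-!
# The Weyl group of E8 on the roots

* `W` : the group generated by the simple reflections
* `evR` : words in root reflections on root indices
* `img` : the action of `W` on root indices
-/

set_option autoImplicit false
set_option maxRecDepth 100000

namespace Cfsg.Agent.O8Standard

open Cfsg.Agent.Multiplier Matrix

/-- The Gram matrix. -/
abbrev gM : O8.Z8 := O8.toZ O8Data.gram

/-- Entry of a table in chunks of sixteen. -/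
def nget {α : Type} (L : List (List α)) (i : ℕ) (d : α) : α :=
  (L.getD (Nat.div i 16) []).getD (Nat.mod i 16) d

/-- Inner product of two roots plus two. -/
def ipN (a b : ℕ) : ℕ := StabCert.look 8 (nget ipT a 0) b

/-- Reflection in root `k` applied to root `i`. -/
def refN (k i : ℕ) : ℕ := StabCert.look 8 (nget refT k 0) i

/-- A word in root reflections applied to a root, the last letter first. -/
def evR : List ℕ → ℕ → ℕ
  | [], i => i
  | k :: l, i => refN k (evR l i)

/-- All numbers below `n` satisfy `p`. -/
def allLt : ℕ → (ℕ → Bool) → Bool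
  | 0, _ => true
  | n + 1, p => p n && allLt n p

theorem allLt_spec {n : ℕ} {p : ℕ → Bool} (h : allLt n p = true) : ∀ i < n, p i = true := by
  induction n with
  | zero => intro i hi; omega
  | succ n ih =>
    simp only [allLt, Bool.and_eq_true] at h
    intro i hi
    rcases Nat.lt_succ_iff_lt_or_eq.1 hi with hi | rfl
    · exact ih h.2 i hi
    · exact h.1

/-- The list of coordinates of a root. -/
def rootL (i : ℕ) : List ℤ := nget rootT i []

/-- A root. -/
def rv (i : ℕ) : Fin 8 → ℤ := fun j => (rootL i).getD j 0

/-- The scalar product. -/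
def dotG (v w : Fin 8 → ℤ) : ℤ := v ⬝ᵥ gM *ᵥ w

/-- Dot product of lists. -/
def dotL : List ℤ → List ℤ → ℤ
  | a :: v, b :: w => a * b + dotL v w
  | _, _ => 0

/-- The checks at the simple roots. -/
def baseB : Bool :=
  allLt 8 fun k =>
    let u := O8Data.gram.map (dotL (rootL k))
    allLt 240 fun b =>
      decide (dotL u (rootL b) + 2 = (ipN k b : ℤ)) && allLt 8 fun j =>
        decide ((rootL (refN k b)).getD j 0 =
          (rootL b).getD j 0 - ((ipN k b : ℤ) - 2) * (rootL k).getD j 0)

/-- The checks along the parents. -/
def recB : Bool :=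
  allLt 240 fun i => Nat.ble 240 0 || ((Nat.blt i 8 ||
    ((fun k j => Nat.blt k 8 && Nat.blt j i && Nat.beq (refN k j) i &&
      allLt 240 fun b => Nat.beq (ipN i b) (ipN j (refN k b)) &&
        Nat.beq (refN i b) (refN k (refN j (refN k b))))
      (nget parT i (0, 0)).1 (nget parT i (0, 0)).2)) &&
    allLt 240 fun b => Nat.blt (refN i b) 240 && (Nat.beq i b || Nat.blt (ipN i b) 4))

theorem baseB_ok : baseB = true := by decide +kernel

theorem recB_ok : recB = true := by decide +kernel

theorem shape_ok : (allLt 240 fun i => Nat.beq (rootL i).length 8) = true := by decide +kernel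

end Cfsg.Agent.O8Standard
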