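import Cfsg.Agent.Lib.O8Standard.Trees

/-!
# Witness elements in the Weyl group of E8
-/

set_option autoImplicit false

namespace Cfsg.Agent.O8Standard

/-- Witness `sqrtData`. -/
def sqrtData : List (ℕ × List (List ℕ)) :=
  [(3, [[0, 2, 5, 20, 78, 234],
    [0, 6, 78, 122, 139, 184]]), (1, [[0, 5, 83, 90, 159, 238]]), (0, [[0, 47, 89, 99]]), (3, [[0, 5, 97, 151]]), (3, [[0, 3, 6, 137, 139, 200]]), (3, [[0, 3, 6, 137, 139, 200]]), (3, [[0, 1, 16, 49, 74, 125, 176, 221]]), (3, [[0, 1, 16, 49, 74, 125, 176, 221]])]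

/-- Witness `negRoots`. -/
def negRoots : List (List ℕ) :=
  [[0, 4, 6, 31, 83, 90, 99, 176],
    [0, 2, 4, 18, 31, 97, 151, 213],
    [0, 2, 4, 13, 63, 73, 124, 221]]

/-- Witness `jWords`. -/
def jWords : List (List (List ℕ)) :=
  [[[18, 31, 151, 238],
    [4, 35, 139, 232]],
    [[4, 18, 85, 161],
    [2, 7, 30, 124]],
    [[18, 62, 111, 139],
    [5, 31, 185, 230]],
    [[2, 63, 192, 193],
    [35, 147, 161, 170]],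
    [[7, 63, 122, 171],
    [14, 78, 126, 169]],
    [[2, 4, 148, 150],
    [13, 16, 207, 224]],
    [[2, 3, 49, 137],
    [16, 150, 160, 234]]]

/-- Witness `a1Squares`. -/
def a1Squares : List (List ℕ) :=
  [[2, 5, 85, 158, 161, 193]]

/-- Witness `u1Word`. -/
def u1Word : List ℕ :=
  [7, 3, 234, 6]

/-- Witness `a1Conj`. -/
def a1Conj : List ℕ :=
  [78, 232, 2, 193, 9, 194]

/-- Witness `p1Squares`. -/
def p1Squares : List (List ℕ) :=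
  [[2, 4, 18, 47, 139, 238]]

/-- Witness `p1Conj`. -/
def p1Conj : List ℕ :=
  [161, 6, 176, 3, 7, 27, 117]

/-- Witness `p1Refl`. -/
def p1Refl : List ℕ :=
  [26, 117]

/-- Witness `xWord`. -/
def xWord : List ℕ :=
  [1, 24]

/-- Witness `xConj`. -/
def xConj : List ℕ :=
  [2, 11]

/-- Witness `axConj`. -/
def axConj : List ℕ :=
  [2, 0, 24]

/-- Witness `pairD`. -/
def pairD : List ℕ × List ℕ :=
  ([4, 18, 39, 47],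
    [7, 179, 0, 195])

/-- Witness `pairE`. -/
def pairE : List ℕ × List ℕ :=
  ([7, 9, 11, 57],
    [2, 1, 90])

/-- Witness `kAGens`. -/
def kAGens : List (List ℕ) :=
  [[63, 234],
    [178, 224],
    [85, 162],
    [122, 151]]

/-- Witness `kAComm`. -/
def kAComm : List (List (List ℕ × List ℕ)) :=
  [[([1, 0, 1, 3],
    [1, 0, 3, 1])],
    [([2, 1, 3],
    [1, 3, 2, 3])],
    [([1, 2, 3],
    [1, 2, 3, 2])],
    [([1, 2],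
    [1, 2, 3])]]

/-- Witness `kAFive`. -/
def kAFive : List ℕ :=
  [0, 1]

/-- Witness `kANeg`. -/
def kANeg : List ℕ :=
  [0, 1, 0, 1, 0, 2, 0, 2, 1, 3, 0, 2, 3, 1, 2]

/-- Witness `kXGens`. -/
def kXGens : List (List ℕ) :=
  [[4, 238],
    [151, 170],
    [170, 236]]

/-- Witness `kXComm`. -/
def kXComm : List (List (List ℕ × List ℕ)) :=
  [[([0],
    [1]), ([2],
    [0, 1, 2, 0])],
    [([2, 0, 2],
    [0, 1, 2, 0])],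
    [([1, 0, 1],
    [0, 2, 1, 0])]]

/-- Witness `kXFive`. -/
def kXFive : List ℕ :=
  [0, 1]

/-- Witness `negSets`. -/
def negSets : List (List ℕ × List ℕ) :=
  [([0, 2, 8, 12, 238, 239],
    [0, 2, 238]), ([0, 2, 8, 12, 89, 97, 101, 104, 106, 110, 114, 118, 161, 166, 213, 215, 216, 217, 218, 219, 220, 222, 238, 239],
    [0, 2, 238, 89]), ([0, 2, 8, 12, 111, 119, 238, 239],
    [0, 2, 238, 111])]

/-- Witness `orthSet`. -/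
def orthSet : List ℕ × List ℕ :=
  ([4, 5, 17, 18, 19, 31, 34, 45, 47, 61, 63, 77, 85, 96, 99, 108, 111, 119, 139, 146, 151, 157, 161, 162, 166, 167],
    [4, 5, 31, 85, 161])

/-- Witness `orthCert`. -/
def orthCert : List (ℤ × List ℤ) :=
  [(1, [0, 0, 0, 0, 0, 1, 0, 0]), (2, [0, 0, -1, 1, 0, -1, -1, 0]), (1, [0, 0, 0, 0, 0, 0, 1, 0]), (2, [-2, -1, 0, -1, 1, 0, -1, 0]), (1, [1, 0, 0, 0, 0, 0, 0, 0]), (1, [0, 1, 0, 0, 0, 0, 0, 0]), (2, [-2, -2, -1, -1, -1, 0, 0, 1]), (2, [2, 1, 2, 1, -1, 0, -1, 0])]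

/-- Witness `frAut`. -/
def frAut : List (List ℕ × List ℕ) :=
  [([7, 0, 3, 5, 6, 1, 4, 2],
    [2, 62, 177, 4, 20, 170, 27, 57, 9, 74]), ([7, 3, 4, 2, 6, 5, 0, 1],
    [2, 4, 58, 84, 49, 186, 3, 30, 9, 74])]

/-- Witness `badWords`. -/
def badWords : List (List ℕ × List ℕ × List ℕ × ℕ) :=
  [([5, 7, 6, 1, 4, 2, 0, 3],
    [3],
    [0, 1, 2, 3], 0), ([4, 0, 6, 7, 3, 1, 2, 5],
    [2, 2],
    [0, 1, 2, 3], 0), ([2, 5, 1, 3, 7, 0, 6, 4],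
    [3, 2],
    [0, 1, 2, 3], 0), ([7, 5, 1, 6, 2, 3, 0, 4],
    [2, 0, 2],
    [0, 1, 2, 3], 1), ([6, 2, 0, 5, 7, 4, 3, 1],
    [3, 2],
    [0, 1, 2, 3], 0), ([0, 1, 7, 3, 4, 6, 5, 2],
    [2, 3, 2],
    [0, 1, 2, 3], 1), ([4, 2, 7, 6, 1, 3, 5, 0],
    [2, 2],
    [0, 1, 2, 3], 1), ([6, 7, 0, 4, 5, 2, 1, 3],
    [3, 2],
    [0, 1, 2, 3], 0), ([1, 0, 5, 4, 7, 3, 6, 2],
    [2, 2, 3],
    [0, 1, 4, 7], 0), ([2, 4, 7, 5, 0, 1, 6, 3],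
    [3, 2],
    [0, 1, 4, 7], 0), ([0, 2, 7, 3, 1, 4, 6, 5],
    [2, 1, 2],
    [0, 1, 2, 3], 0), ([5, 0, 3, 1, 6, 2, 4, 7],
    [3],
    [0, 1, 2, 3], 0), ([2, 4, 0, 6, 7, 5, 1, 3],
    [3, 2],
    [0, 1, 2, 3], 0), ([7, 6, 3, 2, 4, 1, 5, 0],
    [3, 2, 3],
    [0, 1, 4, 7], 0), ([5, 6, 3, 0, 7, 1, 2, 4],
    [3],
    [0, 1, 4, 7], 0), ([1, 5, 3, 2, 0, 7, 6, 4],
    [2, 2, 3],
    [0, 1, 4, 7], 0), ([3, 6, 5, 7, 0, 4, 2, 1],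
    [2, 3],
    [0, 1, 2, 3], 1), ([0, 7, 5, 4, 2, 6, 1, 3],
    [2, 3, 2],
    [0, 1, 2, 3], 2), ([1, 6, 4, 3, 0, 2, 7, 5],
    [2, 2, 3],
    [0, 1, 2, 3], 1), ([4, 1, 3, 2, 0, 5, 7, 6],
    [2, 2],
    [0, 1, 4, 7], 0), ([1, 3, 7, 4, 2, 5, 6, 0],
    [2, 2, 3],
    [0, 1, 2, 3], 0), ([5, 4, 0, 3, 6, 1, 7, 2],
    [3],
    [0, 1, 2, 3], 0), ([0, 7, 6, 5, 4, 1, 2, 3],
    [2, 3, 2],
    [0, 1, 2, 3], 2), ([0, 6, 1, 3, 7, 2, 4, 5],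
    [2, 3, 2],
    [0, 1, 2, 3], 0), ([1, 0, 6, 5, 7, 4, 3, 2],
    [2, 1, 2],
    [0, 1, 2, 3], 1), ([3, 7, 5, 0, 6, 1, 4, 2],
    [2, 3],
    [0, 1, 4, 7], 0), ([2, 7, 1, 5, 6, 4, 0, 3],
    [3, 2],
    [0, 1, 2, 3], 1), ([1, 3, 4, 5, 2, 6, 7, 0],
    [2, 1, 3],
    [0, 1, 2, 3], 1), ([6, 3, 5, 2, 0, 7, 4, 1],
    [2, 2],
    [0, 1, 2, 3], 0), ([3, 1, 7, 6, 5, 2, 0, 4],
    [2, 3],
    [0, 1, 2, 3], 0)]

/-- Witness `toFrame`. -/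
def toFrame : List (List ℕ) :=
  [[],
    [9, 11],
    [73, 221],
    [26, 117],
    [1, 90],
    [38, 42],
    [27, 91],
    [9, 74]]

end Cfsg.Agent.O8Standard
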