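import Cfsg.Agent.Lib.O8Standard.Words
import Cfsg.Agent.Lib.O8Standard.WitnessData

/-!
# Facts about the representatives

* `no_sqrt` : no element commuting with the squares in the centraliser squares to the representative
* `exists_sqrt_negOne`, `neg_pair_sq` : `-1` and `-s t` as squares in centralisers
* `exists_a1`, `exists_p1` : auxiliary elements for three reflections
* `exists_x`, `exists_pair` : pairs of conjugates with product of the second class
* `perfect_A`, `perfect_X` : perfect groups generated by involutions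
-/

set_option autoImplicit false
set_option maxRecDepth 100000

namespace Cfsg.Agent.O8Standard

open Cfsg.Agent.Multiplier
open scoped commutatorElement

/-- The products of squares of elements of `M1` commuting with `b`. -/
def sqSub (b : O8.Z8ˣ) : Subgroup O8.Z8ˣ :=
  Subgroup.closure {x | ∃ k ∈ M1, k * b = b * k ∧ x = k * k}

/-- The words of `gs` are even and commute with `b`; the squares exclude a root of `b` at `x`. -/
def sqrtB (b : List ℕ) (x : ℕ) (gs : List (List ℕ)) : Bool :=
  okW b && Nat.blt x 240 && (gs.all fun g => evenW g && comW g b) &&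
    allLt 240 fun t => !(Nat.beq (ipN (evR b x) t) (ipN t x) &&
      gs.all fun g => Nat.beq (ipN (evR (g ++ g) t) t) (ipN (evR (g ++ g) x) x))

/-- The representatives, with both signs. -/
def sqrtWords : List (List ℕ) := [bA, FR ++ bA, bD, FR ++ bD, bE, FR ++ bE, p0Word, FR ++ p0Word]

theorem sqrtData_ok : (allLt 8 fun i =>
    sqrtB (sqrtWords.getD i []) (sqrtData.getD i (0, [])).1 (sqrtData.getD i (0, [])).2) = true := by
  decide +kernel

theorem sqrt_ne {i : ℕ} (hi : i < 8) {u : O8.Z8ˣ} (hu : u ∈ W)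
    (hc : ∀ k ∈ M1, k * rprod (sqrtWords.getD i []) = rprod (sqrtWords.getD i []) * k →
      u * (k * k) = k * k * u) :
    u * u ≠ rprod (sqrtWords.getD i []) := by
  have h := allLt_spec sqrtData_ok i hi
  generalize sqrtWords.getD i [] = b at *
  generalize sqrtData.getD i (0, []) = d at *
  obtain ⟨x, gs⟩ := d
  simp only [sqrtB, Bool.and_eq_true, List.all_eq_true, Nat.blt_eq] at h
  obtain ⟨⟨⟨hb, hx⟩, hgs⟩, hall⟩ := h
  intro h2
  have ht := img_lt hu hx
  have h' := allLt_spec hall _ ht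
  simp only [Bool.not_eq_true', Bool.and_eq_false_iff] at h'
  rcases h' with h' | h'
  · apply absurd h'
    rw [Bool.not_eq_false, Nat.beq_eq, ← img_rprod (okW_spec hb) hx, ← h2, img_mul hu hu hx,
      ipN_img hu ht hx]
  · apply absurd h'
    rw [Bool.not_eq_false, List.all_eq_true]
    intro g hg
    obtain ⟨hge, hgc⟩ := hgs g hg
    have hgm := M1_of_even hge
    have hok : ∀ k ∈ g ++ g, k < 240 := by
      simp only [evenW, Bool.and_eq_true] at hge
      intro k hk
      rcases List.mem_append.1 hk with hk | hk <;> exact okW_spec hge.1 k hk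
    rw [Nat.beq_eq, ← img_rprod hok ht, ← img_rprod hok hx]
    have hk := hc _ hgm (comm_of_comW hgc)
    rw [← rprod_append] at hk
    have hgW := rprod_mem hok
    rw [← img_mul hgW hu hx, ← hk, img_mul hu hgW hx, ipN_img hu (img_lt hgW hx) hx]

/-- No element commuting with all squares in the centraliser squares to `b` or `-b`. -/
theorem no_sqrt {b : List ℕ} (hb : b ∈ [bA, bD, bE, p0Word]) {u : O8.Z8ˣ} (hu : u ∈ W)
    (hc : ∀ k ∈ M1, k * rprod b = rprod b * k → u * (k * k) = k * k * u) :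
    u * u ≠ rprod b ∧ u * u ≠ -rprod b := by
  have hneg : -rprod b = rprod (FR ++ b) := by rw [rprod_append, rprod_FR, neg_one_mul]
  have hc' : ∀ k ∈ M1, k * rprod (FR ++ b) = rprod (FR ++ b) * k → u * (k * k) = k * k * u := by
    intro k hk e
    rw [← hneg, mul_neg, neg_mul, neg_inj] at e
    exact hc k hk e
  rw [hneg]
  simp only [List.mem_cons, List.not_mem_nil, or_false] at hb
  rcases hb with rfl | rfl | rfl | rfl
  exacts [⟨sqrt_ne (i := 0) (by decide) hu hc, sqrt_ne (i := 1) (by decide) hu hc'⟩,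
    ⟨sqrt_ne (i := 2) (by decide) hu hc, sqrt_ne (i := 3) (by decide) hu hc'⟩,
    ⟨sqrt_ne (i := 4) (by decide) hu hc, sqrt_ne (i := 5) (by decide) hu hc'⟩,
    ⟨sqrt_ne (i := 6) (by decide) hu hc, sqrt_ne (i := 7) (by decide) hu hc'⟩]

theorem negRoots_ok : ((allLt 3 fun i =>
    let g := negRoots.getD i []
    evenW g && comW g ([bA, bD, bE].getD i []) && eqNegW (g ++ g) [])) = true := by
  decide +kernel

theorem exists_sqrt_negOne {b : List ℕ} (hb : b ∈ [bA, bD, bE]) :
    ∃ k ∈ M1, k * rprod b = rprod b * k ∧ k * k = -1 := by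
  have key : ∀ i < 3, ∃ k ∈ M1, k * rprod ([bA, bD, bE].getD i []) = rprod ([bA, bD, bE].getD i []) * k ∧
      k * k = -1 := by
    intro i hi
    have h := allLt_spec negRoots_ok i hi
    simp only [Bool.and_eq_true] at h
    exact ⟨_, M1_of_even h.1.1, comm_of_comW h.1.2, by
      rw [← rprod_append, eq_neg_of_eqNegW h.2, rprod_nil]⟩
  simp only [List.mem_cons, List.not_mem_nil, or_false] at hb
  rcases hb with rfl | rfl | rfl
  exacts [key 0 (by decide), key 1 (by decide), key 2 (by decide)]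

/-- The root of the frame. -/
def fR (j : ℕ) : ℕ := FR.getD j 0

theorem fR_facts : ((allLt 8 fun j => Nat.blt (fR j) 240 && allLt 8 fun i =>
    Nat.beq i j || Nat.beq (ipN (fR i) (fR j)) 2) && Nat.beq (fR 0) 0 && Nat.beq (fR 1) 2) = true := by
  decide +kernel

theorem fR_lt {j : ℕ} (hj : j < 8) : fR j < 240 := by
  have h := fR_facts
  simp only [Bool.and_eq_true] at h
  have h' := allLt_spec h.1.1 j hj
  simp only [Bool.and_eq_true, Nat.blt_eq] at h'
  exact h'.1

theorem fR_orth {i j : ℕ} (hi : i < 8) (hj : j < 8) (h : i ≠ j) : ipN (fR i) (fR j) = 2 := by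
  have h' := fR_facts
  simp only [Bool.and_eq_true] at h'
  have h'' := allLt_spec h'.1.1 j hj
  simp only [Bool.and_eq_true] at h''
  have h3 := allLt_spec h''.2 i hi
  simp only [Bool.or_eq_true, Nat.beq_eq] at h3
  exact h3.resolve_left h

theorem fR_zero : fR 0 = 0 := rfl

theorem fR_one : fR 1 = 2 := rfl

theorem jWords_ok : (allLt 7 fun i =>
    let l := jWords.getD i []
    (l.all fun g => evenW g && comW g bS) &&
      eqNegW (l.flatMap fun g => g ++ g) [0, fR (i + 1)]) = true := by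
  decide +kernel

theorem sq_mem_sqSub {b : List ℕ} {l : List (List ℕ)} (h : ∀ g ∈ l, evenW g = true ∧ comW g b = true) :
    rprod (l.flatMap fun g => g ++ g) ∈ sqSub (rprod b) := by
  induction l with
  | nil => exact one_mem _
  | cons g l ih =>
    rw [List.flatMap_cons, rprod_append]
    refine mul_mem (Subgroup.subset_closure ⟨rprod g, M1_of_even (h g (by simp)).1,
      comm_of_comW (h g (by simp)).2, rprod_append g g⟩) (ih fun x hx => h x (by simp [hx]))

/-- `-s_1 s_j` is a product of squares in the centraliser of `s_1`. -/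
theorem neg_pair_sq {j : ℕ} (hj : j < 8) (h0 : j ≠ 0) :
    -(sU 0 * sU (fR j)) ∈ sqSub (rprod bS) := by
  obtain ⟨i, rfl⟩ := Nat.exists_eq_succ_of_ne_zero h0
  have h := allLt_spec jWords_ok i (by omega)
  simp only [Bool.and_eq_true, List.all_eq_true] at h
  have e : rprod [0, fR (i + 1)] = sU 0 * sU (fR (i + 1)) := by simp [rprod]
  rw [Nat.succ_eq_add_one, ← e, ← neg_neg (rprod [0, fR (i + 1)]), ← eq_neg_of_eqNegW h.2,
    neg_neg]
  exact sq_mem_sqSub h.1

theorem three_ok : ((a1Squares.all fun g => evenW g && comW g b3) &&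
    (p1Squares.all fun g => evenW g && comW g b3) && evenW u1Word &&
    eqW ((a1Squares.flatMap fun g => g ++ g) ++ u1Word) (b3 ++ u1Word ++ b3) &&
    eqW (a1Conj ++ (a1Squares.flatMap fun g => g ++ g)) (bD ++ a1Conj) &&
    eqW (p1Conj ++ (p1Squares.flatMap fun g => g ++ g)) (bD ++ p1Conj) &&
    eqW (p1Refl ++ (b3 ++ p1Squares.flatMap fun g => g ++ g)) (FR ++ bS ++ p1Refl) &&
    okW a1Conj && okW p1Conj && okW p1Refl) = true := by
  decide +kernel

/-- An element of the class of four reflections that moves three reflections. -/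
theorem exists_a1 : ∃ a ∈ sqSub (rprod b3), ∃ u ∈ M1, ∃ v ∈ W,
    a = rprod b3 * u * rprod b3 * u⁻¹ ∧ v * a * v⁻¹ = rprod bD := by
  have h := three_ok
  simp only [Bool.and_eq_true, List.all_eq_true] at h
  obtain ⟨⟨⟨⟨⟨⟨⟨⟨⟨hs, -⟩, hu⟩, he⟩, hc⟩, -⟩, -⟩, hv⟩, -⟩, -⟩ := h
  refine ⟨_, sq_mem_sqSub hs, _, M1_of_even hu, _, W_of_ok hv, ?_, conj_eq_of_eqW hc⟩
  rw [eq_mul_inv_iff_mul_eq, ← rprod_append, eq_of_eqW he, rprod_append, rprod_append]

/-- An element of the class of four reflections sending three reflections to minus one. -/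
theorem exists_p1 : ∃ p ∈ sqSub (rprod b3),
    (∃ v ∈ W, v * p * v⁻¹ = rprod bD) ∧ ∃ v ∈ W, v * (rprod b3 * p) * v⁻¹ = -rprod bS := by
  have h := three_ok
  simp only [Bool.and_eq_true, List.all_eq_true] at h
  obtain ⟨⟨⟨⟨⟨⟨⟨⟨⟨-, hs⟩, -⟩, -⟩, -⟩, hc⟩, hr⟩, -⟩, hv⟩, hv'⟩ := h
  refine ⟨_, sq_mem_sqSub hs, ⟨_, W_of_ok hv, conj_eq_of_eqW hc⟩, _, W_of_ok hv', ?_⟩
  rw [← rprod_append, conj_eq_of_eqW hr, rprod_append, rprod_FR, neg_one_mul]

theorem x_ok : (evenW xWord && comW xWord bA && eqW (xConj ++ xWord) (bA ++ xConj) &&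
    eqW (axConj ++ (bA ++ xWord)) (bA ++ axConj) && okW xConj && okW axConj) = true := by
  decide +kernel

/-- A commuting conjugate whose product is conjugate as well. -/
theorem exists_x : rprod xWord ∈ M1 ∧ rprod xWord * rprod bA = rprod bA * rprod xWord ∧
    (∃ v ∈ W, v * rprod xWord * v⁻¹ = rprod bA) ∧
    ∃ v ∈ W, v * (rprod bA * rprod xWord) * v⁻¹ = rprod bA := by
  have h := x_ok
  simp only [Bool.and_eq_true] at h
  obtain ⟨⟨⟨⟨⟨hm, hc⟩, h1⟩, h2⟩, hv⟩, hv'⟩ := h
  exact ⟨M1_of_even hm, comm_of_comW hc, ⟨_, W_of_ok hv, conj_eq_of_eqW h1⟩, _, W_of_ok hv', by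
    rw [← rprod_append]; exact conj_eq_of_eqW h2⟩

theorem pair_ok : (okW pairD.1 && okW pairD.2 && okW pairE.1 && okW pairE.2 &&
    comW (pairD.1 ++ bD ++ pairD.1.reverse) bD &&
    eqW (pairD.2 ++ (pairD.1 ++ bD ++ pairD.1.reverse ++ bD)) (bA ++ pairD.2) &&
    comW (pairE.1 ++ bE ++ pairE.1.reverse) bE &&
    eqW (pairE.2 ++ (pairE.1 ++ bE ++ pairE.1.reverse ++ bE)) (bA ++ pairE.2)) = true := by
  decide +kernel

/-- Two conjugates with product of the class of two reflections. -/
theorem exists_pair {b : List ℕ} (hb : b ∈ [bD, bE]) : ∃ g ∈ W,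
    (g * rprod b * g⁻¹) * rprod b = rprod b * (g * rprod b * g⁻¹) ∧
      ∃ v ∈ W, v * (g * rprod b * g⁻¹ * rprod b) * v⁻¹ = rprod bA := by
  have h := pair_ok
  simp only [Bool.and_eq_true] at h
  obtain ⟨⟨⟨⟨⟨⟨⟨h1, h2⟩, h3⟩, h4⟩, c1⟩, e1⟩, c2⟩, e2⟩ := h
  have key : ∀ g v : List ℕ, okW g = true → okW v = true → comW (g ++ b ++ g.reverse) b = true →
      eqW (v ++ (g ++ b ++ g.reverse ++ b)) (bA ++ v) = true →
      ∃ g ∈ W, (g * rprod b * g⁻¹) * rprod b = rprod b * (g * rprod b * g⁻¹) ∧
        ∃ v ∈ W, v * (g * rprod b * g⁻¹ * rprod b) * v⁻¹ = rprod bA := by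
    intro g v hg hv hc he
    refine ⟨_, W_of_ok hg, ?_, _, W_of_ok hv, ?_⟩
    · rw [rprod_inv, ← rprod_append, ← rprod_append]
      exact comm_of_comW hc
    · rw [rprod_inv, ← rprod_append, ← rprod_append, ← rprod_append]
      exact conj_eq_of_eqW he
  simp only [List.mem_cons, List.not_mem_nil, or_false] at hb
  rcases hb with rfl | rfl
  exacts [key _ _ h1 h2 c1 e1, key _ _ h3 h4 c2 e2]

/-- A perfect subgroup of `M1` generated by involutions, with an element of order 5. -/
structure Good5 (K : Subgroup O8.Z8ˣ) : Prop where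
  le : K ≤ M1
  perf : K ≤ ⁅K, K⁆
  gen : ∃ S : Set O8.Z8ˣ, (∀ x ∈ S, x * x = 1) ∧ K = Subgroup.closure S
  five : ∃ f ∈ K, f ≠ 1 ∧ f ^ 5 = 1

/-- The concatenation of the generators along a word. -/
def ofGens (gs : List (List ℕ)) (w : List ℕ) : List ℕ := w.flatMap fun i => gs.getD i []

/-- The product of commutators. -/
def commWord (gs : List (List ℕ)) (c : List (List ℕ × List ℕ)) : List ℕ :=
  c.flatMap fun p =>
    ofGens gs p.1 ++ ofGens gs p.2 ++ (ofGens gs p.1).reverse ++ (ofGens gs p.2).reverse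

/-- The checks of a perfect group. -/
def good5B (gs : List (List ℕ)) (cs : List (List (List ℕ × List ℕ))) (f : List ℕ)
    (fixd : List (List ℕ)) : Bool :=
  (gs.all fun g => evenW g && eqW (g ++ g) [] && fixd.all fun b => comW g b) &&
    (allLt gs.length fun i => eqW (gs.getD i []) (commWord gs (cs.getD i []))) &&
    Nat.beq cs.length gs.length &&
    ((cs.flatMap fun c => c.flatMap fun p => p.1 ++ p.2) ++ f).all (fun i => Nat.blt i gs.length) &&
    eqW (ofGens gs (f ++ f ++ f ++ f ++ f)) [] && !eqW (ofGens gs f) []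

theorem eqW_of_eq {l m : List ℕ} (hl : okW l = true) (hm : okW m = true) (h : rprod l = rprod m) :
    eqW l m = true := by
  simp only [eqW, Bool.and_eq_true]
  exact ⟨⟨hl, hm⟩, allLt_of fun k hk => by
    rw [Nat.beq_eq, ← img_rprod (okW_spec hl) (by omega), h, img_rprod (okW_spec hm) (by omega)]⟩

theorem good5_spec {gs : List (List ℕ)} {cs : List (List (List ℕ × List ℕ))} {f : List ℕ}
    {fixd : List (List ℕ)} (h : good5B gs cs f fixd = true) :
    Good5 (Subgroup.closure (rprod '' {g | g ∈ gs})) ∧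
      ∀ b ∈ fixd, ∀ x ∈ Subgroup.closure (rprod '' {g | g ∈ gs}), x * rprod b = rprod b * x := by
  simp only [good5B, Bool.and_eq_true, List.all_eq_true, Nat.blt_eq, Nat.beq_eq] at h
  obtain ⟨⟨⟨⟨⟨hg, hcomm⟩, hlen⟩, hidx⟩, h5⟩, hne⟩ := h
  set K := Subgroup.closure (rprod '' {g | g ∈ gs}) with hK
  have hmem : ∀ w : List ℕ, (∀ i ∈ w, i < gs.length) → rprod (ofGens gs w) ∈ K ∧ okW (ofGens gs w) = true := by
    intro w hw
    induction w with
    | nil => exact ⟨one_mem _, rfl⟩
    | cons i w ih =>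
      have hi := hw i (by simp)
      have hgi : gs.getD i [] ∈ gs := by rw [List.getD_eq_getElem _ _ hi]; exact List.getElem_mem hi
      obtain ⟨ih1, ih2⟩ := ih fun x hx => hw x (by simp [hx])
      refine ⟨?_, ?_⟩
      · rw [ofGens, List.flatMap_cons, rprod_append]
        exact mul_mem (Subgroup.subset_closure ⟨_, hgi, rfl⟩) ih1
      · have h1 := (hg _ hgi).1.1
        simp only [evenW, Bool.and_eq_true] at h1
        have h2 : okW (ofGens gs (i :: w)) = (okW (gs.getD i []) && okW (ofGens gs w)) := by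
          simp [ofGens, okW, List.all_append]
        rw [h2, h1.1, ih2]
        rfl
  refine ⟨⟨?_, ?_, ⟨_, ?_, rfl⟩, ?_⟩, fun b hb x hx => ?_⟩
  · rw [hK, Subgroup.closure_le]
    rintro _ ⟨g, hgm, rfl⟩
    exact M1_of_even (hg g hgm).1.1
  · refine (Subgroup.closure_le _).2 ?_
    rintro _ ⟨g, hgm, rfl⟩
    obtain ⟨i, hi, rfl⟩ := List.getElem_of_mem hgm
    have e := eq_of_eqW (allLt_spec hcomm i hi)
    rw [List.getD_eq_getElem _ _ hi] at e
    show rprod gs[i] ∈ ⁅K, K⁆
    rw [e]
    have hci : ∀ p ∈ cs.getD i [], (∀ j ∈ p.1, j < gs.length) ∧ ∀ j ∈ p.2, j < gs.length := by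
      intro p hp
      have hc : cs.getD i [] ∈ cs := by
        rw [List.getD_eq_getElem _ _ (by omega)]; exact List.getElem_mem _
      constructor <;> intro j hj <;> refine hidx j (List.mem_append_left _ ?_) <;>
        refine List.mem_flatMap.2 ⟨_, hc, List.mem_flatMap.2 ⟨p, hp, ?_⟩⟩ <;> simp [hj]
    generalize cs.getD i [] = c at hci ⊢
    induction c with
    | nil => exact one_mem _
    | cons p c ih =>
      rw [commWord, List.flatMap_cons, rprod_append]
      refine mul_mem ?_ (ih fun q hq => hci q (by simp [hq]))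
      rw [rprod_append, rprod_append, rprod_append, ← rprod_inv, ← rprod_inv, ← commutatorElement_def]
      exact Subgroup.commutator_mem_commutator (hmem _ (hci p (by simp)).1).1 (hmem _ (hci p (by simp)).2).1
  · rintro _ ⟨g, hgm, rfl⟩
    rw [← rprod_append, eq_of_eqW (hg g hgm).1.2, rprod_nil]
  · have hf : ∀ i ∈ f, i < gs.length := fun i hi => hidx i (List.mem_append_right _ hi)
    refine ⟨_, (hmem f hf).1, fun e => ?_, ?_⟩
    · have := eqW_of_eq (hmem f hf).2 (m := []) rfl (by rw [e, rprod_nil])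
      rw [this] at hne
      cases hne
    · have e := eq_of_eqW h5
      rw [rprod_nil] at e
      rw [show (5 : ℕ) = 1 + 1 + 1 + 1 + 1 from rfl]
      simp only [pow_add, pow_one, ← rprod_append]
      simpa [ofGens, List.flatMap_append, List.append_assoc] using e
  · refine Subgroup.closure_induction (fun y hy => ?_) ?_ (fun a c _ _ ha hc => ?_) (fun a _ ha => ?_) hx
    · obtain ⟨g, hgm, rfl⟩ := hy
      exact comm_of_comW ((hg g hgm).2 b hb)
    · simp
    · exact (Commute.mul_left (show Commute a _ from ha) (show Commute c _ from hc)).eq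
    · exact (Commute.inv_left (show Commute a _ from ha)).eq

theorem kA_ok : (good5B kAGens kAComm kAFive [bA, bS, [2]] &&
    eqNegW (ofGens kAGens kANeg) bA && kANeg.all fun i => Nat.blt i kAGens.length) = true := by
  decide +kernel

theorem kX_ok : good5B kXGens kXComm kXFive [bA, xWord] = true := by decide +kernel

/-- A perfect group in the centraliser of two orthogonal reflections, containing minus their product. -/
theorem perfect_A : ∃ K : Subgroup O8.Z8ˣ, Good5 K ∧ -rprod bA ∈ K ∧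
    ∀ x ∈ K, x * rprod bA = rprod bA * x ∧ x * sU 0 = sU 0 * x ∧ x * sU 2 = sU 2 * x := by
  have h := kA_ok
  simp only [Bool.and_eq_true, List.all_eq_true, Nat.blt_eq] at h
  obtain ⟨⟨h5, he⟩, hi⟩ := h
  obtain ⟨hK, hc⟩ := good5_spec h5
  refine ⟨_, hK, ?_, fun x hx => ⟨hc bA (by simp) x hx, ?_, ?_⟩⟩
  · rw [← eq_neg_of_eqNegW he]
    clear he
    generalize kANeg = l at hi ⊢
    induction l with
    | nil => exact one_mem _
    | cons i l ih =>
      rw [ofGens, List.flatMap_cons, rprod_append]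
      refine mul_mem (Subgroup.subset_closure ⟨_, ?_, rfl⟩) (ih fun j hj => hi j (by simp [hj]))
      show kAGens.getD i [] ∈ kAGens
      rw [List.getD_eq_getElem _ _ (hi i (by simp))]
      exact List.getElem_mem _
  · rw [← rprod_bS]; exact hc bS (by simp) x hx
  · simpa [rprod] using hc [2] (by simp) x hx

/-- A perfect group centralising two commuting conjugates. -/
theorem perfect_X : ∃ K : Subgroup O8.Z8ˣ, Good5 K ∧
    ∀ x ∈ K, x * rprod bA = rprod bA * x ∧ x * rprod xWord = rprod xWord * x := by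
  obtain ⟨hK, hc⟩ := good5_spec kX_ok
  exact ⟨_, hK, fun x hx => ⟨hc bA (by simp) x hx, hc xWord (by simp) x hx⟩⟩

theorem toFrame_ok : (allLt 8 fun j => let l := toFrame.getD j []
    evenW l && Nat.beq (evR l 0) (fR j)) = true := by decide +kernel

theorem exists_M1_to_frame {j : ℕ} (hj : j < 8) : ∃ u ∈ M1, img u 0 = fR j := by
  have h := allLt_spec toFrame_ok j hj
  simp only [Bool.and_eq_true, Nat.beq_eq] at h
  refine ⟨_, M1_of_even h.1, ?_⟩
  have h1 := h.1
  simp only [evenW, Bool.and_eq_true] at h1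
  rw [img_rprod (okW_spec h1.1) (by norm_num), h.2]

end Cfsg.Agent.O8Standard
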