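import Cfsg.Agent.Lib.O8Standard.Aut
import Cfsg.Agent.Lib.O8Standard.Central
import Cfsg.Agent.Lib.O8Standard.Witness
import Cfsg.Agent.Lib.StdElem.Basic
import Mathlib.GroupTheory.Transfer

/-!
# A standard subgroup isomorphic to `M1`

* `Setting`, `z`, `mem_N_iff`, `Ind` : the normaliser and the automorphisms induced
* `InLC` : elements of the normaliser inducing elements of `M1`
* `kinds` : the involutions of the normaliser
* `perfect_le` : perfect groups generated by involutions lie in the component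
-/

set_option autoImplicit false
set_option linter.unusedSectionVars false

open Cfsg
open scoped commutatorElement

namespace Cfsg.Agent.O8Standard

open Cfsg.Agent.Multiplier

universe u

variable {G : Type u} [Group G] [Finite G]

/-- The hypotheses, for a map defined on `M1`. -/
structure Setting (L : Subgroup G) (ι : O8.Z8ˣ → G) : Prop where
  hmul : ∀ a ∈ M1, ∀ b ∈ M1, ι (a * b) = ι a * ι b
  inj : ∀ a ∈ M1, ∀ b ∈ M1, ι a = ι b → a = b
  range : ∀ x : G, x ∈ L ↔ ∃ a ∈ M1, ι a = x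
  std : Cfsg.IsStandardSubgroup L
  cyc : ∀ R : Sylow 2 ↥(Subgroup.centralizer (L : Set G)),
    IsCyclic ↥(R : Subgroup ↥(Subgroup.centralizer (L : Set G)))

/-- `n` induces conjugation by `w` on the component. -/
def Ind (ι : O8.Z8ˣ → G) (n : G) (w : O8.Z8ˣ) : Prop :=
  w ∈ W ∧ ∀ a ∈ M1, n * ι a * n⁻¹ = ι (w * a * w⁻¹)

/-- `n` induces an element of `M1`. -/
def InLC (ι : O8.Z8ˣ → G) (n : G) : Prop := ∃ w ∈ M1, Ind ι n w

/-- `n` is the element of the component belonging to a conjugate of `β`. -/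
def Inn (ι : O8.Z8ˣ → G) (β : O8.Z8ˣ) (n : G) : Prop := ∃ v ∈ W, n = ι (v * β * v⁻¹)

/-- `n` induces a conjugate of `β`. -/
def Out (ι : O8.Z8ˣ → G) (β : O8.Z8ˣ) (n : G) : Prop := ∃ v ∈ W, Ind ι n (v * β * v⁻¹)

/-- `n` is the product of a square root of `-1` and a square root of `z`. -/
def Pc (L : Subgroup G) (ι : O8.Z8ˣ → G) (n : G) : Prop :=
  ∃ a ∈ M1, ∃ c ∈ Subgroup.centralizer (L : Set G), a * a = -1 ∧ c * c = ι (-1) ∧ n = ι a * c

variable {L : Subgroup G} {ι : O8.Z8ˣ → G}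

namespace Setting

theorem map_one (S : Setting L ι) : ι 1 = 1 := by
  have h := S.hmul 1 (one_mem _) 1 (one_mem _)
  rw [mul_one] at h
  exact left_eq_mul.1 h

theorem map_inv (S : Setting L ι) {a : O8.Z8ˣ} (ha : a ∈ M1) : ι a⁻¹ = (ι a)⁻¹ := by
  refine eq_inv_of_mul_eq_one_left ?_
  rw [← S.hmul _ (inv_mem ha) _ ha, inv_mul_cancel, S.map_one]

theorem mem (S : Setting L ι) {a : O8.Z8ˣ} (ha : a ∈ M1) : ι a ∈ L := (S.range _).2 ⟨a, ha, rfl⟩

theorem comm (S : Setting L ι) {c : G} (hc : c ∈ Subgroup.centralizer (L : Set G)) {a : O8.Z8ˣ}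
    (ha : a ∈ M1) : ι a * c = c * ι a := hc _ (S.mem ha)

theorem comm_iff (S : Setting L ι) {a b : O8.Z8ˣ} (ha : a ∈ M1) (hb : b ∈ M1) :
    ι a * ι b = ι b * ι a ↔ a * b = b * a := by
  rw [← S.hmul a ha b hb, ← S.hmul b hb a ha]
  exact ⟨S.inj _ (mul_mem ha hb) _ (mul_mem hb ha), fun h => by rw [h]⟩

theorem z_comm (S : Setting L ι) {a : O8.Z8ˣ} (ha : a ∈ M1) : ι a * ι (-1) = ι (-1) * ι a :=
  (S.comm_iff ha negOne_mem_M1).2 (by simp)

theorem z_mem_C (S : Setting L ι) : ι (-1) ∈ Subgroup.centralizer (L : Set G) := by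
  intro x hx
  obtain ⟨a, ha, rfl⟩ := (S.range x).1 hx
  exact S.z_comm ha

theorem z_ne (S : Setting L ι) : ι (-1) ≠ 1 := fun h =>
  O8.neg_one_ne_one (S.inj _ negOne_mem_M1 _ (one_mem _) (h.trans S.map_one.symm))

theorem z_sq (S : Setting L ι) : ι (-1) * ι (-1) = 1 := by
  rw [← S.hmul _ negOne_mem_M1 _ negOne_mem_M1]
  simpa using S.map_one

theorem z_order (S : Setting L ι) : orderOf (ι (-1)) = 2 := by
  haveI : Fact (Nat.Prime 2) := ⟨Nat.prime_two⟩
  exact orderOf_eq_prime (by rw [sq, S.z_sq]) S.z_ne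

theorem map_neg (S : Setting L ι) {a : O8.Z8ˣ} (ha : a ∈ M1) : ι (-a) = ι (-1) * ι a := by
  rw [← S.hmul _ negOne_mem_M1 _ ha, neg_one_mul]

theorem exists_ind (S : Setting L ι) {n : G} (hn : n ∈ Subgroup.normalizer (L : Set G)) :
    ∃ w, Ind ι n w := by
  have hex : ∀ a : ↥M1, ∃ b : ↥M1, ι b = n * ι a * n⁻¹ := fun a => by
    obtain ⟨b, hb, e⟩ := (S.range _).1 ((Subgroup.mem_normalizer_iff.1 hn _).1 (S.mem a.2))
    exact ⟨⟨b, hb⟩, e⟩
  choose f hf using hex
  let φ : ↥M1 →* ↥M1 :=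
    { toFun := f
      map_one' := Subtype.ext (S.inj _ (f 1).2 _ (one_mem _) (by
        rw [hf, Subgroup.coe_one, S.map_one, mul_one, mul_inv_cancel]))
      map_mul' := fun a b => Subtype.ext (S.inj _ (f (a * b)).2 _ (f a * f b).2 (by
        show ι (f (a * b) : O8.Z8ˣ) = ι ((f a : O8.Z8ˣ) * (f b : O8.Z8ˣ))
        rw [hf, S.hmul _ (f a).2 _ (f b).2, hf, hf, Subgroup.coe_mul, S.hmul _ a.2 _ b.2]
        group)) }
  have hφ : Function.Injective φ := fun a b h => Subtype.ext (S.inj _ a.2 _ b.2 (by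
    have h' : ι (f a : O8.Z8ˣ) = ι (f b : O8.Z8ˣ) := congrArg (fun x : ↥M1 => ι x) h
    rw [hf, hf] at h'
    simpa using h'))
  haveI : Finite ↥M1 := Finite.of_injective (fun a : ↥M1 => ι a) fun a b h =>
    Subtype.ext (S.inj _ a.2 _ b.2 h)
  obtain ⟨w, hw, h⟩ := exists_W_conj (MulEquiv.ofBijective φ (Finite.injective_iff_bijective.1 hφ))
  exact ⟨w, hw, fun a ha => by rw [← hf ⟨a, ha⟩, ← h ⟨a, ha⟩]; rfl⟩

theorem ind_unique (S : Setting L ι) {n : G} {w w' : O8.Z8ˣ} (h : Ind ι n w) (h' : Ind ι n w') :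
    w' = w ∨ w' = -w := by
  have hc : ∀ a ∈ M1, w⁻¹ * w' * a = a * (w⁻¹ * w') := by
    intro a ha
    have e := S.inj _ (conj_mem_M1 h.1 ha) _ (conj_mem_M1 h'.1 ha) ((h.2 a ha).symm.trans (h'.2 a ha))
    calc w⁻¹ * w' * a = w⁻¹ * (w' * a * w'⁻¹) * w' := by group
      _ = w⁻¹ * (w * a * w⁻¹) * w' := by rw [e]
      _ = a * (w⁻¹ * w') := by group
  rcases eq_one_or_neg_of_comm (mul_mem (inv_mem h.1) h'.1) hc with e | e <;>
    rw [inv_mul_eq_iff_eq_mul] at e
  · exact .inl (by rw [e, mul_one])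
  · exact .inr (by rw [e, mul_neg, mul_one])

theorem ind_mul (_S : Setting L ι) {n m : G} {v w : O8.Z8ˣ} (h : Ind ι n v) (h' : Ind ι m w) :
    Ind ι (n * m) (v * w) :=
  ⟨mul_mem h.1 h'.1, fun a ha => by
    rw [show n * m * ι a * (n * m)⁻¹ = n * (m * ι a * m⁻¹) * n⁻¹ by group, h'.2 a ha,
      h.2 _ (conj_mem_M1 h'.1 ha)]
    congr 1
    group⟩

theorem ind_inv (_S : Setting L ι) {n : G} {v : O8.Z8ˣ} (h : Ind ι n v) : Ind ι n⁻¹ v⁻¹ := by
  refine ⟨inv_mem h.1, fun a ha => ?_⟩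
  have hm := conj_mem_M1 (inv_mem h.1) ha
  have e := h.2 _ hm
  rw [show v * (v⁻¹ * a * v⁻¹⁻¹) * v⁻¹ = a by group] at e
  rw [← e]
  group

theorem ind_C (S : Setting L ι) {c : G} (hc : c ∈ Subgroup.centralizer (L : Set G)) : Ind ι c 1 :=
  ⟨one_mem _, fun a ha => by rw [← S.comm hc ha, mul_inv_cancel_right, one_mul, inv_one, mul_one]⟩

theorem ind_elt (S : Setting L ι) {u : O8.Z8ˣ} (hu : u ∈ M1) : Ind ι (ι u) u :=
  ⟨M1_le hu, fun a ha => by
    rw [← S.map_inv hu, ← S.hmul _ hu _ ha, ← S.hmul _ (mul_mem hu ha) _ (inv_mem hu)]⟩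

theorem ind_neg (_S : Setting L ι) {n : G} {w : O8.Z8ˣ} (h : Ind ι n w) : Ind ι n (-w) :=
  ⟨by rw [← neg_one_mul]; exact mul_mem negOne_mem h.1, fun a ha => by
    rw [h.2 a ha, inv_neg, neg_mul, neg_mul, mul_neg, neg_neg]⟩

theorem mem_C_of_ind (S : Setting L ι) {n : G} (h : Ind ι n 1) :
    n ∈ Subgroup.centralizer (L : Set G) := by
  intro x hx
  obtain ⟨a, ha, rfl⟩ := (S.range x).1 hx
  have e := h.2 a ha
  rw [one_mul, inv_one, mul_one] at e
  nth_rw 1 [← e]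
  group

theorem LC_mem_iff (S : Setting L ι) {n : G} {w : O8.Z8ˣ} (h : Ind ι n w) :
    InLC ι n ↔ w ∈ M1 := by
  refine ⟨fun ⟨v, hv, hv'⟩ => ?_, fun hw => ⟨w, hw, h⟩⟩
  rcases S.ind_unique hv' h with e | e <;> rw [e]
  · exact hv
  · rw [← neg_one_mul]; exact mul_mem negOne_mem_M1 hv

theorem inLC_mul (S : Setting L ι) {n m : G} (h : InLC ι n) (h' : InLC ι m) : InLC ι (n * m) :=
  let ⟨_, hv, hv'⟩ := h; let ⟨_, hw, hw'⟩ := h'
  ⟨_, mul_mem hv hw, S.ind_mul hv' hw'⟩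

theorem inLC_elt (S : Setting L ι) {u : O8.Z8ˣ} (hu : u ∈ M1) : InLC ι (ι u) := ⟨u, hu, S.ind_elt hu⟩

theorem inLC_inv (S : Setting L ι) {n : G} (h : InLC ι n) : InLC ι n⁻¹ :=
  let ⟨_, hv, hv'⟩ := h; ⟨_, inv_mem hv, S.ind_inv hv'⟩

theorem inLC_sq (S : Setting L ι) {n : G} (hn : n ∈ Subgroup.normalizer (L : Set G)) :
    InLC ι (n * n) := by
  obtain ⟨w, hw⟩ := S.exists_ind hn
  exact ⟨w * w, sq_mem_M1 hw.1, S.ind_mul hw hw⟩

theorem inLC_split (S : Setting L ι) {n : G} {w : O8.Z8ˣ} (h : Ind ι n w) (hw : w ∈ M1) :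
    ∃ c ∈ Subgroup.centralizer (L : Set G), n = ι w * c := by
  refine ⟨(ι w)⁻¹ * n, S.mem_C_of_ind ?_, by group⟩
  have := S.ind_mul (S.ind_inv (S.ind_elt hw)) h
  rwa [inv_mul_cancel] at this

theorem C_le_N (_S : Setting L ι) :
    Subgroup.centralizer (L : Set G) ≤ Subgroup.normalizer (L : Set G) :=
  Subgroup.centralizer_le_normalizer _

theorem mem_N (S : Setting L ι) {u : O8.Z8ˣ} (hu : u ∈ M1) : ι u ∈ Subgroup.normalizer (L : Set G) :=
  Subgroup.le_normalizer (S.mem hu)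

theorem mem_N_iff (S : Setting L ι) {n : G} :
    n ∈ Subgroup.normalizer (L : Set G) ↔ n * ι (-1) = ι (-1) * n := by
  refine ⟨fun hn => ?_, fun h =>
    StdElem.centralizer_le_normalizer_of_standard S.std S.z_order S.z_mem_C
      (Subgroup.mem_centralizer_singleton_iff.2 h)⟩
  obtain ⟨w, hw⟩ := S.exists_ind hn
  have e := hw.2 _ negOne_mem_M1
  rw [mul_neg, mul_one, neg_mul, mul_inv_cancel] at e
  exact mul_inv_eq_iff_eq_mul.1 e

theorem C_sq (S : Setting L ι) {c : G} (hc : c ∈ Subgroup.centralizer (L : Set G)) (h : c * c = 1) :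
    c = 1 ∨ c = ι (-1) := by
  by_cases h1 : c = 1
  · exact .inl h1
  haveI : Fact (Nat.Prime 2) := ⟨Nat.prime_two⟩
  refine .inr ?_
  have hz : orderOf (⟨ι (-1), S.z_mem_C⟩ : Subgroup.centralizer (L : Set G)) = 2 := by
    rw [Subgroup.orderOf_mk]; exact S.z_order
  have ht : orderOf (⟨c, hc⟩ : Subgroup.centralizer (L : Set G)) = 2 := by
    rw [Subgroup.orderOf_mk]; exact orderOf_eq_prime (by rw [sq, h]) h1
  exact (congrArg Subtype.val (StdElem.eq_of_cyclic_sylow S.cyc hz ht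
    (Subtype.ext (S.comm hc negOne_mem_M1)))).symm

theorem conj_M1 {v b : O8.Z8ˣ} (hv : v ∈ W) {a : O8.Z8ˣ} (ha : a ∈ M1) (e : v * a * v⁻¹ = b) :
    b ∈ M1 ∧ a = v⁻¹ * b * v⁻¹⁻¹ := by
  subst e
  exact ⟨conj_mem_M1 hv ha, by group⟩

/-- The involutions of the normaliser. -/
theorem kinds (S : Setting L ι) {y : G} (hy : y ∈ Subgroup.normalizer (L : Set G)) (h2 : y * y = 1)
    (h1 : y ≠ 1) (hz : y ≠ ι (-1)) :
    Pc L ι y ∨ Inn ι (rprod bA) y ∨ Inn ι (-rprod bA) y ∨ Inn ι (rprod bD) y ∨ Inn ι (rprod bE) y ∨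
      Out ι (sU 0) y ∨ Out ι (rprod b3) y := by
  obtain ⟨w, hw⟩ := S.exists_ind hy
  have hsq : w * w = 1 ∨ w * w = -1 := by
    have e := S.ind_mul hw hw
    rw [h2] at e
    exact S.ind_unique (S.ind_C (one_mem _)) e
  have hmem : ∀ b ∈ [[], bS, bA, b3, bD, bE], (rprod b ∈ M1 ↔ b ∈ [[], bA, bD, bE]) := by
    intro b hb
    simp only [List.mem_cons, List.not_mem_nil, or_false] at hb
    rcases hb with rfl | rfl | rfl | rfl | rfl | rfl <;>
      rw [rprod_mem_M1_iff (okW_spec (by decide +kernel))] <;> decide +kernel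
  by_cases hM : w ∈ M1
  · obtain ⟨c, hc, e⟩ := S.inLC_split hw hM
    have hcc : ι (w * w) * (c * c) = 1 := by
      rw [S.hmul w hM w hM, mul_assoc, ← mul_assoc (ι w) c c, S.comm hc hM, mul_assoc, ← mul_assoc,
        ← e, ← h2, e]
    rcases hsq with hs | hs
    · rw [hs, S.map_one, one_mul] at hcc
      obtain ⟨a, ha, haa, rfl⟩ : ∃ a ∈ M1, a * a = 1 ∧ y = ι a := by
        rcases S.C_sq hc hcc with rfl | rfl
        · exact ⟨w, hM, hs, by rw [e, mul_one]⟩
        · exact ⟨-w, by rw [← neg_one_mul]; exact mul_mem negOne_mem_M1 hM, by rw [neg_mul_neg, hs],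
            by rw [e, S.map_neg hM, S.z_comm hM]⟩
      right
      obtain ⟨v, hv, b, hb, hvb⟩ := involution_cases (M1_le ha) haa
      have hbM : rprod b ∈ M1 := by
        rcases hvb with e' | e'
        · exact (conj_M1 hv ha e').1
        · have := (conj_M1 hv ha e').1
          rw [← neg_neg (rprod b), ← neg_one_mul (-rprod b)]
          exact mul_mem negOne_mem_M1 this
      have hb' := (hmem b hb).1 hbM
      simp only [List.mem_cons, List.not_mem_nil, or_false] at hb'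
      have hv' := inv_mem hv
      rcases hvb with e' | e' <;> have ea := (conj_M1 hv ha e').2 <;>
        rcases hb' with rfl | rfl | rfl | rfl
      · exact absurd (by rw [ea, rprod_nil]; simpa using S.map_one) h1
      · exact .inl ⟨_, hv', by rw [← ea]⟩
      · exact .inr (.inr (.inl ⟨_, hv', by rw [← ea]⟩))
      · exact .inr (.inr (.inr (.inl ⟨_, hv', by rw [← ea]⟩)))
      · exact absurd (by rw [ea, rprod_nil]; simp) hz
      · exact .inr (.inl ⟨_, hv', by rw [← ea]⟩)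
      · obtain ⟨g, hg, hge⟩ := neg_conj (b := bD) (by simp)
        have e1 : -rprod bD = g⁻¹ * (g * -rprod bD * g⁻¹) * g := by group
        rw [hge] at e1
        exact .inr (.inr (.inl ⟨_, mul_mem hv' (inv_mem hg), by
          congr 1
          rw [ea, e1]
          group⟩))
      · obtain ⟨g, hg, hge⟩ := neg_conj (b := bE) (by simp)
        have e1 : -rprod bE = g⁻¹ * (g * -rprod bE * g⁻¹) * g := by group
        rw [hge] at e1
        exact .inr (.inr (.inr (.inl ⟨_, mul_mem hv' (inv_mem hg), by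
          congr 1
          rw [ea, e1]
          group⟩)))
    · rw [hs] at hcc
      refine .inl ⟨w, hM, c, hc, hs, ?_, e⟩
      rw [← mul_one (ι (-1)), ← hcc, ← mul_assoc, S.z_sq, one_mul]
  · have hs : w * w = 1 := hsq.resolve_right fun e => hM (mem_M1_of_sq_negOne hw.1 e)
    obtain ⟨v, hv, b, hb, hvb⟩ := involution_cases hw.1 hs
    obtain ⟨w', hw', hwb, hw'M⟩ : ∃ w', Ind ι y w' ∧ v * w' * v⁻¹ = rprod b ∧ w' ∉ M1 := by
      rcases hvb with e | e
      · exact ⟨w, hw, e, hM⟩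
      · refine ⟨-w, S.ind_neg hw, by rw [mul_neg, neg_mul, e, neg_neg], fun h => hM ?_⟩
        rw [← neg_neg w, ← neg_one_mul]
        exact mul_mem negOne_mem_M1 h
    have ew : w' = v⁻¹ * rprod b * v⁻¹⁻¹ := by rw [← hwb]; group
    have hbM : rprod b ∉ M1 := fun h => hw'M (by rw [ew]; exact conj_mem_M1 (inv_mem hv) h)
    simp only [List.mem_cons, List.not_mem_nil, or_false] at hb
    rcases hb with rfl | rfl | rfl | rfl | rfl | rfl
    · exact absurd ((hmem _ (by simp)).2 (by simp)) hbM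
    · refine .inr (.inr (.inr (.inr (.inr (.inl ⟨_, inv_mem hv, ?_⟩)))))
      rw [← rprod_bS, ← ew]; exact hw'
    · exact absurd ((hmem _ (by simp)).2 (by simp)) hbM
    · refine .inr (.inr (.inr (.inr (.inr (.inr ⟨_, inv_mem hv, ?_⟩)))))
      rw [← ew]; exact hw'
    · exact absurd ((hmem _ (by simp)).2 (by simp)) hbM
    · exact absurd ((hmem _ (by simp)).2 (by simp)) hbM

/-- Moves the base point. -/
theorem rebase (S : Setting L ι) {v : O8.Z8ˣ} (hv : v ∈ W) :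
    Setting L (fun a => ι (v * a * v⁻¹)) where
  hmul a ha b hb := by
    rw [show v * (a * b) * v⁻¹ = v * a * v⁻¹ * (v * b * v⁻¹) by group,
      S.hmul _ (conj_mem_M1 hv ha) _ (conj_mem_M1 hv hb)]
  inj a ha b hb h := by
    have := S.inj _ (conj_mem_M1 hv ha) _ (conj_mem_M1 hv hb) h
    simpa using this
  range x := by
    refine ⟨fun hx => ?_, fun ⟨a, ha, e⟩ => e ▸ S.mem (conj_mem_M1 hv ha)⟩
    obtain ⟨a, ha, e⟩ := (S.range x).1 hx
    exact ⟨_, conj_mem_M1 (inv_mem hv) ha, by rw [← e]; congr 1; group⟩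
  std := S.std
  cyc := S.cyc

theorem ind_rebase (_S : Setting L ι) {v w : O8.Z8ˣ} (hv : v ∈ W) {y : G} (h : Ind ι y w) :
    Ind (fun a => ι (v * a * v⁻¹)) y (v⁻¹ * w * v) :=
  ⟨mul_mem (mul_mem (inv_mem hv) h.1) hv, fun a ha => by
    rw [h.2 _ (conj_mem_M1 hv ha)]; congr 1; group⟩

/-- Perfect groups generated by involutions lie in the component. -/
theorem perfect_le (S : Setting L ι) (K : Subgroup G) (hN : K ≤ Subgroup.normalizer (L : Set G))
    (hperf : K ≤ ⁅K, K⁆) (T : Set G) (hT : ∀ t ∈ T, t * t = 1) (hK : K = Subgroup.closure T) :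
    K ≤ L := by
  let LC : Subgroup G :=
    { carrier := {n | InLC ι n}
      mul_mem' := fun h h' => S.inLC_mul h h'
      one_mem' := ⟨1, one_mem _, S.ind_C (one_mem _)⟩
      inv_mem' := fun h => S.inLC_inv h }
  have hLC : K ≤ LC := by
    refine hperf.trans ?_
    rw [Subgroup.commutator_le]
    intro a ha b hb
    obtain ⟨v, hv⟩ := S.exists_ind (hN ha)
    obtain ⟨w, hw⟩ := S.exists_ind (hN hb)
    refine ⟨⁅v, w⁆, ?_, S.ind_mul (S.ind_mul (S.ind_mul hv hw) (S.ind_inv hv)) (S.ind_inv hw)⟩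
    rw [commutatorElement_def, mul_mem_M1_iff (mul_mem (mul_mem hv.1 hw.1) (inv_mem hv.1)) (inv_mem hw.1),
      mul_mem_M1_iff (mul_mem hv.1 hw.1) (inv_mem hv.1), mul_mem_M1_iff hv.1 hw.1, inv_mem_iff,
      inv_mem_iff]
    tauto
  haveI : Fact (Nat.Prime 2) := ⟨Nat.prime_two⟩
  set C := Subgroup.centralizer (L : Set G)
  let zC : C := ⟨ι (-1), S.z_mem_C⟩
  have hzC : orderOf zC = 2 := by rw [Subgroup.orderOf_mk]; exact S.z_order
  have hmin : (Nat.card C).minFac = 2 :=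
    (Nat.minFac_eq_two_iff _).2 (hzC ▸ orderOf_dvd_natCard zC)
  obtain ⟨R⟩ : Nonempty (Sylow 2 C) := inferInstance
  haveI := S.cyc R
  have hnc : Subgroup.normalizer ((R : Subgroup C) : Set C) ≤ Subgroup.centralizer ((R : Subgroup C) : Set C) :=
    (S.cyc R).normalizer_le_centralizer hmin
  let f : C →* (R : Subgroup C) := MonoidHom.transferSylow R hnc
  have hker : ¬ 2 ∣ Nat.card f.ker := MonoidHom.not_dvd_card_ker_transferSylow R hnc
  let ψ : G → Prop := fun n => ∃ a ∈ M1, ∃ c : C, f c ∈ Subgroup.zpowers (f zC) ∧ n = ι a * (c : G)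
  let Q : Subgroup G :=
    { carrier := {n | ψ n}
      mul_mem' := by
        rintro _ _ ⟨a, ha, c, hc, rfl⟩ ⟨b, hb, d, hd, rfl⟩
        refine ⟨a * b, mul_mem ha hb, c * d, by rw [_root_.map_mul]; exact mul_mem hc hd, ?_⟩
        rw [S.hmul a ha b hb, Subgroup.coe_mul,
          show ι a * (c : G) * (ι b * (d : G)) = ι a * ((c : G) * ι b) * d by group, ← S.comm c.2 hb]
        group
      one_mem' := ⟨1, one_mem _, 1, by simp, by rw [S.map_one, Subgroup.coe_one, mul_one]⟩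
      inv_mem' := by
        rintro _ ⟨a, ha, c, hc, rfl⟩
        refine ⟨a⁻¹, inv_mem ha, c⁻¹, by rw [_root_.map_inv]; exact inv_mem hc, ?_⟩
        rw [_root_.mul_inv_rev, Subgroup.coe_inv, ← S.map_inv ha, S.comm (inv_mem c.2) (inv_mem ha)] }
  have hQ : K ≤ Q := by
    refine hperf.trans ?_
    rw [Subgroup.commutator_le]
    intro a ha b hb
    obtain ⟨v, hv, hv'⟩ := hLC ha
    obtain ⟨w, hw, hw'⟩ := hLC hb
    obtain ⟨c, hc, rfl⟩ := S.inLC_split hv' hv
    obtain ⟨d, hd, rfl⟩ := S.inLC_split hw' hw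
    refine ⟨⁅v, w⁆, mul_mem (mul_mem (mul_mem hv hw) (inv_mem hv)) (inv_mem hw),
      ⁅(⟨c, hc⟩ : C), (⟨d, hd⟩ : C)⁆, ?_, ?_⟩
    · rw [map_commutatorElement, commutatorElement_eq_one_iff_mul_comm.2]
      · exact one_mem _
      · haveI : IsMulCommutative (R : Subgroup C) := inferInstance
        exact IsMulCommutative.is_comm.comm _ _
    · have e1 : ι ⁅v, w⁆ = ⁅ι v, ι w⁆ := by
        rw [commutatorElement_def, commutatorElement_def, ← S.map_inv hv, ← S.map_inv hw, ← S.hmul _ hv _ hw,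
          ← S.hmul _ (mul_mem hv hw) _ (inv_mem hv),
          ← S.hmul _ (mul_mem (mul_mem hv hw) (inv_mem hv)) _ (inv_mem hw)]
      rw [e1, show ((⁅(⟨c, hc⟩ : C), (⟨d, hd⟩ : C)⁆ : C) : G) = ⁅c, d⁆ from rfl]
      have c1 : Commute (ι v) c := S.comm hc hv
      have c2 : Commute (ι v) d := S.comm hd hv
      have c3 : Commute (ι w) c := S.comm hc hw
      have c4 : Commute (ι w) d := S.comm hd hw
      have k1 : Commute (ι v * ι w) c := c1.mul_left c3
      have k2 : Commute (ι v * ι w * (ι v)⁻¹) (c * d) :=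
        (k1.mul_left c1.inv_left).mul_right ((c2.mul_left c4).mul_left c2.inv_left)
      calc ⁅ι v * c, ι w * d⁆
          = ι v * (c * ι w) * d * (c⁻¹ * (ι v)⁻¹) * (d⁻¹ * (ι w)⁻¹) := by
            rw [commutatorElement_def]; group
        _ = ι v * ι w * c * d * ((ι v)⁻¹ * c⁻¹) * ((ι w)⁻¹ * d⁻¹) := by
            rw [c3.symm.eq, c1.inv_inv.symm.eq, c4.inv_inv.symm.eq]; group
        _ = ι v * ι w * (c * d * (ι v)⁻¹) * (c⁻¹ * (ι w)⁻¹) * d⁻¹ := by group
        _ = ι v * ι w * ((ι v)⁻¹ * (c * d)) * ((ι w)⁻¹ * c⁻¹) * d⁻¹ := by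
            rw [((c1.mul_right c2).inv_left).symm.eq, c3.inv_inv.symm.eq]
        _ = ι v * ι w * (ι v)⁻¹ * (c * d * (ι w)⁻¹) * c⁻¹ * d⁻¹ := by group
        _ = ι v * ι w * (ι v)⁻¹ * ((ι w)⁻¹ * (c * d)) * c⁻¹ * d⁻¹ := by
            rw [((c3.mul_right c4).inv_left).symm.eq]
        _ = ⁅ι v, ι w⁆ * ⁅c, d⁆ := by rw [commutatorElement_def, commutatorElement_def]; group
  rw [hK, Subgroup.closure_le]
  intro t ht
  obtain ⟨a, ha, c, hc, e⟩ := hQ (hK ▸ Subgroup.subset_closure ht)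
  have hcc : ι (a * a) * ((c : G) * c) = 1 := by
    rw [S.hmul a ha a ha, mul_assoc, ← mul_assoc (ι a) (c : G) (c : G), S.comm c.2 ha, mul_assoc, ← mul_assoc,
      ← e, ← hT t ht, e]
  obtain ⟨k, hk⟩ := Subgroup.mem_zpowers_iff.1 hc
  set d : C := zC ^ (-k) * c with hd
  have hdk : f d = 1 := by
    rw [hd, _root_.map_mul, _root_.map_zpow, ← hk, ← zpow_add, neg_add_cancel, zpow_zero]
  have hzk : ∀ m : ℤ, ∃ b ∈ M1, ι b = ((zC ^ m : C) : G) := fun m => by
    have h' : (zC ^ m : C) = 1 ∨ (zC ^ m : C) = zC := by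
      rw [← zpow_mod_orderOf, hzC]
      rcases Int.emod_two_eq_zero_or_one m with h | h <;> simp [h]
    rcases h' with h' | h' <;> rw [h']
    · exact ⟨1, one_mem _, S.map_one⟩
    · exact ⟨-1, negOne_mem_M1, rfl⟩
  -- the part in the kernel is trivial
  have hd2 : d * d = 1 ∨ d * d = zC := by
    have haM : a * a ∈ M1 := mul_mem ha ha
    have hcC : ι (a * a) ∈ C := by
      rw [eq_inv_of_mul_eq_one_left hcc]
      exact inv_mem (mul_mem c.2 c.2)
    have haa : a * a = 1 ∨ a * a = -1 := by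
      refine eq_one_or_neg_of_comm (M1_le haM) fun u hu => ?_
      exact (S.comm_iff haM hu).1 (S.comm hcC hu).symm
    have hzC' : (zC : G) = ι (-1) := rfl
    have hcomm : Commute zC c := Subtype.ext (S.comm c.2 negOne_mem_M1)
    have hd' : d * d = c * c := by
      rw [hd, (hcomm.zpow_left (-k)).eq, show c * zC ^ (-k) * (c * zC ^ (-k)) =
        c * (zC ^ (-k) * c) * zC ^ (-k) by group, (hcomm.zpow_left (-k)).eq, show
        c * (c * zC ^ (-k)) * zC ^ (-k) = c * c * (zC ^ (-k) * zC ^ (-k)) by group, ← zpow_add,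
        show -k + -k = (2 : ℕ) * (-k) by push_cast; ring, zpow_mul, zpow_natCast,
        show zC ^ 2 = 1 from hzC ▸ pow_orderOf_eq_one zC, one_zpow, mul_one]
    rw [hd']
    rcases haa with e' | e' <;> rw [e'] at hcc
    · rw [S.map_one, one_mul] at hcc
      exact .inl (Subtype.ext hcc)
    · refine .inr (Subtype.ext ?_)
      rw [Subgroup.coe_mul, hzC', ← mul_one (ι (-1)), ← hcc, ← mul_assoc, S.z_sq, one_mul]
  have hd1 : d = 1 := by
    by_contra hne
    apply hker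
    rcases hd2 with e' | e'
    · have : orderOf d = 2 := orderOf_eq_prime (by rw [sq, e']) hne
      have h' := orderOf_dvd_natCard (⟨d, MonoidHom.mem_ker.2 hdk⟩ : f.ker)
      rw [Subgroup.orderOf_mk] at h'
      exact this.symm.dvd.trans h'
    · have hz1 : f zC = 1 := by rw [← e', _root_.map_mul, hdk, mul_one]
      have h' := orderOf_dvd_natCard (⟨zC, MonoidHom.mem_ker.2 hz1⟩ : f.ker)
      rw [Subgroup.orderOf_mk] at h'
      exact hzC.symm.dvd.trans h'
  have hce : (c : C) = zC ^ k := by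
    rw [hd, zpow_neg, inv_mul_eq_one] at hd1
    exact hd1.symm
  obtain ⟨b, hb, eb⟩ := hzk k
  rw [e, hce, ← eb, ← S.hmul a ha b hb]
  exact S.mem (mul_mem ha hb)

end Setting

end Cfsg.Agent.O8Standard
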