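import Cfsg.Agent.Lib.O8Standard.Setting
import Cfsg.Agent.Lib.O8Standard.Five

/-!
# Conjugates of the central involution in its centraliser

* `CZ` : conjugates of `z` other than `z` commuting with it
* `inner_of_inLC`, `not_pc`, `sym_inLC` : the types of such conjugates
* `push`, `no_five_class` : transport of perfect groups
* `no_negA` : the class of minus two reflections does not occur
-/

set_option autoImplicit false
set_option linter.unusedSectionVars false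

open Cfsg
open scoped commutatorElement

namespace Cfsg.Agent.O8Standard

open Cfsg.Agent.Multiplier

universe u

variable {G : Type u} [Group G] [Finite G] {L : Subgroup G} {ι : O8.Z8ˣ → G}

/-- `y` is a conjugate of `z`, other than `z`, in the normaliser. -/
def CZ (L : Subgroup G) (ι : O8.Z8ˣ → G) (y : G) : Prop :=
  (∃ g : G, g * ι (-1) * g⁻¹ = y) ∧ y ∈ Subgroup.normalizer (L : Set G) ∧ y ≠ ι (-1)

namespace Setting

theorem rebase_negOne (_S : Setting L ι) (v : O8.Z8ˣ) : ι (v * -1 * v⁻¹) = ι (-1) := by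
  rw [mul_neg, mul_one, neg_mul, mul_inv_cancel]

theorem cz_rebase (S : Setting L ι) (v : O8.Z8ˣ) (y : G) :
    CZ L (fun a => ι (v * a * v⁻¹)) y ↔ CZ L ι y := by
  simp only [CZ, S.rebase_negOne v]

theorem inn_rebase (S : Setting L ι) {β : O8.Z8ˣ} {y : G} (h : Inn ι β y) (hy : CZ L ι y) :
    ∃ ι', Setting L ι' ∧ CZ L ι' y ∧ ι' (-1) = ι (-1) ∧ y = ι' β := by
  obtain ⟨v, hv, e⟩ := h
  exact ⟨_, S.rebase hv, (S.cz_rebase v y).2 hy, S.rebase_negOne v, e⟩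

theorem out_rebase (S : Setting L ι) {β : O8.Z8ˣ} {y : G} (h : Out ι β y) (hy : CZ L ι y) :
    ∃ ι', Setting L ι' ∧ CZ L ι' y ∧ ι' (-1) = ι (-1) ∧ Ind ι' y β := by
  obtain ⟨v, hv, e⟩ := h
  refine ⟨_, S.rebase hv, (S.cz_rebase v y).2 hy, S.rebase_negOne v, ?_⟩
  have := S.ind_rebase hv e
  rwa [show v⁻¹ * (v * β * v⁻¹) * v = β by group] at this

theorem cz_invol (S : Setting L ι) {y : G} (h : CZ L ι y) : y * y = 1 ∧ y ≠ 1 := by
  obtain ⟨⟨g, rfl⟩, -, -⟩ := h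
  refine ⟨by rw [show g * ι (-1) * g⁻¹ * (g * ι (-1) * g⁻¹) = g * (ι (-1) * ι (-1)) * g⁻¹ by group, S.z_sq]; group,
    fun e => S.z_ne (conj_eq_one_iff.1 e)⟩

theorem cz_inv (S : Setting L ι) {g : G} (h : CZ L ι (g * ι (-1) * g⁻¹)) :
    CZ L ι (g⁻¹ * ι (-1) * g) := by
  refine ⟨⟨g⁻¹, by rw [inv_inv]⟩, S.mem_N_iff.2 ?_, fun e => h.2.2 ?_⟩
  · have hy := S.mem_N_iff.1 h.2.1
    calc g⁻¹ * ι (-1) * g * ι (-1) = g⁻¹ * (ι (-1) * (g * ι (-1) * g⁻¹)) * g := by group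
      _ = g⁻¹ * (g * ι (-1) * g⁻¹ * ι (-1)) * g := by rw [hy]
      _ = ι (-1) * (g⁻¹ * ι (-1) * g) := by group
  · calc g * ι (-1) * g⁻¹ = g * (g⁻¹ * ι (-1) * g) * g⁻¹ := by rw [e]
      _ = ι (-1) := by group

theorem conj_N (S : Setting L ι) {g q : G} (h : q * (g * ι (-1) * g⁻¹) = g * ι (-1) * g⁻¹ * q) :
    g⁻¹ * q * g ∈ Subgroup.normalizer (L : Set G) := by
  refine S.mem_N_iff.2 ?_
  calc g⁻¹ * q * g * ι (-1) = g⁻¹ * (q * (g * ι (-1) * g⁻¹)) * g := by group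
    _ = g⁻¹ * (g * ι (-1) * g⁻¹ * q) * g := by rw [h]
    _ = ι (-1) * (g⁻¹ * q * g) := by group

theorem C_conj (S : Setting L ι) {h c : G} (hh : h ∈ Subgroup.normalizer (L : Set G))
    (hc : c ∈ Subgroup.centralizer (L : Set G)) : h * c * h⁻¹ ∈ Subgroup.centralizer (L : Set G) := by
  obtain ⟨w, hw⟩ := S.exists_ind hh
  refine S.mem_C_of_ind ?_
  have := S.ind_mul (S.ind_mul hw (S.ind_C hc)) (S.ind_inv hw)
  rwa [mul_one, mul_inv_cancel] at this

theorem inLC_of_inn (S : Setting L ι) {β : O8.Z8ˣ} (hβ : β ∈ M1) {y : G} (h : Inn ι β y) : InLC ι y := by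
  obtain ⟨v, hv, rfl⟩ := h
  exact S.inLC_elt (conj_mem_M1 hv hβ)

theorem not_inLC_out (S : Setting L ι) {β : O8.Z8ˣ} (hβ : β ∉ M1) {y : G} (h : Out ι β y) :
    ¬ InLC ι y := by
  obtain ⟨v, hv, h⟩ := h
  rw [S.LC_mem_iff h]
  intro hm
  have := conj_mem_M1 (inv_mem hv) hm
  rw [show v⁻¹ * (v * β * v⁻¹) * v⁻¹⁻¹ = β by group] at this
  exact hβ this

theorem rep_mem_M1 : rprod bA ∈ M1 ∧ -rprod bA ∈ M1 ∧ rprod bD ∈ M1 ∧ rprod bE ∈ M1 ∧ sU 0 ∉ M1 ∧
    rprod b3 ∉ M1 := by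
  have ha : rprod bA ∈ M1 := M1_of_even (by decide +kernel)
  refine ⟨ha, by rw [← neg_one_mul]; exact mul_mem negOne_mem_M1 ha, M1_of_even (by decide +kernel),
    M1_of_even (by decide +kernel), not_mem_sU (by norm_num), fun h => ?_⟩
  rw [rprod_mem_M1_iff (okW_spec (by decide +kernel))] at h
  revert h
  decide +kernel

/-- A conjugate in `N` cannot be the product of roots of `-1` and of `z`. -/
theorem not_pc (S : Setting L ι) {y : G} (hy : CZ L ι y) : ¬ Pc L ι y := by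
  rintro ⟨a, ha, c, hc, haa, hcc, e⟩
  obtain ⟨g, hg⟩ := hy.1
  have hy' : CZ L ι (g⁻¹ * ι (-1) * g) := S.cz_inv (hg ▸ hy)
  have hcy : c * y = y * c := by rw [e, ← mul_assoc, ← S.comm hc ha]
  -- squares in the centraliser of `y` commute with `c`
  have hsq : ∀ h ∈ Subgroup.normalizer (L : Set G), h * y = y * h → c * (h * h) = h * h * c := by
    intro h hh hhy
    obtain ⟨w, hw⟩ := S.exists_ind hh
    have hc' := S.C_conj hh hc
    have hm := conj_mem_M1 hw.1 ha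
    have e1 : ι (w * a * w⁻¹) * (h * c * h⁻¹) = ι a * c := by
      rw [← hw.2 a ha, ← e, show h * ι a * h⁻¹ * (h * c * h⁻¹) = h * (ι a * c) * h⁻¹ by group, ← e, hhy]
      group
    set b := a⁻¹ * (w * a * w⁻¹) with hb
    have hbM : b ∈ M1 := mul_mem (inv_mem ha) hm
    have e2 : ι b = c * (h * c * h⁻¹)⁻¹ := by
      rw [hb, S.hmul _ (inv_mem ha) _ hm, S.map_inv ha,
        show ι (w * a * w⁻¹) = ι a * c * (h * c * h⁻¹)⁻¹ by rw [← e1]; group]
      group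
    have hbC : ι b ∈ Subgroup.centralizer (L : Set G) := e2 ▸ mul_mem hc (inv_mem hc')
    have hb1 := eq_one_or_neg_of_comm (M1_le hbM) fun u hu => ((S.comm_iff hbM hu).1 (S.comm hbC hu).symm)
    have hzc : h * ι (-1) = ι (-1) * h := S.mem_N_iff.1 hh
    have hhc : h * c * h⁻¹ = c ∨ h * c * h⁻¹ = ι (-1) * c := by
      rcases hb1 with k | k <;> rw [k] at e2
      · rw [S.map_one, eq_comm, mul_inv_eq_one] at e2
        exact .inl e2.symm
      · refine .inr ?_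
        rw [eq_comm, mul_inv_eq_iff_eq_mul] at e2
        conv_rhs => rw [e2, ← mul_assoc, S.z_sq, one_mul]
    rcases hhc with k | k <;> rw [mul_inv_eq_iff_eq_mul] at k
    · exact ((show Commute h c from k).mul_left k).eq.symm
    · calc c * (h * h) = ι (-1) * ι (-1) * c * (h * h) := by rw [S.z_sq, one_mul]
        _ = ι (-1) * (ι (-1) * c * h) * h := by group
        _ = ι (-1) * (h * c) * h := by rw [← k]
        _ = ι (-1) * h * (c * h) := by group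
        _ = h * ι (-1) * (c * h) := by rw [hzc]
        _ = h * (ι (-1) * c * h) := by group
        _ = h * h * c := by rw [← k]; group
  set e' := g⁻¹ * c * g with he'
  have he2 : e' * e' = g⁻¹ * ι (-1) * g := by rw [he', ← hcc]; group
  have heN : e' ∈ Subgroup.normalizer (L : Set G) := S.conj_N (by rw [hg]; exact hcy)
  have hesq : ∀ k ∈ Subgroup.normalizer (L : Set G),
      k * (g⁻¹ * ι (-1) * g) = g⁻¹ * ι (-1) * g * k → e' * (k * k) = k * k * e' := by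
    intro k hk hky
    have h1 : g * k * g⁻¹ ∈ Subgroup.normalizer (L : Set G) := S.mem_N_iff.2 (by
      calc g * k * g⁻¹ * ι (-1) = g * (k * (g⁻¹ * ι (-1) * g)) * g⁻¹ := by group
        _ = g * (g⁻¹ * ι (-1) * g * k) * g⁻¹ := by rw [hky]
        _ = ι (-1) * (g * k * g⁻¹) := by group)
    have h2 : g * k * g⁻¹ * y = y * (g * k * g⁻¹) := by
      rw [← hg]
      calc g * k * g⁻¹ * (g * ι (-1) * g⁻¹) = g * (k * ι (-1)) * g⁻¹ := by group
        _ = g * (ι (-1) * k) * g⁻¹ := by rw [S.mem_N_iff.1 hk]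
        _ = g * ι (-1) * g⁻¹ * (g * k * g⁻¹) := by group
    have h3 := hsq _ h1 h2
    calc e' * (k * k) = g⁻¹ * (c * (g * k * g⁻¹ * (g * k * g⁻¹))) * g := by rw [he']; group
      _ = g⁻¹ * (g * k * g⁻¹ * (g * k * g⁻¹) * c) * g := by rw [h3]
      _ = k * k * e' := by rw [he']; group
  -- no square root for any class
  obtain ⟨u, hu⟩ := S.exists_ind heN
  have hu2 : Ind ι (g⁻¹ * ι (-1) * g) (u * u) := he2 ▸ S.ind_mul hu hu
  have key : ∀ (v β : O8.Z8ˣ) (b : List ℕ), v ∈ W → b ∈ [bA, bD, bE, p0Word] → (β = rprod b ∨ β = -rprod b) →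
      Ind ι (g⁻¹ * ι (-1) * g) (v * β * v⁻¹) →
      (∀ k ∈ M1, k * (v * β * v⁻¹) = v * β * v⁻¹ * k →
        ι k * (g⁻¹ * ι (-1) * g) = g⁻¹ * ι (-1) * g * ι k) → False := by
    intro v β b hv hb hβ hind hcomm
    have hns := no_sqrt hb (u := v⁻¹ * u * v) (mul_mem (mul_mem (inv_mem hv) hu.1) hv) fun k hk hkb => by
      have hk' := conj_mem_M1 hv hk
      have hc1 : v * k * v⁻¹ * (v * β * v⁻¹) = v * β * v⁻¹ * (v * k * v⁻¹) := by
        have hkβ : k * β = β * k := by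
          rcases hβ with rfl | rfl
          · exact hkb
          · rw [mul_neg, neg_mul, hkb]
        calc v * k * v⁻¹ * (v * β * v⁻¹) = v * (k * β) * v⁻¹ := by group
          _ = v * (β * k) * v⁻¹ := by rw [hkβ]
          _ = v * β * v⁻¹ * (v * k * v⁻¹) := by group
      have h := hesq _ (S.mem_N hk') (hcomm _ hk' hc1)
      rw [← S.hmul _ hk' _ hk'] at h
      have h' := hu.2 _ (mul_mem hk' hk')
      rw [h, mul_inv_cancel_right] at h'
      have h'' := S.inj _ (mul_mem hk' hk') _ (conj_mem_M1 hu.1 (mul_mem hk' hk')) h'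
      calc v⁻¹ * u * v * (k * k) = v⁻¹ * (u * (v * k * v⁻¹ * (v * k * v⁻¹)) * u⁻¹) * u * v := by group
        _ = v⁻¹ * (v * k * v⁻¹ * (v * k * v⁻¹)) * u * v := by rw [← h'']
        _ = k * k * (v⁻¹ * u * v) := by group
    have huu : u * u = v * β * v⁻¹ ∨ u * u = -(v * β * v⁻¹) := S.ind_unique hind hu2
    have e3 : v⁻¹ * u * v * (v⁻¹ * u * v) = rprod b ∨ v⁻¹ * u * v * (v⁻¹ * u * v) = -rprod b := by
      rw [show v⁻¹ * u * v * (v⁻¹ * u * v) = v⁻¹ * (u * u) * v by group]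
      rcases hβ with rfl | rfl <;> rcases huu with k | k <;> rw [k] <;>
        simp [mul_assoc]
    rcases e3 with k | k
    exacts [hns.1 k, hns.2 k]
  obtain ⟨hA, hA', hD, hE, -, -⟩ := rep_mem_M1
  obtain ⟨h2, h1⟩ := S.cz_invol hy'
  have inn : ∀ (β : O8.Z8ˣ) (b : List ℕ), b ∈ [bA, bD, bE, p0Word] → (β = rprod b ∨ β = -rprod b) → β ∈ M1 →
      Inn ι β (g⁻¹ * ι (-1) * g) → False := by
    rintro β b hb hβ hβM ⟨v, hv, e1⟩
    refine key v β b hv hb hβ (by rw [e1]; exact S.ind_elt (conj_mem_M1 hv hβM)) fun k hk hkc => ?_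
    rw [e1]
    exact (S.comm_iff hk (conj_mem_M1 hv hβM)).2 hkc
  rcases S.kinds hy'.2.1 h2 h1 hy'.2.2 with ⟨a', ha', c', hc', haa', -, e1⟩ | h | h | h | h | h | h
  · obtain ⟨v, hv, hva⟩ := complex_cases (M1_le ha') haa'
    have ea : a' = v⁻¹ * rprod p0Word * v⁻¹⁻¹ := by rw [← hva]; group
    refine key v⁻¹ _ p0Word (inv_mem hv) (by simp) (.inl rfl) ?_ fun k hk hkc => ?_
    · rw [← ea, e1]
      have := S.ind_mul (S.ind_elt ha') (S.ind_C hc')
      rwa [mul_one] at this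
    · rw [← ea] at hkc
      rw [e1, ← mul_assoc, (S.comm_iff hk ha').2 hkc, mul_assoc, S.comm hc' hk, ← mul_assoc]
  · exact inn _ bA (by simp) (.inl rfl) hA h
  · exact inn _ bA (by simp) (.inr rfl) hA' h
  · exact inn _ bD (by simp) (.inl rfl) hD h
  · exact inn _ bE (by simp) (.inl rfl) hE h
  · exact S.not_inLC_out rep_mem_M1.2.2.2.2.1 h ⟨u * u, sq_mem_M1 hu.1, hu2⟩
  · exact S.not_inLC_out rep_mem_M1.2.2.2.2.2 h ⟨u * u, sq_mem_M1 hu.1, hu2⟩

theorem inner_of_inLC (S : Setting L ι) {y : G} (hy : CZ L ι y) (h : InLC ι y) :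
    Inn ι (rprod bA) y ∨ Inn ι (-rprod bA) y ∨ Inn ι (rprod bD) y ∨ Inn ι (rprod bE) y := by
  obtain ⟨h2, h1⟩ := S.cz_invol hy
  rcases S.kinds hy.2.1 h2 h1 hy.2.2 with k | k | k | k | k | k | k
  · exact absurd k (S.not_pc hy)
  · exact .inl k
  · exact .inr (.inl k)
  · exact .inr (.inr (.inl k))
  · exact .inr (.inr (.inr k))
  · exact absurd h (S.not_inLC_out rep_mem_M1.2.2.2.2.1 k)
  · exact absurd h (S.not_inLC_out rep_mem_M1.2.2.2.2.2 k)

theorem outer_of_not_inLC (S : Setting L ι) {y : G} (hy : CZ L ι y) (h : ¬ InLC ι y) :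
    Out ι (sU 0) y ∨ Out ι (rprod b3) y := by
  obtain ⟨h2, h1⟩ := S.cz_invol hy
  obtain ⟨hA, hA', hD, hE, -, -⟩ := rep_mem_M1
  rcases S.kinds hy.2.1 h2 h1 hy.2.2 with k | k | k | k | k | k | k
  · exact absurd k (S.not_pc hy)
  · exact absurd (S.inLC_of_inn hA k) h
  · exact absurd (S.inLC_of_inn hA' k) h
  · exact absurd (S.inLC_of_inn hD k) h
  · exact absurd (S.inLC_of_inn hE k) h
  · exact .inl k
  · exact .inr k

/-- Inner conjugates correspond to inner conjugates. -/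
theorem sym_inLC (S : Setting L ι) {g : G} (hy : CZ L ι (g * ι (-1) * g⁻¹))
    (h : InLC ι (g * ι (-1) * g⁻¹)) : InLC ι (g⁻¹ * ι (-1) * g) := by
  have key : ∀ (β : O8.Z8ˣ) (b : List ℕ), b ∈ [bA, bD, bE] → (β = rprod b ∨ β = -rprod b) → β ∈ M1 →
      Inn ι β (g * ι (-1) * g⁻¹) → InLC ι (g⁻¹ * ι (-1) * g) := by
    rintro β b hb hβ hβM ⟨v, hv, e⟩
    obtain ⟨k, hk, hkb, hkk⟩ := exists_sqrt_negOne hb
    have hk' := conj_mem_M1 hv hk
    have hkβ : k * β = β * k := by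
      rcases hβ with rfl | rfl
      · exact hkb
      · rw [mul_neg, neg_mul, hkb]
    have hcomm : ι (v * k * v⁻¹) * (g * ι (-1) * g⁻¹) = g * ι (-1) * g⁻¹ * ι (v * k * v⁻¹) := by
      rw [e]
      refine (S.comm_iff hk' (conj_mem_M1 hv hβM)).2 ?_
      calc v * k * v⁻¹ * (v * β * v⁻¹) = v * (k * β) * v⁻¹ := by group
        _ = v * (β * k) * v⁻¹ := by rw [hkβ]
        _ = v * β * v⁻¹ * (v * k * v⁻¹) := by group
    have h' := S.inLC_sq (S.conj_N hcomm)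
    rwa [show g⁻¹ * ι (v * k * v⁻¹) * g * (g⁻¹ * ι (v * k * v⁻¹) * g) =
      g⁻¹ * (ι (v * k * v⁻¹) * ι (v * k * v⁻¹)) * g by group, ← S.hmul _ hk' _ hk',
      show v * k * v⁻¹ * (v * k * v⁻¹) = v * (k * k) * v⁻¹ by group, hkk, S.rebase_negOne] at h'
  obtain ⟨hA, hA', hD, hE, -, -⟩ := rep_mem_M1
  rcases S.inner_of_inLC hy h with k | k | k | k
  · exact key _ bA (by simp) (.inl rfl) hA k
  · exact key _ bA (by simp) (.inr rfl) hA' k
  · exact key _ bD (by simp) (.inl rfl) hD k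
  · exact key _ bE (by simp) (.inl rfl) hE k

/-- A perfect group centralising a conjugate of `z` moves into the component. -/
theorem push (S : Setting L ι) {K : Subgroup O8.Z8ˣ} (hK : Good5 K) {g : G}
    (hc : ∀ u ∈ K, ι u * (g * ι (-1) * g⁻¹) = g * ι (-1) * g⁻¹ * ι u) :
    ∃ f : ↥K →* O8.Z8ˣ, ∀ u : ↥K, f u ∈ M1 ∧ ι (f u) = g⁻¹ * ι (u : O8.Z8ˣ) * g := by
  let φ : ↥K →* G :=
    { toFun := fun u => g⁻¹ * ι (u : O8.Z8ˣ) * g
      map_one' := by simp [S.map_one]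
      map_mul' := fun a b => by
        rw [Subgroup.coe_mul, S.hmul _ (hK.le a.2) _ (hK.le b.2)]
        group }
  have hN : φ.range ≤ Subgroup.normalizer (L : Set G) := by
    rintro _ ⟨u, rfl⟩
    exact S.conj_N (hc _ u.2)
  have htop : ⁅(⊤ : Subgroup ↥K), (⊤ : Subgroup ↥K)⁆ = ⊤ := by
    refine Subgroup.map_injective K.subtype_injective ?_
    rw [Subgroup.map_commutator, ← MonoidHom.range_eq_map, Subgroup.range_subtype]
    exact le_antisymm (Subgroup.commutator_le_self K) hK.perf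
  have hperf : φ.range ≤ ⁅φ.range, φ.range⁆ := by
    rw [MonoidHom.range_eq_map φ, ← Subgroup.map_commutator, htop]
  obtain ⟨T, hT, hKT⟩ := hK.gen
  have hTK : T ⊆ K := hKT ▸ Subgroup.subset_closure
  have hgen : φ.range = Subgroup.closure (φ '' {u : ↥K | (u : O8.Z8ˣ) ∈ T}) := by
    rw [← MonoidHom.map_closure, MonoidHom.range_eq_map]
    congr 1
    symm
    refine Subgroup.map_injective K.subtype_injective ?_
    rw [MonoidHom.map_closure, ← MonoidHom.range_eq_map, Subgroup.range_subtype]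
    conv_rhs => rw [hKT]
    congr 1
    ext x
    exact ⟨fun ⟨u, hu, e⟩ => e ▸ hu, fun hx => ⟨⟨x, hTK hx⟩, hx, rfl⟩⟩
  have hL := S.perfect_le φ.range hN hperf _ (by
    rintro _ ⟨u, hu, rfl⟩
    rw [← _root_.map_mul φ, show u * u = 1 from Subtype.ext (hT _ hu), _root_.map_one φ]) hgen
  choose f hfM hf using fun u : ↥K => (S.range (φ u)).1 (hL ⟨u, rfl⟩)
  exact ⟨MonoidHom.mk' f fun a b => S.inj _ (hfM _) _ (mul_mem (hfM a) (hfM b)) (by
    rw [S.hmul _ (hfM a) _ (hfM b), hf, hf, hf, _root_.map_mul φ]), fun u => ⟨hfM u, hf u⟩⟩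

theorem push_comm (S : Setting L ι) {K : Subgroup O8.Z8ˣ} {g q : G} {f : ↥K →* O8.Z8ˣ}
    (hf : ∀ u : ↥K, f u ∈ M1 ∧ ι (f u) = g⁻¹ * ι (u : O8.Z8ˣ) * g)
    (hq : ∀ u ∈ K, ι u * q = q * ι u) {w : O8.Z8ˣ} (hw : Ind ι (g⁻¹ * q * g) w) (u : ↥K) :
    f u * w = w * f u := by
  have e := hw.2 _ (hf u).1
  rw [(hf u).2, show g⁻¹ * q * g * (g⁻¹ * ι (u : O8.Z8ˣ) * g) * (g⁻¹ * q * g)⁻¹ =
    g⁻¹ * (q * ι (u : O8.Z8ˣ) * q⁻¹) * g by group, ← hq _ u.2, mul_inv_cancel_right, ← (hf u).2] at e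
  have h := S.inj _ (hf u).1 _ (conj_mem_M1 hw.1 (hf u).1) e
  calc f u * w = w * f u * w⁻¹ * w := by rw [← h]
    _ = w * f u := by group

/-- The classes without elements of order 5 in the centraliser do not occur. -/
theorem no_five_class (S : Setting L ι) {K : Subgroup O8.Z8ˣ} (hK : Good5 K) {g q : G}
    (hcy : ∀ u ∈ K, ι u * (g * ι (-1) * g⁻¹) = g * ι (-1) * g⁻¹ * ι u)
    (hq : ∀ u ∈ K, ι u * q = q * ι u) :
    ¬ Out ι (rprod b3) (g⁻¹ * q * g) ∧ ¬ Inn ι (rprod bD) (g⁻¹ * q * g) ∧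
      ¬ Inn ι (rprod bE) (g⁻¹ * q * g) := by
  obtain ⟨f, hf⟩ := S.push hK hcy
  have key : ∀ b ∈ [b3, bD, bE], ∀ v ∈ W, ¬ Ind ι (g⁻¹ * q * g) (v * rprod b * v⁻¹) := by
    intro b hb v hv hind
    obtain ⟨e, he, he1, he5⟩ := hK.five
    have hc := S.push_comm hf hq hind ⟨e, he⟩
    have hfW := M1_le (hf ⟨e, he⟩).1
    have h5 : (v⁻¹ * f ⟨e, he⟩ * v) ^ 5 = 1 := by
      have : v⁻¹ * f ⟨e, he⟩ * v = MulAut.conj v⁻¹ (f ⟨e, he⟩) := by simp
      rw [this, ← _root_.map_pow, ← _root_.map_pow, show (⟨e, he⟩ : ↥K) ^ 5 = 1 from Subtype.ext he5,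
        _root_.map_one, _root_.map_one]
    have hcb : v⁻¹ * f ⟨e, he⟩ * v * rprod b = rprod b * (v⁻¹ * f ⟨e, he⟩ * v) := by
      calc v⁻¹ * f ⟨e, he⟩ * v * rprod b = v⁻¹ * (f ⟨e, he⟩ * (v * rprod b * v⁻¹)) * v := by group
        _ = v⁻¹ * (v * rprod b * v⁻¹ * f ⟨e, he⟩) * v := by rw [hc]
        _ = rprod b * (v⁻¹ * f ⟨e, he⟩ * v) := by group
    have h1 := no_five hb (mul_mem (mul_mem (inv_mem hv) hfW) hv) h5 hcb
    have hfe : f ⟨e, he⟩ = 1 := by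
      have : f ⟨e, he⟩ = v * (v⁻¹ * f ⟨e, he⟩ * v) * v⁻¹ := by group
      rw [this, h1]; group
    have h2 := (hf ⟨e, he⟩).2
    rw [hfe, S.map_one] at h2
    refine he1 (S.inj _ (hK.le he) _ (one_mem _) ?_)
    rw [S.map_one]
    calc ι e = g * (g⁻¹ * ι e * g) * g⁻¹ := by group
      _ = 1 := by rw [← h2]; group
  refine ⟨fun ⟨v, hv, h⟩ => key _ (by simp) v hv h, fun ⟨v, hv, h⟩ => key bD (by simp) v hv ?_,
    fun ⟨v, hv, h⟩ => key bE (by simp) v hv ?_⟩ <;>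
    rw [h]
  · exact S.ind_elt (conj_mem_M1 hv rep_mem_M1.2.2.1)
  · exact S.ind_elt (conj_mem_M1 hv rep_mem_M1.2.2.2.1)

/-- No conjugate is minus a product of two reflections. -/
theorem no_negA_base (S : Setting L ι) {y : G} (hy : CZ L ι y) : y ≠ ι (-rprod bA) := by
  intro e
  obtain ⟨g, hg⟩ := hy.1
  subst hg
  obtain ⟨hA, hA', -, -, -, -⟩ := rep_mem_M1
  have hLC : InLC ι (g⁻¹ * ι (-1) * g) := S.sym_inLC hy (e ▸ S.inLC_elt hA')
  obtain ⟨K, hK, hmem, hcomm⟩ := perfect_A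
  have hcy : ∀ u ∈ K, ι u * (g * ι (-1) * g⁻¹) = g * ι (-1) * g⁻¹ * ι u := fun u hu => by
    rw [e]
    exact (S.comm_iff (hK.le hu) hA').2 (by rw [mul_neg, neg_mul, (hcomm u hu).1])
  have hcz : ∀ u ∈ K, ι u * ι (-1) = ι (-1) * ι u := fun u hu => S.z_comm (hK.le hu)
  obtain ⟨-, hnD, hnE⟩ := S.no_five_class hK hcy hcz
  obtain ⟨f, hf⟩ := S.push hK hcy
  have hAcase : Inn ι (rprod bA) (g⁻¹ * ι (-1) * g) ∨ Inn ι (-rprod bA) (g⁻¹ * ι (-1) * g) := by
    rcases S.inner_of_inLC (S.cz_inv hy) hLC with k | k | k | k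
    exacts [.inl k, .inr k, absurd k hnD, absurd k hnE]
  obtain ⟨v, hv, hind⟩ : ∃ v ∈ W, Ind ι (g⁻¹ * ι (-1) * g) (v * rprod bA * v⁻¹) := by
    rcases hAcase with ⟨v, hv, h⟩ | ⟨v, hv, h⟩
    · exact ⟨v, hv, h ▸ S.ind_elt (conj_mem_M1 hv hA)⟩
    · refine ⟨v, hv, h ▸ ?_⟩
      have := S.ind_neg (S.ind_elt (conj_mem_M1 hv hA'))
      rwa [show -(v * -rprod bA * v⁻¹) = v * rprod bA * v⁻¹ by rw [mul_neg, neg_mul, neg_neg]] at this
  let f' : ↥K →* O8.Z8ˣ := (MulAut.conj v⁻¹).toMonoidHom.comp f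
  have hf' : ∀ u, f' u = v⁻¹ * f u * v := fun u => by simp [f']
  have hle : f'.range ≤ W := by
    rintro _ ⟨u, rfl⟩
    rw [hf']
    exact mul_mem (mul_mem (inv_mem hv) (M1_le (hf u).1)) hv
  have htop : ⁅(⊤ : Subgroup ↥K), (⊤ : Subgroup ↥K)⁆ = ⊤ := by
    refine Subgroup.map_injective K.subtype_injective ?_
    rw [Subgroup.map_commutator, ← MonoidHom.range_eq_map, Subgroup.range_subtype]
    exact le_antisymm (Subgroup.commutator_le_self K) hK.perf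
  have hperf : f'.range ≤ ⁅f'.range, f'.range⁆ := by
    rw [MonoidHom.range_eq_map f', ← Subgroup.map_commutator, htop]
  have hca : ∀ x ∈ f'.range, x * rprod bA = rprod bA * x := by
    rintro _ ⟨u, rfl⟩
    rw [hf']
    calc v⁻¹ * f u * v * rprod bA = v⁻¹ * (f u * (v * rprod bA * v⁻¹)) * v := by group
      _ = v⁻¹ * (v * rprod bA * v⁻¹ * f u) * v := by rw [S.push_comm hf hcz hind u]
      _ = rprod bA * (v⁻¹ * f u * v) := by group
  have hfm : f ⟨_, hmem⟩ = -1 := S.inj _ (hf _).1 _ negOne_mem_M1 (by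
    rw [(hf _).2, show ι ((⟨_, hmem⟩ : ↥K) : O8.Z8ˣ) = g * ι (-1) * g⁻¹ from e.symm]
    group)
  have hneg : (-1 : O8.Z8ˣ) ∈ f'.range := ⟨⟨_, hmem⟩, by
    rw [hf', hfm, mul_neg, mul_one, neg_mul, inv_mul_cancel]⟩
  exact negOne_moves (plane_fix hle hperf hca hneg)

theorem no_negA (S : Setting L ι) {y : G} (hy : CZ L ι y) : ¬ Inn ι (-rprod bA) y := fun h => by
  obtain ⟨ι', S', hy', -, e⟩ := S.inn_rebase h hy
  exact S'.no_negA_base hy' e

end Setting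

end Cfsg.Agent.O8Standard
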