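import Cfsg.Agent.Lib.O8Standard.Model

/-!
# The double cover of O8+(2) inside the Weyl group

* `M1` : the first projection of the fourfold cover; it is contained in `W` with index 2
* `redI` : reduction onto the orthogonal group, `mem_M1_iff`, `not_mem_sU`, `mul_mem_M1_iff`
-/

set_option autoImplicit false
set_option maxRecDepth 100000

namespace Cfsg.Agent.O8Standard

open Cfsg.Agent.Multiplier Cfsg.Agent.Triality Cfsg.Agent.Orth Matrix
open scoped commutatorElement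

/-- The generators of the cover as products of reflections. -/
def mWords : List (List ℕ) := [[6, 178, 216, 217], [31, 85, 161, 238], [4, 6, 139, 178], [4, 9, 11, 139], [20, 170, 207, 224], [4, 139, 168, 236], [7, 84, 85, 91], [7, 85, 138, 238], [5, 62, 159, 179], [6, 193, 212, 213], [20, 186, 192, 224], [5, 179, 184, 228]]

theorem mWords_ok : (allLt 12 fun i => let l := mWords.getD i []
    (l.all fun k => Nat.blt k 240) && allLt 8 fun k => allLt 8 fun j =>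
      decide (dotL ((O8Data.liftsM.getD i []).getD j []) (rootL k) = (rootL (evR l k)).getD j 0) &&
        Nat.beq ((O8Data.liftsM.getD i []).getD j []).length 8) = true := by
  decide +kernel

theorem uM_eq (i : Fin 12) : O8.uM i = rprod (mWords.getD i []) := by
  have h := allLt_spec mWords_ok i i.2
  simp only [Bool.and_eq_true, List.all_eq_true, Nat.blt_eq] at h
  refine Units.ext (mulVec_simple_ext fun k hk => funext fun j => ?_)
  have h' := allLt_spec (allLt_spec h.2 k hk) j j.2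
  simp only [Bool.and_eq_true, decide_eq_true_eq, Nat.beq_eq] at h'
  have hw := rprod_mem h.1
  rw [(img_spec hw (show k < 240 by omega)).2, img_rprod h.1 (by omega)]
  refine Eq.trans ?_ h'.1
  rw [dotL_eq 8 _ _ h'.2 (Nat.eq_of_beq_eq_true (allLt_spec shape_ok k (by omega)))]
  rfl

theorem uM_mem (i : Fin 12) : O8.uM i ∈ W := by
  rw [uM_eq]
  have h := allLt_spec mWords_ok i i.2
  simp only [Bool.and_eq_true, List.all_eq_true, Nat.blt_eq] at h
  exact rprod_mem h.1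

/-- The double cover of O8+(2). -/
def M1 : Subgroup O8.Z8ˣ := O8.cov.map (MonoidHom.fst O8.Z8ˣ O8.Z8ˣ)

theorem mem_M1 {u : O8.Z8ˣ} : u ∈ M1 ↔ ∃ x : ↥O8.cov, x.1.1 = u :=
  ⟨fun ⟨x, hx, h⟩ => ⟨⟨x, hx⟩, h⟩, fun ⟨x, h⟩ => ⟨x.1, x.2, h⟩⟩

theorem M1_le : M1 ≤ W := by
  rw [M1, O8.cov, MonoidHom.map_closure, Subgroup.closure_le]
  rintro _ ⟨_, ⟨i, rfl⟩, rfl⟩
  exact uM_mem i

theorem negOne_mem_M1 : (-1 : O8.Z8ˣ) ∈ M1 :=
  mem_M1.2 ⟨O8.c2el, by
    rw [show (O8.c2el : O8.Z8ˣ × O8.Z8ˣ) = (-1, 1) from O8.commutator_pairs.1]⟩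

theorem negOne_mem : (-1 : O8.Z8ˣ) ∈ W := M1_le negOne_mem_M1

theorem good4 : Good (Q4 (ZMod 2)) := Good.of_card base4.nd (.inr (by simp))

theorem commutator_G0 : commutator O8.G0 = ⊤ := by
  have h := omega_le_commutator_omega good4 (by simp)
  rw [eq_top_iff]
  intro x _
  obtain ⟨y, hy, e⟩ : ∃ y ∈ commutator O8.G0, (y : O8.Iso8) = x := by
    have h' : (x : O8.Iso8) ∈ (commutator O8.G0).map (Cfsg.Omega (ZMod 2) ⇑(Q4 (ZMod 2))).subtype := by
      rw [commutator_def, Subgroup.map_commutator, ← MonoidHom.range_eq_map, Subgroup.range_subtype]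
      exact h x.2
    exact h'
  exact Subtype.ext e ▸ hy

theorem commutator_cov : commutator ↥O8.cov = ⊤ := by
  rw [eq_top_iff]
  intro x _
  have h : O8.covMap x ∈ (commutator ↥O8.cov).map O8.covMap := by
    rw [commutator_def (G := ↥O8.cov), Subgroup.map_commutator,
      Subgroup.map_top_of_surjective _ O8.covMap_surjective, ← commutator_def, commutator_G0]
    trivial
  obtain ⟨y, hy, e⟩ := h
  have hk : y⁻¹ * x ∈ commutator ↥O8.cov := O8.covMap_stem.2.2 (by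
    rw [MonoidHom.mem_ker, map_mul, map_inv, e, inv_mul_cancel])
  simpa using mul_mem hy hk

/-- The determinant. -/
noncomputable def detU : O8.Z8ˣ →* ℤˣ := Units.map Matrix.detMonoidHom

theorem detU_M1 {u : O8.Z8ˣ} (hu : u ∈ M1) : detU u = 1 := by
  obtain ⟨x, rfl⟩ := mem_M1.1 hu
  let f : ↥O8.cov →* ℤˣ := detU.comp ((MonoidHom.fst _ _).comp O8.cov.subtype)
  exact (Abelianization.commutator_subset_ker f) (commutator_cov ▸ Subgroup.mem_top x)

theorem detU_sU {k : ℕ} (hk : k < 240) : detU (sU k) = -1 := by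
  refine Units.ext ?_
  show Matrix.det (sU k : O8.Z8) = _
  rw [sU_val hk, sM, sub_eq_add_neg, ← Matrix.neg_vecMulVec, Matrix.vecMulVec_eq Unit,
    Matrix.det_one_add_replicateCol_mul_replicateRow, dotProduct_neg, dotProduct_comm]
  show 1 + -dotG (rv k) (rv k) = _
  rw [(root_spec k hk).1]
  rfl

theorem not_mem_sU {k : ℕ} (hk : k < 240) : sU k ∉ M1 := fun h => by
  have h1 := (detU_sU hk).symm.trans (detU_M1 h)
  revert h1
  decide

theorem halfGram_mod : (allLt 8 fun a => allLt 8 fun b =>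
    decide ((((O8Data.halfGram.getD a []).getD b 0 : ℤ) : ZMod 2) = if a + 4 = b then 1 else 0)) = true := by
  decide +kernel

theorem Q4_cast (v : Fin 8 → ℤ) :
    Q4 (ZMod 2) (fun r : IJ => ((v (O8.e8 r) : ℤ) : ZMod 2)) =
      ((v ⬝ᵥ O8.toZ O8Data.halfGram *ᵥ v : ℤ) : ZMod 2) := by
  have h : ∀ a b : Fin 8, ((O8.toZ O8Data.halfGram a b : ℤ) : ZMod 2) =
      if (a : ℕ) + 4 = (b : ℕ) then 1 else 0 := fun a b =>
    of_decide_eq_true (allLt_spec (allLt_spec halfGram_mod a a.2) b b.2)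
  simp only [dotProduct, Matrix.mulVec, Int.cast_sum, Int.cast_mul, h, ite_mul, one_mul, zero_mul]
  rw [Orth.coe_quadPlus]
  simp only [Cfsg.quadFormPlus]
  simp [Fin.sum_univ_eight, Fin.sum_univ_four, O8.e8, finSumFinEquiv]

theorem red_mem_iso {u : O8.Z8ˣ} (hu : u ∈ W) :
    O8.red u ∈ Cfsg.isometryGroup (ZMod 2) ⇑(Q4 (ZMod 2)) := by
  intro x _
  obtain ⟨v, rfl⟩ : ∃ v : Fin 8 → ℤ, x = fun r : IJ => ((v (O8.e8 r) : ℤ) : ZMod 2) :=
    ⟨fun i => (x (O8.e8.symm i)).val, funext fun r => by simp⟩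
  have e : (O8.red u : Matrix IJ IJ (ZMod 2)) *ᵥ (fun r : IJ => ((v (O8.e8 r) : ℤ) : ZMod 2)) =
      fun r : IJ => ((((u : O8.Z8) *ᵥ v) (O8.e8 r) : ℤ) : ZMod 2) := by
    funext r
    simp only [Matrix.mulVec, dotProduct, O8.red_apply, Int.cast_sum, Int.cast_mul]
    exact Fintype.sum_equiv O8.e8 _ _ fun s => rfl
  show Q4 (ZMod 2) ((O8.red u : Matrix IJ IJ (ZMod 2)) *ᵥ _) = Q4 (ZMod 2) _
  rw [e, Q4_cast, Q4_cast]
  congr 1
  have hd := dotG_mulVec hu v v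
  have hg : ∀ x : Fin 8 → ℤ, dotG x x = 2 * (x ⬝ᵥ O8.toZ O8Data.halfGram *ᵥ x) := fun x => by
    simp only [dotG, gM]
    rw [O8.sos_facts.2.2.2.2.2, Matrix.add_mulVec, dotProduct_add, Matrix.mulVec_transpose,
      dotProduct_comm x (x ᵥ* O8.toZ O8Data.halfGram), ← Matrix.dotProduct_mulVec]
    ring
  rw [hg, hg] at hd
  omega

/-- Reduction modulo 2 on the Weyl group. -/
noncomputable def redI : ↥W →* O8.Iso8 :=
  (O8.red.comp W.subtype).codRestrict _ fun u => red_mem_iso u.2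

theorem redI_val (u : ↥W) : ((redI u : O8.Iso8) : GL IJ (ZMod 2)) = O8.red u := rfl

theorem mem_M1_iff (u : ↥W) :
    (u : O8.Z8ˣ) ∈ M1 ↔ redI u ∈ Cfsg.Omega (ZMod 2) ⇑(Q4 (ZMod 2)) := by
  constructor
  · intro h
    obtain ⟨x, hx⟩ := mem_M1.1 h
    obtain ⟨g, hg⟩ := O8.red_mem_range x.1 x.2
    have : redI u = (g : O8.Iso8) := Subtype.ext (by rw [redI_val, ← hx, ← hg]; rfl)
    rw [this]
    exact g.2
  · intro h
    obtain ⟨x, hx⟩ := O8.covMap_surjective ⟨_, h⟩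
    have hr : O8.red ((x.1.1)⁻¹ * (u : O8.Z8ˣ)) = 1 := by
      rw [map_mul, map_inv, ← O8.incl_covMap, hx]
      exact inv_mul_eq_one.2 rfl
    have hx1 : x.1.1 ∈ M1 := mem_M1.2 ⟨x, rfl⟩
    rcases O8.eq_one_or_neg_of_red (isom _ (mul_mem (inv_mem (M1_le hx1)) u.2)) hr with e | e <;>
      rw [inv_mul_eq_iff_eq_mul] at e <;> rw [e]
    · exact mul_mem hx1 (one_mem _)
    · exact mul_mem hx1 negOne_mem_M1

theorem omega_index : (Cfsg.Omega (ZMod 2) ⇑(Q4 (ZMod 2))).index = 2 :=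
  omega_index_two good4 (by simp) (by decide)

theorem mul_mem_M1_iff {u v : O8.Z8ˣ} (hu : u ∈ W) (hv : v ∈ W) :
    u * v ∈ M1 ↔ (u ∈ M1 ↔ v ∈ M1) := by
  rw [show u * v = ((⟨u, hu⟩ * ⟨v, hv⟩ : ↥W) : O8.Z8ˣ) from rfl, mem_M1_iff, map_mul,
    Subgroup.mul_mem_iff_of_index_two omega_index, mem_M1_iff ⟨u, hu⟩ |>.symm, mem_M1_iff ⟨v, hv⟩ |>.symm]

theorem conj_mem_M1 {u v : O8.Z8ˣ} (hu : u ∈ W) (hv : v ∈ M1) : u * v * u⁻¹ ∈ M1 := by
  rw [mul_mem_M1_iff (mul_mem hu (M1_le hv)) (inv_mem hu), mul_mem_M1_iff hu (M1_le hv),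
    iff_true_intro hv, iff_true, inv_mem_iff]

theorem sq_mem_M1 {u : O8.Z8ˣ} (hu : u ∈ W) : u * u ∈ M1 := (mul_mem_M1_iff hu hu).2 Iff.rfl

theorem rprod_mem_M1_iff : ∀ {l : List ℕ}, (∀ k ∈ l, k < 240) → (rprod l ∈ M1 ↔ Even l.length)
  | [], _ => by simp [one_mem]
  | k :: l, h => by
    have hk := h k (by simp)
    have hl : ∀ m ∈ l, m < 240 := fun m hm => h m (by simp [hm])
    rw [rprod_cons, mul_mem_M1_iff (sU_mem k hk) (rprod_mem hl), rprod_mem_M1_iff hl,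
      List.length_cons, Nat.even_add_one]
    simp [not_mem_sU hk]

theorem redI_surjective : Function.Surjective redI := by
  have key : ∀ g ∈ Cfsg.Omega (ZMod 2) ⇑(Q4 (ZMod 2)), ∃ u, redI u = g := by
    intro g hg
    obtain ⟨x, hx⟩ := O8.covMap_surjective ⟨g, hg⟩
    exact ⟨⟨x.1.1, M1_le (mem_M1.2 ⟨x, rfl⟩)⟩,
      Subtype.ext (by rw [redI_val, ← O8.incl_covMap, hx]; rfl)⟩
  intro g
  by_cases hg : g ∈ Cfsg.Omega (ZMod 2) ⇑(Q4 (ZMod 2))
  · exact key g hg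
  · let s : ↥W := ⟨sU 0, sU_mem 0 (by norm_num)⟩
    have hs : redI s ∉ Cfsg.Omega (ZMod 2) ⇑(Q4 (ZMod 2)) := fun h =>
      not_mem_sU (show 0 < 240 by norm_num) ((mem_M1_iff s).2 h)
    obtain ⟨u, hu⟩ := key (redI s * g) ((Subgroup.mul_mem_iff_of_index_two omega_index).2 (by simp [hs, hg]))
    exact ⟨s⁻¹ * u, by rw [map_mul, map_inv, hu, inv_mul_cancel_left]⟩

end Cfsg.Agent.O8Standard
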