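import Cfsg.Agent.Lib.O8Standard.Engine

/-!
# The trees for elements of the Weyl group with square 1 or -1
-/

set_option autoImplicit false
set_option maxRecDepth 100000

namespace Cfsg.Agent.O8Standard

/-- The standard frame. -/
def FR : List ℕ := [0, 2, 238, 161, 111, 4, 139, 63]

/-- The representatives of the involutions. -/
def invReps : List (List ℕ) := [[], [0, 2, 238, 161, 111, 4, 139, 63], [0], [0, 2, 238, 161, 111, 4, 139, 63, 0], [0, 2], [0, 2, 238, 161, 111, 4, 139, 63, 0, 2], [0, 2, 238], [0, 2, 238, 161, 111, 4, 139, 63, 0, 2, 238], [0, 2, 238, 161], [0, 2, 238, 111]]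

/-- A square root of `-1`. -/
def p0Word : List ℕ := [0, 4, 20, 78, 83, 90, 159, 236]

/-- Part 0. -/
def invTree0 : List Node := [
  ([], .next 0 [(0, [], 1), (1, [(2, 0), (13, 0), (14, 0), (30, 0), (31, 0), (46, 0), (47, 0), (62, 0), (63, 0), (78, 0), (85, 0), (99, 0), (111, 0), (113, 0), (122, 0), (124, 0), (135, 0), (138, 0), (148, 0), (160, 0), (179, 0), (186, 0), (193, 0), (200, 0), (207, 0), (224, 0), (228, 0), (31, 1), (47, 1), (63, 1), (78, 1), (85, 1), (99, 1), (111, 1), (122, 1), (207, 1), (224, 1), (47, 2), (63, 2), (78, 2), (85, 2), (224, 2), (85, 3), (99, 3), (111, 3), (122, 3), (207, 3), (63, 4), (78, 4), (224, 4), (85, 5), (78, 6), (224, 6), (224, 8), (85, 28)], 274), (2, [(2, 0), (3, 0), (7, 0), (13, 0), (14, 0), (16, 0), (30, 0), (33, 0), (46, 0), (49,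 0), (62, 0), (113, 0), (124, 0), (126, 0), (135, 0), (137, 0), (138, 0), (147, 0), (148, 0), (150, 0), (158, 0), (160, 0), (169, 0), (171, 0), (177, 0), (179, 0), (185, 0), (186, 0), (192, 0), (193, 0), (200, 0), (228, 0), (230, 0), (3, 1), (7, 1), (13, 1), (14, 1), (16, 1), (30, 1), (33, 1), (46, 1), (49, 1), (62, 1), (113, 1), (124, 1), (126, 1), (135, 1), (137, 1), (138, 1), (147, 1), (148, 1), (150, 1), (158, 1), (160, 1), (169, 1), (171, 1), (177, 1), (179, 1), (185, 1), (186, 1), (192, 1), (193, 1), (200, 1), (228, 1), (230, 1), (7, 2), (30, 2), (46, 2), (62, 2), (126, 2), (137, 2), (138, 2), (147, 2), (148, 2), (160, 2), (179, 2), (186, 2), (192, 2), (193, 2), (228, 2), (16, 3), (33, 3), (49, 3), (113, 3), (124, 3), (135, 3), (138, 3), (148, 3), (160, 3), (179, 3),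 (186, 3), (193, 3), (200, 3), (230, 3), (14, 4), (16, 4), (33, 4), (49, 4), (113, 4), (124, 4), (135, 4), (200, 4), (230, 4), (30, 5), (46, 5), (62, 5), (126, 5), (137, 5), (147, 5), (192, 5), (228, 5), (46, 6), (62, 6), (126, 6), (228, 6), (33, 7), (49, 7), (113, 7), (230, 7), (62, 8), (228, 8), (49, 9), (230, 9), (228, 10), (230, 11)], 354), (8, [], 458), (9, [(2, 0), (13, 0), (14, 0), (30, 0), (31, 0), (46, 0), (47, 0), (62, 0), (63, 0), (78, 0), (85, 0), (99, 0), (111, 0), (113, 0), (122, 0), (124, 0), (135, 0), (138, 0), (148, 0), (160, 0), (179, 0), (186, 0), (193, 0), (200, 0), (207, 0), (224, 0), (228, 0), (31, 1), (47, 1), (63, 1), (78, 1), (85, 1), (99, 1), (111, 1), (122, 1), (207, 1), (224, 1), (47, 2), (63, 2), (78, 2), (85, 2), (224, 2), (85, 3), (99, 3), (111,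 3), (122, 3), (207, 3), (63, 4), (78, 4), (224, 4), (85, 5), (78, 6), (224, 6), (224, 8), (85, 28)], 731)]),
  ([(0, 0)], .next 1 [(1, [], 2), (11, [(3, 0), (7, 0), (16, 0), (33, 0), (49, 0), (126, 0), (137, 0), (147, 0), (150, 0), (158, 0), (169, 0), (171, 0), (177, 0), (185, 0), (192, 0), (230, 0), (7, 1), (126, 1), (137, 1), (147, 1), (192, 1), (16, 2), (33, 2), (49, 2), (230, 2), (126, 3)], 92), (23, [], 138), (37, [(3, 0), (7, 0), (16, 0), (33, 0), (49, 0), (126, 0), (137, 0), (147, 0), (150, 0), (158, 0), (169, 0), (171, 0), (177, 0), (185, 0), (192, 0), (230, 0), (7, 1), (126, 1), (137, 1), (147, 1), (192, 1), (16, 2), (33, 2), (49, 2), (230, 2), (126, 3)], 228)]),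
  ([(0, 0), (1, 1)], .next 2 [(2, [], 3), (13, [(4, 0), (18, 0), (35, 0), (161, 0), (162, 0), (168, 0), (170, 0), (176, 0), (178, 0), (232, 0), (161, 1), (168, 1), (178, 1), (161, 2), (162, 4)], 49), (31, [(4, 0), (18, 0), (35, 0), (139, 0), (151, 0), (159, 0), (184, 0), (232, 0), (139, 1)], 71)]),
  ([(0, 0), (1, 1), (2, 2)], .next 3 [(3, [], 4), (7, [(139, 0), (151, 0), (159, 0), (184, 0)], 26), (16, [(5, 0), (20, 0), (151, 0), (159, 0), (184, 0), (234, 0), (159, 1), (184, 1), (184, 2)], 35)]),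
  ([(0, 0), (1, 1), (2, 2), (3, 3)], .next 4 [(4, [], 5), (18, [(6, 0), (139, 0), (236, 0), (139, 1), (236, 2)], 19), (166, [(6, 0), (236, 0)], 24)]),
  ([(0, 0), (1, 1), (2, 2), (3, 3), (4, 4)], .next 5 [(5, [], 6), (20, [(238, 0)], 11), (151, [], 13), (159, [(238, 0)], 16)]),
  ([(0, 0), (1, 1), (2, 2), (3, 3), (4, 4), (5, 5)], .next 6 [(6, [], 7), (139, [], 9), (237, [], 10)]),
  ([(0, 0), (1, 1), (2, 2), (3, 3), (4, 4), (5, 5), (6, 6)], .next 7 [(7, [], 8)]),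
  ([(0, 0), (1, 1), (2, 2), (3, 3), (4, 4), (5, 5), (6, 6), (7, 7)], .rep [] 0 [(1, [1]), (1, [0, 0, 1]), (1, [0, 0, 0, 0, 1]), (1, [0, 0, 0, 0, 0, 0, 1]), (1, [0, 0, 0, 0, 0, 0, 0, 0, 1]), (1, [0, 0, 0, 0, 0, 0, 0, 0, 0, 0, 1]), (1, [0, 0, 0, 0, 0, 0, 0, 0, 0, 0, 0, 0, 1]), (1, [0, 0, 0, 0, 0, 0, 0, 0, 0, 0, 0, 0, 0, 0, 1])]),
  ([(0, 0), (1, 1), (2, 2), (3, 3), (4, 4), (5, 5), (6, 139)], .none 7 2 [-1, 0, -2, 0, -3, 0, -2, 0, -1, 0, 0, 0, 0, 1] 3),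
  ([(0, 0), (1, 1), (2, 2), (3, 3), (4, 4), (5, 5), (6, 237)], .rep [73, 221] 2 [(1, [1]), (1, [0, 0, 1]), (1, [0, 0, 0, 0, 1]), (1, [0, 0, 0, 0, 0, 0, 1]), (1, [0, 0, 0, 0, 0, 0, 0, 0, 1]), (1, [0, 0, 0, 0, 0, 0, 0, 0, 0, 0, 1]), (1, [0, 0, 0, 0, 0, 0, 0, 0, 0, 0, 0, 0, 1]), (3, [-2, 0, -4, 0, -6, 0, -5, 0, -4, 0, -3, 0, -1, -1])]),
  ([(0, 0), (1, 1), (2, 2), (3, 3), (4, 4), (5, 20)], .next 7 [(7, [], 12)]),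
  ([(0, 0), (1, 1), (2, 2), (3, 3), (4, 4), (5, 20), (7, 7)], .rep [67, 73] 2 [(1, [1]), (1, [0, 0, 1]), (1, [0, 0, 0, 0, 1]), (1, [0, 0, 0, 0, 0, 0, 1]), (1, [0, 0, 0, 0, 0, 0, 0, 0, 1]), (1, [0, 0, 0, 0, 0, 0, 0, 0, 0, 0, 1]), (1, [0, 0, 0, 0, 0, 0, 0, 0, 0, 0, -1, 1]), (1, [0, 0, 0, 0, 0, 0, 0, 0, 0, 0, 0, 0, 1])]),
  ([(0, 0), (1, 1), (2, 2), (3, 3), (4, 4), (5, 151)], .next 6 [(6, [], 14), (237, [], 15)]),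
  ([(0, 0), (1, 1), (2, 2), (3, 3), (4, 4), (5, 151), (6, 6)], .rep [27, 91] 2 [(1, [1]), (1, [0, 0, 1]), (1, [0, 0, 0, 0, 1]), (1, [0, 0, 0, 0, 0, 0, 1]), (1, [0, 0, 0, 0, 0, 0, 0, 0, 1]), (1, [0, 0, 0, 0, 0, 0, 0, 0, 0, 0, 1]), (1, [0, 0, 0, 0, 0, 0, 0, 0, 0, 0, 0, 0, 1]), (2, [-1, 0, -2, 0, -3, 0, -2, 0, -1, 0, -1, 1])]),
  ([(0, 0), (1, 1), (2, 2), (3, 3), (4, 4), (5, 151), (6, 237)], .rep [49, 228, 27, 91] 4 [(1, [1]), (1, [0, 0, 1]), (1, [0, 0, 0, 0, 1]), (1, [0, 0, 0, 0, 0, 0, 1]), (1, [0, 0, 0, 0, 0, 0, 0, 0, 1]), (1, [0, 0, 0, 0, 0, 0, 0, 0, 0, 0, 1]), (1, [0, 0, 0, 0, 0, 0, 0, 0, 0, 0, 0, 0, 1]), (2, [-1, 0, -2, 0, -3, 0, -2, 0, -1, 0, -1, 1])]),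
  ([(0, 0), (1, 1), (2, 2), (3, 3), (4, 4), (5, 159)], .next 6 [(21, [], 17), (146, [], 18)]),
  ([(0, 0), (1, 1), (2, 2), (3, 3), (4, 4), (5, 159), (6, 21)], .rep [46, 49, 27, 91] 4 [(1, [1]), (1, [0, 0, 1]), (1, [0, 0, 0, 0, 1]), (1, [0, 0, 0, 0, 0, 0, 1]), (1, [0, 0, 0, 0, 0, 0, 0, 0, 1]), (1, [0, 0, 0, 0, 0, 0, 0, 0, 0, 0, 1]), (1, [0, 0, 0, 0, 0, 0, 0, 0, 0, 0, 0, 0, 1]), (2, [-1, 0, -2, 0, -3, 0, -2, 0, -1, 0, -1, 1, -1])]),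
  ([(0, 0), (1, 1), (2, 2), (3, 3), (4, 4), (5, 159), (6, 146)], .none 7 2 [-1, 0, -2, 0, -3, 0, -2, 0, -1, 0, -1, 1, -1] 3),
  ([(0, 0), (1, 1), (2, 2), (3, 3), (4, 18)], .next 6 [(20, [], 20), (151, [], 22), (235, [], 23)]),
  ([(0, 0), (1, 1), (2, 2), (3, 3), (4, 18), (6, 20)], .next 7 [(7, [], 21)]),
  ([(0, 0), (1, 1), (2, 2), (3, 3), (4, 18), (6, 20), (7, 7)], .rep [53, 57] 2 [(1, [1]), (1, [0, 0, 1]), (1, [0, 0, 0, 0, 1]), (1, [0, 0, 0, 0, 0, 0, 1]), (1, [0, 0, 0, 0, 0, 0, 0, 0, 1]), (1, [0, 0, 0, 0, 0, 0, 0, 0, -1, 1]), (1, [0, 0, 0, 0, 0, 0, 0, 0, 0, 0, 1]), (1, [0, 0, 0, 0, 0, 0, 0, 0, 0, 0, 0, 0, 1])]),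
  ([(0, 0), (1, 1), (2, 2), (3, 3), (4, 18), (6, 151)], .none 7 2 [-1, 0, -2, 0, -3, 0, -2, 0, 0, -1, 0, 1] 3),
  ([(0, 0), (1, 1), (2, 2), (3, 3), (4, 18), (6, 235)], .rep [30, 33, 73, 221] 4 [(1, [1]), (1, [0, 0, 1]), (1, [0, 0, 0, 0, 1]), (1, [0, 0, 0, 0, 0, 0, 1]), (1, [0, 0, 0, 0, 0, 0, 0, 0, 1]), (1, [0, 0, 0, 0, 0, 0, 0, 0, -1, 1]), (1, [0, 0, 0, 0, 0, 0, 0, 0, 0, 0, 1]), (3, [-2, 0, -4, 0, -6, 0, -5, 0, -2, -2, -1, -1])]),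
  ([(0, 0), (1, 1), (2, 2), (3, 3), (4, 166)], .next 5 [(21, [(238, 0)], 25)]),
  ([(0, 0), (1, 1), (2, 2), (3, 3), (4, 166), (5, 21)], .rep [30, 49, 39, 206] 4 [(1, [1]), (1, [0, 0, 1]), (1, [0, 0, 0, 0, 1]), (1, [0, 0, 0, 0, 0, 0, 1]), (1, [0, 0, 0, 0, 0, 0, 0, 0, 1]), (1, [0, 0, 0, 0, 0, 0, 0, 0, 0, 0, 1]), (1, [0, 0, 0, 0, 0, 0, 0, 0, 0, 0, 0, -1]), (1, [-1, 0, -2, 0, -3, 0, -3, 0, -2, -1, -1])]),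
  ([(0, 0), (1, 1), (2, 2), (3, 7)], .next 4 [(146, [], 27), (157, [(6, 0), (236, 0)], 32)]),
  ([(0, 0), (1, 1), (2, 2), (3, 7), (4, 146)], .next 5 [(19, [], 28), (36, [(238, 0)], 31)]),
  ([(0, 0), (1, 1), (2, 2), (3, 7), (4, 146), (5, 19)], .next 6 [(21, [], 29), (236, [], 30)]),
  ([(0, 0), (1, 1), (2, 2), (3, 7), (4, 146), (5, 19), (6, 21)], .rep [20, 7, 160, 67, 73] 8 [(1, [1]), (1, [0, 0, 1]), (1, [0, 0, 0, 0, 1]), (1, [0, 0, 0, 0, 0, 0, 1]), (1, [0, 0, 0, 0, 0, 0, 0, 0, 1]), (1, [0, 0, 0, 0, 0, 0, 0, 0, 0, 0, 1]), (1, [0, 0, 0, 0, 0, 0, 0, 0, 0, 0, 0, 0, 1]), (1, [0, 0, 0, 0, 0, 0, 0, 1])]),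
  ([(0, 0), (1, 1), (2, 2), (3, 7), (4, 146), (5, 19), (6, 236)], .rep [6, 178, 3, 7, 53, 57] 6 [(1, [1]), (1, [0, 0, 1]), (1, [0, 0, 0, 0, 1]), (1, [0, 0, 0, 0, 0, 0, 1]), (1, [0, 0, 0, 0, 0, 0, 0, 0, 1]), (1, [0, 0, 0, 0, 0, 0, 0, 0, 0, 0, 1]), (1, [0, 0, 0, 0, 0, 0, 0, 0, 0, 0, 0, 0, 1]), (1, [0, 0, 0, 0, 0, 0, 0, 1])]),
  ([(0, 0), (1, 1), (2, 2), (3, 7), (4, 146), (5, 36)], .rep [168, 178, 16, 228, 26, 141] 6 [(1, [1]), (1, [0, 0, 1]), (1, [0, 0, 0, 0, 1]), (1, [0, 0, 0, 0, 0, 0, 1]), (1, [0, 0, 0, 0, 0, 0, 0, 0, 1]), (1, [0, 0, 0, 0, 0, 0, 0, 0, 0, 0, 1]), (1, [0, 0, 0, 0, 0, 0, 0, 0, 0, 0, -1, -1]), (1, [0, 0, 0, 0, 0, 0, 0, 1])]),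
  ([(0, 0), (1, 1), (2, 2), (3, 7), (4, 157)], .next 6 [(36, [], 33), (234, [], 34)]),
  ([(0, 0), (1, 1), (2, 2), (3, 7), (4, 157), (6, 36)], .rep [30, 113, 26, 117] 6 [(1, [1]), (1, [0, 0, 1]), (1, [0, 0, 0, 0, 1]), (1, [0, 0, 0, 0, 0, 0, 1]), (1, [0, 0, 0, 0, 0, 0, 0, 0, 1]), (1, [-1, 0, -2, 0, -3, 0, -2, -2, -1, -1]), (1, [0, 0, 0, 0, 0, 0, 0, 0, 0, 0, 1]), (1, [0, 0, 0, 0, 0, 0, 0, 1])]),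
  ([(0, 0), (1, 1), (2, 2), (3, 7), (4, 157), (6, 234)], .rep [30, 113, 27, 117] 4 [(1, [1]), (1, [0, 0, 1]), (1, [0, 0, 0, 0, 1]), (1, [0, 0, 0, 0, 0, 0, 1]), (1, [0, 0, 0, 0, 0, 0, 0, 0, 1]), (1, [-1, 0, -2, 0, -3, 0, -2, -2, -1, -1]), (1, [0, 0, 0, 0, 0, 0, 0, 0, 0, 0, 1]), (1, [0, 0, 0, 0, 0, 0, 0, 1])]),
  ([(0, 0), (1, 1), (2, 2), (3, 16)], .next 5 [(18, [], 36), (35, [(238, 0)], 41), (162, [], 43), (170, [(238, 0)], 46)]),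
  ([(0, 0), (1, 1), (2, 2), (3, 16), (5, 18)], .next 6 [(6, [], 37), (139, [], 39), (237, [], 40)]),
  ([(0, 0), (1, 1), (2, 2), (3, 16), (5, 18), (6, 6)], .next 7 [(7, [], 38)]),
  ([(0, 0), (1, 1), (2, 2), (3, 16), (5, 18), (6, 6), (7, 7)], .rep [38, 42] 2 [(1, [1]), (1, [0, 0, 1]), (1, [0, 0, 0, 0, 1]), (1, [0, 0, 0, 0, 0, 0, 1]), (1, [0, 0, 0, 0, 0, 0, -1, 1]), (1, [0, 0, 0, 0, 0, 0, 0, 0, 1]), (1, [0, 0, 0, 0, 0, 0, 0, 0, 0, 0, 1]), (1, [0, 0, 0, 0, 0, 0, 0, 0, 0, 0, 0, 0, 1])]),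
  ([(0, 0), (1, 1), (2, 2), (3, 16), (5, 18), (6, 139)], .none 7 2 [-1, 0, -2, 0, -3, 0, -1, -1, 0, 0, 0, 1] 3),
  ([(0, 0), (1, 1), (2, 2), (3, 16), (5, 18), (6, 237)], .rep [13, 16, 73, 221] 4 [(1, [1]), (1, [0, 0, 1]), (1, [0, 0, 0, 0, 1]), (1, [0, 0, 0, 0, 0, 0, 1]), (1, [0, 0, 0, 0, 0, 0, -1, 1]), (1, [0, 0, 0, 0, 0, 0, 0, 0, 1]), (1, [0, 0, 0, 0, 0, 0, 0, 0, 0, 0, 1]), (3, [-2, 0, -4, 0, -6, 0, -1, -4, -3, 0, -1, -1])]),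
  ([(0, 0), (1, 1), (2, 2), (3, 16), (5, 35)], .next 7 [(7, [], 42)]),
  ([(0, 0), (1, 1), (2, 2), (3, 16), (5, 35), (7, 7)], .rep [13, 16, 67, 73] 4 [(1, [1]), (1, [0, 0, 1]), (1, [0, 0, 0, 0, 1]), (1, [0, 0, 0, 0, 0, 0, 1]), (1, [0, 0, 0, 0, 0, 0, -1, 1]), (1, [0, 0, 0, 0, 0, 0, 0, 0, 1]), (1, [0, 0, 0, 0, 0, 0, 1, -1, -1, 1]), (1, [0, 0, 0, 0, 0, 0, 0, 0, 0, 0, 1])]),
  ([(0, 0), (1, 1), (2, 2), (3, 16), (5, 162)], .next 6 [(6, [], 44), (237, [], 45)]),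
  ([(0, 0), (1, 1), (2, 2), (3, 16), (5, 162), (6, 6)], .rep [7, 113, 38, 42] 4 [(1, [1]), (1, [0, 0, 1]), (1, [0, 0, 0, 0, 1]), (1, [0, 0, 0, 0, 0, 0, 1]), (1, [0, 0, 0, 0, 0, 0, -1, 1]), (1, [0, 0, 0, 0, 0, 0, 0, 0, 1]), (1, [0, 0, 0, 0, 0, 0, 0, 0, 0, 0, 1]), (2, [-1, 0, -2, 0, -3, 0, 0, -2, -1, 1])]),
  ([(0, 0), (1, 1), (2, 2), (3, 16), (5, 162), (6, 237)], .rep [78, 236, 13, 16, 73, 221] 6 [(1, [1]), (1, [0, 0, 1]), (1, [0, 0, 0, 0, 1]), (1, [0, 0, 0, 0, 0, 0, 1]), (1, [0, 0, 0, 0, 0, 0, -1, 1]), (1, [0, 0, 0, 0, 0, 0, 0, 0, 1]), (1, [0, 0, 0, 0, 0, 0, 0, 0, 0, 0, 1]), (2, [-1, 0, -2, 0, -3, 0, 0, -2, -1, 1])]),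
  ([(0, 0), (1, 1), (2, 2), (3, 16), (5, 170)], .next 6 [(21, [], 47), (146, [], 48)]),
  ([(0, 0), (1, 1), (2, 2), (3, 16), (5, 170), (6, 21)], .rep [20, 232, 14, 228, 67, 73] 6 [(1, [1]), (1, [0, 0, 1]), (1, [0, 0, 0, 0, 1]), (1, [0, 0, 0, 0, 0, 0, 1]), (1, [0, 0, 0, 0, 0, 0, -1, 1]), (1, [0, 0, 0, 0, 0, 0, 0, 0, 1]), (1, [0, 0, 0, 0, 0, 0, 0, 0, 0, 0, 1]), (2, [-1, 0, -2, 0, -3, 0, 0, -2, -1, 1, -1])]),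
  ([(0, 0), (1, 1), (2, 2), (3, 16), (5, 170), (6, 146)], .none 7 2 [-1, 0, -2, 0, -3, 0, 0, -2, -1, 1, -1] 3),
  ([(0, 0), (1, 1), (2, 13)], .next 4 [(16, [], 50), (33, [(6, 0), (139, 0), (236, 0), (139, 1), (236, 2)], 64), (156, [(6, 0), (236, 0)], 69)]),
  ([(0, 0), (1, 1), (2, 13), (4, 16)], .next 5 [(5, [], 51), (20, [(238, 0)], 56), (151, [], 58), (159, [(238, 0)], 61)]),
  ([(0, 0), (1, 1), (2, 13), (4, 16), (5, 5)], .next 6 [(6, [], 52), (139, [], 54), (237, [], 55)]),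
  ([(0, 0), (1, 1), (2, 13), (4, 16), (5, 5), (6, 6)], .next 7 [(7, [], 53)]),
  ([(0, 0), (1, 1), (2, 13), (4, 16), (5, 5), (6, 6), (7, 7)], .rep [24, 26] 2 [(1, [1]), (1, [0, 0, 1]), (1, [0, 0, 0, 0, 1]), (1, [0, 0, 0, 0, -1, 1]), (1, [0, 0, 0, 0, 0, 0, 1]), (1, [0, 0, 0, 0, 0, 0, 0, 0, 1]), (1, [0, 0, 0, 0, 0, 0, 0, 0, 0, 0, 1]), (1, [0, 0, 0, 0, 0, 0, 0, 0, 0, 0, 0, 0, 1])]),
  ([(0, 0), (1, 1), (2, 13), (4, 16), (5, 5), (6, 139)], .none 7 2 [-1, 0, -2, 0, -1, -2, -1, 0, 0, 0, 0, 1] 3),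
  ([(0, 0), (1, 1), (2, 13), (4, 16), (5, 5), (6, 237)], .rep [49, 228, 24, 26] 4 [(1, [1]), (1, [0, 0, 1]), (1, [0, 0, 0, 0, 1]), (1, [0, 0, 0, 0, -1, 1]), (1, [0, 0, 0, 0, 0, 0, 1]), (1, [0, 0, 0, 0, 0, 0, 0, 0, 1]), (1, [0, 0, 0, 0, 0, 0, 0, 0, 0, 0, 1]), (3, [-2, 0, -4, 0, -1, -5, -4, 0, -3, 0, -1, -1])]),
  ([(0, 0), (1, 1), (2, 13), (4, 16), (5, 20)], .next 7 [(7, [], 57)]),
  ([(0, 0), (1, 1), (2, 13), (4, 16), (5, 20), (7, 7)], .rep [2, 13, 67, 73] 4 [(1, [1]), (1, [0, 0, 1]), (1, [0, 0, 0, 0, 1]), (1, [0, 0, 0, 0, -1, 1]), (1, [0, 0, 0, 0, 0, 0, 1]), (1, [0, 0, 0, 0, 0, 0, 0, 0, 1]), (1, [0, 0, 0, 0, 0, 0, 0, 0, -1, 1]), (1, [0, 0, 0, 0, 0, 0, 0, 0, 0, 0, 1])]),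
  ([(0, 0), (1, 1), (2, 13), (4, 16), (5, 151)], .next 6 [(6, [], 59), (237, [], 60)]),
  ([(0, 0), (1, 1), (2, 13), (4, 16), (5, 151), (6, 6)], .rep [2, 16, 27, 91] 4 [(1, [1]), (1, [0, 0, 1]), (1, [0, 0, 0, 0, 1]), (1, [0, 0, 0, 0, -1, 1]), (1, [0, 0, 0, 0, 0, 0, 1]), (1, [0, 0, 0, 0, 0, 0, 0, 0, 1]), (1, [0, 0, 0, 0, 0, 0, 0, 0, 0, 0, 1]), (2, [-1, 0, -2, 0, -1, -2, -1, 0, -1, 1])]),
  ([(0, 0), (1, 1), (2, 13), (4, 16), (5, 151), (6, 237)], .rep [122, 236, 49, 228, 24, 26] 6 [(1, [1]), (1, [0, 0, 1]), (1, [0, 0, 0, 0, 1]), (1, [0, 0, 0, 0, -1, 1]), (1, [0, 0, 0, 0, 0, 0, 1]), (1, [0, 0, 0, 0, 0, 0, 0, 0, 1]), (1, [0, 0, 0, 0, 0, 0, 0, 0, 0, 0, 1]), (2, [-1, 0, -2, 0, -1, -2, -1, 0, -1, 1])]),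
  ([(0, 0), (1, 1), (2, 13), (4, 16), (5, 159)], .next 6 [(21, [], 62), (146, [], 63)]),
  ([(0, 0), (1, 1), (2, 13), (4, 16), (5, 159), (6, 21)], .rep [35, 224, 14, 228, 67, 73] 6 [(1, [1]), (1, [0, 0, 1]), (1, [0, 0, 0, 0, 1]), (1, [0, 0, 0, 0, -1, 1]), (1, [0, 0, 0, 0, 0, 0, 1]), (1, [0, 0, 0, 0, 0, 0, 0, 0, 1]), (1, [0, 0, 0, 0, 0, 0, 0, 0, 0, 0, 1]), (2, [-1, 0, -2, 0, -1, -2, -1, 0, -1, 1, -1])]),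
  ([(0, 0), (1, 1), (2, 13), (4, 16), (5, 159), (6, 146)], .none 7 2 [-1, 0, -2, 0, -1, -2, -1, 0, -1, 1, -1] 3)]

/-- Part 1. -/
def invTree1 : List Node := [
  ([(0, 0), (1, 1), (2, 13), (4, 33)], .next 6 [(20, [], 65), (151, [], 67), (235, [], 68)]),
  ([(0, 0), (1, 1), (2, 13), (4, 33), (6, 20)], .next 7 [(7, [], 66)]),
  ([(0, 0), (1, 1), (2, 13), (4, 33), (6, 20), (7, 7)], .rep [30, 33, 24, 26] 4 [(1, [1]), (1, [0, 0, 1]), (1, [0, 0, 0, 0, 1]), (1, [0, 0, 0, 0, -1, 1]), (1, [0, 0, 0, 0, 0, 0, 1]), (1, [0, 0, 0, 0, 1, -1, -1, 1]), (1, [0, 0, 0, 0, 0, 0, 0, 0, 1]), (1, [0, 0, 0, 0, 0, 0, 0, 0, 0, 0, 1])]),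
  ([(0, 0), (1, 1), (2, 13), (4, 33), (6, 151)], .none 7 2 [-1, 0, -2, 0, -2, -1, 0, -1, 0, 1] 3),
  ([(0, 0), (1, 1), (2, 13), (4, 33), (6, 235)], .rep [6, 234, 2, 13, 73, 221] 6 [(1, [1]), (1, [0, 0, 1]), (1, [0, 0, 0, 0, 1]), (1, [0, 0, 0, 0, -1, 1]), (1, [0, 0, 0, 0, 0, 0, 1]), (1, [0, 0, 0, 0, 1, -1, -1, 1]), (1, [0, 0, 0, 0, 0, 0, 0, 0, 1]), (3, [-2, 0, -4, 0, -3, -3, -2, -2, -1, -1])]),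
  ([(0, 0), (1, 1), (2, 13), (4, 156)], .next 5 [(21, [(238, 0)], 70)]),
  ([(0, 0), (1, 1), (2, 13), (4, 156), (5, 21)], .rep [234, 2, 230, 39, 206] 6 [(1, [1]), (1, [0, 0, 1]), (1, [0, 0, 0, 0, 1]), (1, [0, 0, 0, 0, -1, 1]), (1, [0, 0, 0, 0, 0, 0, 1]), (1, [0, 0, 0, 0, 0, 0, 0, 0, 1]), (1, [0, 0, 0, 0, 0, 0, 0, 0, 0, -1]), (1, [-1, 0, -2, 0, -1, -2, -2, -1, -1])]),
  ([(0, 0), (1, 1), (2, 31)], .next 3 [(15, [], 72), (22, [], 81), (150, [(6, 0), (20, 0), (234, 0), (236, 0), (234, 1)], 90)]),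
  ([(0, 0), (1, 1), (2, 31), (3, 15)], .next 4 [(16, [], 73), (33, [(6, 0), (236, 0)], 78)]),
  ([(0, 0), (1, 1), (2, 31), (3, 15), (4, 16)], .next 5 [(5, [], 74), (20, [(238, 0)], 77)]),
  ([(0, 0), (1, 1), (2, 31), (3, 15), (4, 16), (5, 5)], .next 6 [(6, [], 75), (237, [], 76)]),
  ([(0, 0), (1, 1), (2, 31), (3, 15), (4, 16), (5, 5), (6, 6)], .rep [30, 113, 24, 26] 4 [(1, [1]), (1, [0, 0, 1]), (1, [0, 0, 0, 0, 1]), (1, [0, 0, 0, 0, 0, 0, 1]), (1, [0, 0, 0, 0, 0, 0, 0, 0, 1]), (1, [0, 0, 0, 0, 0, 0, 0, 0, 0, 0, 1]), (1, [0, 0, 0, 0, 0, 0, 0, 0, 0, 0, 0, 0, 1]), (1, [0, 0, 0, 0, -1, 1, -1])]),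
  ([(0, 0), (1, 1), (2, 31), (3, 15), (4, 16), (5, 5), (6, 237)], .rep [170, 236, 49, 228, 24, 26] 6 [(1, [1]), (1, [0, 0, 1]), (1, [0, 0, 0, 0, 1]), (1, [0, 0, 0, 0, 0, 0, 1]), (1, [0, 0, 0, 0, 0, 0, 0, 0, 1]), (1, [0, 0, 0, 0, 0, 0, 0, 0, 0, 0, 1]), (1, [0, 0, 0, 0, 0, 0, 0, 0, 0, 0, 0, 0, 1]), (1, [0, 0, 0, 0, -1, 1, -1])]),
  ([(0, 0), (1, 1), (2, 31), (3, 15), (4, 16), (5, 20)], .rep [236, 30, 113, 24, 26] 6 [(1, [1]), (1, [0, 0, 1]), (1, [0, 0, 0, 0, 1]), (1, [0, 0, 0, 0, 0, 0, 1]), (1, [0, 0, 0, 0, 0, 0, 0, 0, 1]), (1, [0, 0, 0, 0, 0, 0, 0, 0, 0, 0, 1]), (1, [0, 0, 0, 0, 0, 0, 0, 0, 0, 0, -1, 1]), (1, [0, 0, 0, 0, -1, 1, -1])]),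
  ([(0, 0), (1, 1), (2, 31), (3, 15), (4, 33)], .next 6 [(20, [], 79), (235, [], 80)]),
  ([(0, 0), (1, 1), (2, 31), (3, 15), (4, 33), (6, 20)], .rep [6, 178, 30, 113, 24, 26] 6 [(1, [1]), (1, [0, 0, 1]), (1, [0, 0, 0, 0, 1]), (1, [0, 0, 0, 0, 0, 0, 1]), (1, [0, 0, 0, 0, 0, 0, 0, 0, 1]), (1, [0, 0, 0, 0, 0, 0, -1, 0, -1, 1]), (1, [0, 0, 0, 0, 0, 0, 0, 0, 0, 0, 1]), (1, [0, 0, 0, 0, -1, 1, -1])]),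
  ([(0, 0), (1, 1), (2, 31), (3, 15), (4, 33), (6, 235)], .rep [161, 35, 224, 160, 26, 129] 8 [(1, [1]), (1, [0, 0, 1]), (1, [0, 0, 0, 0, 1]), (1, [0, 0, 0, 0, 0, 0, 1]), (1, [0, 0, 0, 0, 0, 0, 0, 0, 1]), (1, [0, 0, 0, 0, 0, 0, -1, 0, -1, 1]), (1, [0, 0, 0, 0, 0, 0, 0, 0, 0, 0, 1]), (1, [0, 0, 0, 0, -1, 1, -1])]),
  ([(0, 0), (1, 1), (2, 31), (3, 22)], .next 4 [(134, [], 82), (144, [(6, 0), (236, 0)], 87)]),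
  ([(0, 0), (1, 1), (2, 31), (3, 22), (4, 134)], .next 5 [(19, [], 83), (36, [(238, 0)], 86)]),
  ([(0, 0), (1, 1), (2, 31), (3, 22), (4, 134), (5, 19)], .next 6 [(21, [], 84), (236, [], 85)]),
  ([(0, 0), (1, 1), (2, 31), (3, 22), (4, 134), (5, 19), (6, 21)], .rep [30, 113, 11, 117] 8 [(1, [1]), (1, [0, 0, 1]), (1, [0, 0, 0, 0, 1]), (1, [0, 0, 0, 0, 0, 0, 1]), (1, [0, 0, 0, 0, 0, 0, 0, 0, 1]), (1, [0, 0, 0, 0, 0, 0, 0, 0, 0, 0, 1]), (1, [0, 0, 0, 0, 0, 0, 0, 0, 0, 0, 0, 0, 1]), (1, [0, 0, 0, 0, -1, 1, -1])]),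
  ([(0, 0), (1, 1), (2, 31), (3, 22), (4, 134), (5, 19), (6, 236)], .rep [6, 178, 7, 53, 57] 6 [(1, [1]), (1, [0, 0, 1]), (1, [0, 0, 0, 0, 1]), (1, [0, 0, 0, 0, 0, 0, 1]), (1, [0, 0, 0, 0, 0, 0, 0, 0, 1]), (1, [0, 0, 0, 0, 0, 0, 0, 0, 0, 0, 1]), (1, [0, 0, 0, 0, 0, 0, 0, 0, 0, 0, 0, 0, 1]), (1, [0, 0, 0, 0, -1, 1, -1])]),
  ([(0, 0), (1, 1), (2, 31), (3, 22), (4, 134), (5, 36)], .rep [168, 178, 16, 228, 11, 141] 6 [(1, [1]), (1, [0, 0, 1]), (1, [0, 0, 0, 0, 1]), (1, [0, 0, 0, 0, 0, 0, 1]), (1, [0, 0, 0, 0, 0, 0, 0, 0, 1]), (1, [0, 0, 0, 0, 0, 0, 0, 0, 0, 0, 1]), (1, [0, 0, 0, 0, 0, 0, 0, 0, 0, 0, -1, -1]), (1, [0, 0, 0, 0, -1, 1, -1])]),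
  ([(0, 0), (1, 1), (2, 31), (3, 22), (4, 144)], .next 6 [(36, [], 88), (234, [], 89)]),
  ([(0, 0), (1, 1), (2, 31), (3, 22), (4, 144), (6, 36)], .rep [30, 113, 11, 117] 6 [(1, [1]), (1, [0, 0, 1]), (1, [0, 0, 0, 0, 1]), (1, [0, 0, 0, 0, 0, 0, 1]), (1, [0, 0, 0, 0, 0, 0, 0, 0, 1]), (1, [-1, 0, -2, 0, -2, -1, -1, 0, -1, -1]), (1, [0, 0, 0, 0, 0, 0, 0, 0, 0, 0, 1]), (1, [0, 0, 0, 0, -1, 1, -1])]),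
  ([(0, 0), (1, 1), (2, 31), (3, 22), (4, 144), (6, 234)], .rep [30, 113, 11, 117] 4 [(1, [1]), (1, [0, 0, 1]), (1, [0, 0, 0, 0, 1]), (1, [0, 0, 0, 0, 0, 0, 1]), (1, [0, 0, 0, 0, 0, 0, 0, 0, 1]), (1, [-1, 0, -2, 0, -2, -1, -1, 0, -1, -1]), (1, [0, 0, 0, 0, 0, 0, 0, 0, 0, 0, 1]), (1, [0, 0, 0, 0, -1, 1, -1])]),
  ([(0, 0), (1, 1), (2, 31), (3, 150)], .next 4 [(49, [(238, 0)], 91)]),
  ([(0, 0), (1, 1), (2, 31), (3, 150), (4, 49)], .rep [35, 207, 7, 138, 11, 141] 6 [(1, [1]), (1, [0, 0, 1]), (1, [0, 0, 0, 0, 1]), (1, [0, 0, 0, 0, 0, 0, 1]), (1, [0, 0, 0, 0, 0, 0, 0, 0, 1]), (1, [-1, 0, -2, 0, -2, -1, -1, 1, -2]), (1, [1, 0, 2, 0, 2, 1, 0, -1, 1, 1]), (1, [0, 0, 0, 0, -1, 1, -1])]),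
  ([(0, 0), (1, 11)], .next 3 [(13, [], 93), (14, [(139, 0), (151, 0), (159, 0), (184, 0)], 115), (30, [(5, 0), (20, 0), (151, 0), (159, 0), (184, 0), (234, 0), (159, 1), (184, 1), (184, 2)], 124)]),
  ([(0, 0), (1, 11), (3, 13)], .next 4 [(4, [], 94), (18, [(6, 0), (139, 0), (236, 0), (139, 1), (236, 2)], 108), (166, [(6, 0), (236, 0)], 113)]),
  ([(0, 0), (1, 11), (3, 13), (4, 4)], .next 5 [(5, [], 95), (20, [(238, 0)], 100), (151, [], 102), (159, [(238, 0)], 105)]),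
  ([(0, 0), (1, 11), (3, 13), (4, 4), (5, 5)], .next 6 [(6, [], 96), (139, [], 98), (237, [], 99)]),
  ([(0, 0), (1, 11), (3, 13), (4, 4), (5, 5), (6, 6)], .next 7 [(14, [], 97)]),
  ([(0, 0), (1, 11), (3, 13), (4, 4), (5, 5), (6, 6), (7, 14)], .rep [9, 11] 2 [(1, [1]), (1, [0, 0, 1]), (1, [0, 0, -1, 1]), (1, [0, 0, 0, 0, 1]), (1, [0, 0, 0, 0, 0, 0, 1]), (1, [0, 0, 0, 0, 0, 0, 0, 0, 1]), (1, [0, 0, 0, 0, 0, 0, 0, 0, 0, 0, 1]), (1, [0, 0, 0, 0, 0, 0, 0, 0, 0, 0, 0, 0, 1])]),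
  ([(0, 0), (1, 11), (3, 13), (4, 4), (5, 5), (6, 139)], .none 7 2 [-1, 0, 1, -3, -2, 0, -1, 0, 0, 0, 0, 1] 3),
  ([(0, 0), (1, 11), (3, 13), (4, 4), (5, 5), (6, 237)], .rep [73, 221] 4 [(1, [1]), (1, [0, 0, 1]), (1, [0, 0, -1, 1]), (1, [0, 0, 0, 0, 1]), (1, [0, 0, 0, 0, 0, 0, 1]), (1, [0, 0, 0, 0, 0, 0, 0, 0, 1]), (1, [0, 0, 0, 0, 0, 0, 0, 0, 0, 0, 1]), (3, [-2, 0, 2, -6, -5, 0, -4, 0, -3, 0, -1, -1])]),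
  ([(0, 0), (1, 11), (3, 13), (4, 4), (5, 20)], .next 7 [(14, [], 101)]),
  ([(0, 0), (1, 11), (3, 13), (4, 4), (5, 20), (7, 14)], .rep [46, 49, 9, 11] 4 [(1, [1]), (1, [0, 0, 1]), (1, [0, 0, -1, 1]), (1, [0, 0, 0, 0, 1]), (1, [0, 0, 0, 0, 0, 0, 1]), (1, [0, 0, 0, 0, 0, 0, 0, 0, 1]), (1, [0, 0, 0, 0, 0, 0, 0, 0, -1, 1]), (1, [0, 0, 0, 0, 0, 0, 0, 0, 0, 0, 1])]),
  ([(0, 0), (1, 11), (3, 13), (4, 4), (5, 151)], .next 6 [(6, [], 103), (237, [], 104)]),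
  ([(0, 0), (1, 11), (3, 13), (4, 4), (5, 151), (6, 6)], .rep [7, 113, 9, 11] 4 [(1, [1]), (1, [0, 0, 1]), (1, [0, 0, -1, 1]), (1, [0, 0, 0, 0, 1]), (1, [0, 0, 0, 0, 0, 0, 1]), (1, [0, 0, 0, 0, 0, 0, 0, 0, 1]), (1, [0, 0, 0, 0, 0, 0, 0, 0, 0, 0, 1]), (2, [-1, 0, 1, -3, -2, 0, -1, 0, -1, 1])]),
  ([(0, 0), (1, 11), (3, 13), (4, 4), (5, 151), (6, 237)], .rep [122, 236, 49, 228, 9, 11] 6 [(1, [1]), (1, [0, 0, 1]), (1, [0, 0, -1, 1]), (1, [0, 0, 0, 0, 1]), (1, [0, 0, 0, 0, 0, 0, 1]), (1, [0, 0, 0, 0, 0, 0, 0, 0, 1]), (1, [0, 0, 0, 0, 0, 0, 0, 0, 0, 0, 1]), (2, [-1, 0, 1, -3, -2, 0, -1, 0, -1, 1])]),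
  ([(0, 0), (1, 11), (3, 13), (4, 4), (5, 159)], .next 6 [(21, [], 106), (146, [], 107)]),
  ([(0, 0), (1, 11), (3, 13), (4, 4), (5, 159), (6, 21)], .rep [236, 7, 113, 9, 11] 6 [(1, [1]), (1, [0, 0, 1]), (1, [0, 0, -1, 1]), (1, [0, 0, 0, 0, 1]), (1, [0, 0, 0, 0, 0, 0, 1]), (1, [0, 0, 0, 0, 0, 0, 0, 0, 1]), (1, [0, 0, 0, 0, 0, 0, 0, 0, 0, 0, 1]), (2, [-1, 0, 1, -3, -2, 0, -1, 0, -1, 1, -1])]),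
  ([(0, 0), (1, 11), (3, 13), (4, 4), (5, 159), (6, 146)], .none 7 2 [-1, 0, 1, -3, -2, 0, -1, 0, -1, 1, -1] 3),
  ([(0, 0), (1, 11), (3, 13), (4, 18)], .next 6 [(20, [], 109), (151, [], 111), (235, [], 112)]),
  ([(0, 0), (1, 11), (3, 13), (4, 18), (6, 20)], .next 7 [(14, [], 110)]),
  ([(0, 0), (1, 11), (3, 13), (4, 18), (6, 20), (7, 14)], .rep [30, 33, 9, 11] 4 [(1, [1]), (1, [0, 0, 1]), (1, [0, 0, -1, 1]), (1, [0, 0, 0, 0, 1]), (1, [0, 0, 0, 0, 0, 0, 1]), (1, [0, 0, 0, 0, 0, 0, -1, 1]), (1, [0, 0, 0, 0, 0, 0, 0, 0, 1]), (1, [0, 0, 0, 0, 0, 0, 0, 0, 0, 0, 1])]),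
  ([(0, 0), (1, 11), (3, 13), (4, 18), (6, 151)], .none 7 2 [-1, 0, 1, -3, -2, 0, 0, -1, 0, 1] 3),
  ([(0, 0), (1, 11), (3, 13), (4, 18), (6, 235)], .rep [6, 234, 49, 228, 9, 11] 6 [(1, [1]), (1, [0, 0, 1]), (1, [0, 0, -1, 1]), (1, [0, 0, 0, 0, 1]), (1, [0, 0, 0, 0, 0, 0, 1]), (1, [0, 0, 0, 0, 0, 0, -1, 1]), (1, [0, 0, 0, 0, 0, 0, 0, 0, 1]), (3, [-2, 0, 2, -6, -5, 0, -2, -2, -1, -1])]),
  ([(0, 0), (1, 11), (3, 13), (4, 166)], .next 5 [(21, [(238, 0)], 114)]),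
  ([(0, 0), (1, 11), (3, 13), (4, 166), (5, 21)], .rep [6, 207, 30, 49, 9, 11] 6 [(1, [1]), (1, [0, 0, 1]), (1, [0, 0, -1, 1]), (1, [0, 0, 0, 0, 1]), (1, [0, 0, 0, 0, 0, 0, 1]), (1, [0, 0, 0, 0, 0, 0, 0, 0, 1]), (1, [0, 0, 0, 0, 0, 0, 0, 0, 0, -1]), (1, [-1, 0, 1, -3, -3, 0, -2, -1, -1])]),
  ([(0, 0), (1, 11), (3, 14)], .next 4 [(146, [], 116), (157, [(6, 0), (236, 0)], 121)]),
  ([(0, 0), (1, 11), (3, 14), (4, 146)], .next 5 [(19, [], 117), (36, [(238, 0)], 120)]),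
  ([(0, 0), (1, 11), (3, 14), (4, 146), (5, 19)], .next 6 [(21, [], 118), (236, [], 119)]),
  ([(0, 0), (1, 11), (3, 14), (4, 146), (5, 19), (6, 21)], .rep [35, 207, 3, 7] 7 [(1, [1]), (1, [0, 0, 1]), (1, [0, 0, -1, 1]), (1, [0, 0, 0, 0, 1]), (1, [0, 0, 0, 0, 0, 0, 1]), (1, [0, 0, 0, 0, 0, 0, 0, 0, 1]), (1, [0, 0, 0, 0, 0, 0, 0, 0, 0, 0, 1]), (1, [0, 0, 1, -1, 0, 1])]),
  ([(0, 0), (1, 11), (3, 14), (4, 146), (5, 19), (6, 236)], .rep [47, 162, 6, 234, 30, 33, 27, 117] 9 [(1, [1]), (1, [0, 0, 1]), (1, [0, 0, -1, 1]), (1, [0, 0, 0, 0, 1]), (1, [0, 0, 0, 0, 0, 0, 1]), (1, [0, 0, 0, 0, 0, 0, 0, 0, 1]), (1, [0, 0, 0, 0, 0, 0, 0, 0, 0, 0, 1]), (1, [0, 0, 1, -1, 0, 1])]),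
  ([(0, 0), (1, 11), (3, 14), (4, 146), (5, 36)], .rep [151, 170, 42, 221] 9 [(1, [1]), (1, [0, 0, 1]), (1, [0, 0, -1, 1]), (1, [0, 0, 0, 0, 1]), (1, [0, 0, 0, 0, 0, 0, 1]), (1, [0, 0, 0, 0, 0, 0, 0, 0, 1]), (1, [0, 0, 0, 0, 0, 0, 0, 0, -1, -1]), (1, [0, 0, 1, -1, 0, 1])]),
  ([(0, 0), (1, 11), (3, 14), (4, 157)], .next 6 [(36, [], 122), (234, [], 123)]),
  ([(0, 0), (1, 11), (3, 14), (4, 157), (6, 36)], .rep [47, 162, 49, 228, 27, 117] 9 [(1, [1]), (1, [0, 0, 1]), (1, [0, 0, -1, 1]), (1, [0, 0, 0, 0, 1]), (1, [0, 0, 0, 0, 0, 0, 1]), (1, [-1, 0, -1, -1, -2, -2, -1, -1]), (1, [0, 0, 0, 0, 0, 0, 0, 0, 1]), (1, [0, 0, 1, -1, 0, 1])]),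
  ([(0, 0), (1, 11), (3, 14), (4, 157), (6, 234)], .rep [35, 224, 7, 138, 9, 11] 6 [(1, [1]), (1, [0, 0, 1]), (1, [0, 0, -1, 1]), (1, [0, 0, 0, 0, 1]), (1, [0, 0, 0, 0, 0, 0, 1]), (1, [-1, 0, -1, -1, -2, -2, -1, -1]), (1, [0, 0, 0, 0, 0, 0, 0, 0, 1]), (1, [0, 0, 1, -1, 0, 1])]),
  ([(0, 0), (1, 11), (3, 30)], .next 5 [(18, [], 125), (35, [(238, 0)], 130), (162, [], 132), (170, [(238, 0)], 135)]),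
  ([(0, 0), (1, 11), (3, 30), (5, 18)], .next 6 [(6, [], 126), (139, [], 128), (237, [], 129)]),
  ([(0, 0), (1, 11), (3, 30), (5, 18), (6, 6)], .next 7 [(14, [], 127)]),
  ([(0, 0), (1, 11), (3, 30), (5, 18), (6, 6), (7, 14)], .rep [38, 42] 4 [(1, [1]), (1, [0, 0, 1]), (1, [0, 0, -1, 1]), (1, [0, 0, 0, 0, 1]), (1, [0, 0, 1, -1, -1, 1]), (1, [0, 0, 0, 0, 0, 0, 1]), (1, [0, 0, 0, 0, 0, 0, 0, 0, 1]), (1, [0, 0, 0, 0, 0, 0, 0, 0, 0, 0, 1])])]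

/-- Part 2. -/
def invTree2 : List Node := [
  ([(0, 0), (1, 11), (3, 30), (5, 18), (6, 139)], .none 7 2 [-1, 0, 0, -2, -1, -1, 0, 0, 0, 1] 3),
  ([(0, 0), (1, 11), (3, 30), (5, 18), (6, 237)], .rep [13, 16, 9, 11] 6 [(1, [1]), (1, [0, 0, 1]), (1, [0, 0, -1, 1]), (1, [0, 0, 0, 0, 1]), (1, [0, 0, 1, -1, -1, 1]), (1, [0, 0, 0, 0, 0, 0, 1]), (1, [0, 0, 0, 0, 0, 0, 0, 0, 1]), (3, [-2, 0, -2, -2, -1, -4, -3, 0, -1, -1])]),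
  ([(0, 0), (1, 11), (3, 30), (5, 35)], .next 7 [(14, [], 131)]),
  ([(0, 0), (1, 11), (3, 30), (5, 35), (7, 14)], .rep [20, 232, 13, 16, 67, 73] 6 [(1, [1]), (1, [0, 0, 1]), (1, [0, 0, -1, 1]), (1, [0, 0, 0, 0, 1]), (1, [0, 0, 1, -1, -1, 1]), (1, [0, 0, 0, 0, 0, 0, 1]), (1, [0, 0, -1, 1, 1, -1, -1, 1]), (1, [0, 0, 0, 0, 0, 0, 0, 0, 1])]),
  ([(0, 0), (1, 11), (3, 30), (5, 162)], .next 6 [(6, [], 133), (237, [], 134)]),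
  ([(0, 0), (1, 11), (3, 30), (5, 162), (6, 6)], .rep [20, 232, 7, 113, 9, 11] 6 [(1, [1]), (1, [0, 0, 1]), (1, [0, 0, -1, 1]), (1, [0, 0, 0, 0, 1]), (1, [0, 0, 1, -1, -1, 1]), (1, [0, 0, 0, 0, 0, 0, 1]), (1, [0, 0, 0, 0, 0, 0, 0, 0, 1]), (2, [-1, 0, -1, -1, 0, -2, -1, 1])]),
  ([(0, 0), (1, 11), (3, 30), (5, 162), (6, 237)], .rep [5, 31, 7, 113, 38, 42] 9 [(1, [1]), (1, [0, 0, 1]), (1, [0, 0, -1, 1]), (1, [0, 0, 0, 0, 1]), (1, [0, 0, 1, -1, -1, 1]), (1, [0, 0, 0, 0, 0, 0, 1]), (1, [0, 0, 0, 0, 0, 0, 0, 0, 1]), (2, [-1, 0, -1, -1, 0, -2, -1, 1])]),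
  ([(0, 0), (1, 11), (3, 30), (5, 170)], .next 6 [(21, [], 136), (146, [], 137)]),
  ([(0, 0), (1, 11), (3, 30), (5, 170), (6, 21)], .rep [5, 31, 236, 38, 42] 9 [(1, [1]), (1, [0, 0, 1]), (1, [0, 0, -1, 1]), (1, [0, 0, 0, 0, 1]), (1, [0, 0, 1, -1, -1, 1]), (1, [0, 0, 0, 0, 0, 0, 1]), (1, [0, 0, 0, 0, 0, 0, 0, 0, 1]), (2, [-1, 0, -1, -1, 0, -2, -1, 1, -1])]),
  ([(0, 0), (1, 11), (3, 30), (5, 170), (6, 146)], .none 7 2 [-1, 0, -1, -1, 0, -2, -1, 1, -1] 3),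
  ([(0, 0), (1, 23)], .next 2 [(12, [], 139), (28, [(4, 0), (18, 0), (35, 0), (161, 0), (162, 0), (168, 0), (170, 0), (176, 0), (178, 0), (232, 0), (161, 1), (168, 1), (178, 1), (161, 2), (162, 4)], 185), (45, [(4, 0), (18, 0), (35, 0), (139, 0), (151, 0), (159, 0), (184, 0), (232, 0), (139, 1)], 207)]),
  ([(0, 0), (1, 23), (2, 12)], .next 3 [(15, [], 140), (22, [(139, 0), (151, 0), (159, 0), (184, 0)], 162), (32, [(5, 0), (20, 0), (151, 0), (159, 0), (184, 0), (234, 0), (159, 1), (184, 1), (184, 2)], 171)]),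
  ([(0, 0), (1, 23), (2, 12), (3, 15)], .next 4 [(17, [], 141), (34, [(6, 0), (139, 0), (236, 0), (139, 1), (236, 2)], 155), (161, [(6, 0), (236, 0)], 160)]),
  ([(0, 0), (1, 23), (2, 12), (3, 15), (4, 17)], .next 5 [(19, [], 142), (36, [(238, 0)], 147), (157, [], 149), (164, [(238, 0)], 152)]),
  ([(0, 0), (1, 23), (2, 12), (3, 15), (4, 17), (5, 19)], .next 6 [(21, [], 143), (146, [], 145), (236, [], 146)]),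
  ([(0, 0), (1, 23), (2, 12), (3, 15), (4, 17), (5, 19), (6, 21)], .next 7 [(22, [], 144)]),
  ([(0, 0), (1, 23), (2, 12), (3, 15), (4, 17), (5, 19), (6, 21), (7, 22)], .rep [] 3 [(1, [1]), (1, [0, 0, 1]), (1, [0, 0, 0, 0, 1]), (1, [0, 0, 0, 0, 0, 0, 1]), (1, [0, 0, 0, 0, 0, 0, 0, 0, 1]), (1, [0, 0, 0, 0, 0, 0, 0, 0, 0, 0, 1]), (1, [0, 0, 0, 0, 0, 0, 0, 0, 0, 0, 0, 0, 1]), (1, [0, 0, 0, 0, 0, 0, 0, 0, 0, 0, 0, 0, 0, 0, 1])]),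
  ([(0, 0), (1, 23), (2, 12), (3, 15), (4, 17), (5, 19), (6, 146)], .none 7 2 [-1, 0, -2, 0, -3, 0, -2, 0, -1, 0, 0, 0, 0, -1] 3),
  ([(0, 0), (1, 23), (2, 12), (3, 15), (4, 17), (5, 19), (6, 236)], .rep [49, 228, 73, 221] 5 [(1, [1]), (1, [0, 0, 1]), (1, [0, 0, 0, 0, 1]), (1, [0, 0, 0, 0, 0, 0, 1]), (1, [0, 0, 0, 0, 0, 0, 0, 0, 1]), (1, [0, 0, 0, 0, 0, 0, 0, 0, 0, 0, 1]), (1, [0, 0, 0, 0, 0, 0, 0, 0, 0, 0, 0, 0, 1]), (3, [-2, 0, -4, 0, -6, 0, -5, 0, -4, 0, -3, 0, -1, 1])]),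
  ([(0, 0), (1, 23), (2, 12), (3, 15), (4, 17), (5, 36)], .next 7 [(22, [], 148)]),
  ([(0, 0), (1, 23), (2, 12), (3, 15), (4, 17), (5, 36), (7, 22)], .rep [46, 49, 67, 73] 5 [(1, [1]), (1, [0, 0, 1]), (1, [0, 0, 0, 0, 1]), (1, [0, 0, 0, 0, 0, 0, 1]), (1, [0, 0, 0, 0, 0, 0, 0, 0, 1]), (1, [0, 0, 0, 0, 0, 0, 0, 0, 0, 0, 1]), (1, [0, 0, 0, 0, 0, 0, 0, 0, 0, 0, -1, -1]), (1, [0, 0, 0, 0, 0, 0, 0, 0, 0, 0, 0, 0, 1])]),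
  ([(0, 0), (1, 23), (2, 12), (3, 15), (4, 17), (5, 157)], .next 6 [(21, [], 150), (236, [], 151)]),
  ([(0, 0), (1, 23), (2, 12), (3, 15), (4, 17), (5, 157), (6, 21)], .rep [7, 113, 27, 91] 5 [(1, [1]), (1, [0, 0, 1]), (1, [0, 0, 0, 0, 1]), (1, [0, 0, 0, 0, 0, 0, 1]), (1, [0, 0, 0, 0, 0, 0, 0, 0, 1]), (1, [0, 0, 0, 0, 0, 0, 0, 0, 0, 0, 1]), (1, [0, 0, 0, 0, 0, 0, 0, 0, 0, 0, 0, 0, 1]), (2, [-1, 0, -2, 0, -3, 0, -2, 0, -1, 0, -1, -1])]),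
  ([(0, 0), (1, 23), (2, 12), (3, 15), (4, 17), (5, 157), (6, 236)], .rep [78, 236, 49, 228, 73, 221] 7 [(1, [1]), (1, [0, 0, 1]), (1, [0, 0, 0, 0, 1]), (1, [0, 0, 0, 0, 0, 0, 1]), (1, [0, 0, 0, 0, 0, 0, 0, 0, 1]), (1, [0, 0, 0, 0, 0, 0, 0, 0, 0, 0, 1]), (1, [0, 0, 0, 0, 0, 0, 0, 0, 0, 0, 0, 0, 1]), (2, [-1, 0, -2, 0, -3, 0, -2, 0, -1, 0, -1, -1])]),
  ([(0, 0), (1, 23), (2, 12), (3, 15), (4, 17), (5, 164)], .next 6 [(6, [], 153), (139, [], 154)]),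
  ([(0, 0), (1, 23), (2, 12), (3, 15), (4, 17), (5, 164), (6, 6)], .rep [236, 14, 228, 67, 73] 7 [(1, [1]), (1, [0, 0, 1]), (1, [0, 0, 0, 0, 1]), (1, [0, 0, 0, 0, 0, 0, 1]), (1, [0, 0, 0, 0, 0, 0, 0, 0, 1]), (1, [0, 0, 0, 0, 0, 0, 0, 0, 0, 0, 1]), (1, [0, 0, 0, 0, 0, 0, 0, 0, 0, 0, 0, 0, 1]), (2, [-1, 0, -2, 0, -3, 0, -2, 0, -1, 0, -1, -1, -1])]),
  ([(0, 0), (1, 23), (2, 12), (3, 15), (4, 17), (5, 164), (6, 139)], .none 7 2 [-1, 0, -2, 0, -3, 0, -2, 0, -1, 0, -1, -1, -1] 3),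
  ([(0, 0), (1, 23), (2, 12), (3, 15), (4, 34)], .next 6 [(36, [], 156), (157, [], 158), (234, [], 159)]),
  ([(0, 0), (1, 23), (2, 12), (3, 15), (4, 34), (6, 36)], .next 7 [(22, [], 157)]),
  ([(0, 0), (1, 23), (2, 12), (3, 15), (4, 34), (6, 36), (7, 22)], .rep [30, 33, 53, 57] 5 [(1, [1]), (1, [0, 0, 1]), (1, [0, 0, 0, 0, 1]), (1, [0, 0, 0, 0, 0, 0, 1]), (1, [0, 0, 0, 0, 0, 0, 0, 0, 1]), (1, [0, 0, 0, 0, 0, 0, 0, 0, -1, -1]), (1, [0, 0, 0, 0, 0, 0, 0, 0, 0, 0, 1]), (1, [0, 0, 0, 0, 0, 0, 0, 0, 0, 0, 0, 0, 1])]),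
  ([(0, 0), (1, 23), (2, 12), (3, 15), (4, 34), (6, 157)], .none 7 2 [-1, 0, -2, 0, -3, 0, -2, 0, 0, 1, 0, -1] 3),
  ([(0, 0), (1, 23), (2, 12), (3, 15), (4, 34), (6, 234)], .rep [30, 33, 73, 221] 7 [(1, [1]), (1, [0, 0, 1]), (1, [0, 0, 0, 0, 1]), (1, [0, 0, 0, 0, 0, 0, 1]), (1, [0, 0, 0, 0, 0, 0, 0, 0, 1]), (1, [0, 0, 0, 0, 0, 0, 0, 0, -1, -1]), (1, [0, 0, 0, 0, 0, 0, 0, 0, 0, 0, 1]), (3, [-2, 0, -4, 0, -6, 0, -5, 0, -2, 2, -1, 1])]),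
  ([(0, 0), (1, 23), (2, 12), (3, 15), (4, 161)], .next 5 [(6, [(238, 0)], 161)]),
  ([(0, 0), (1, 23), (2, 12), (3, 15), (4, 161), (5, 6)], .rep [6, 207, 30, 49, 39, 206] 7 [(1, [1]), (1, [0, 0, 1]), (1, [0, 0, 0, 0, 1]), (1, [0, 0, 0, 0, 0, 0, 1]), (1, [0, 0, 0, 0, 0, 0, 0, 0, 1]), (1, [0, 0, 0, 0, 0, 0, 0, 0, 0, 0, 1]), (1, [0, 0, 0, 0, 0, 0, 0, 0, 0, 0, 0, 1]), (1, [-1, 0, -2, 0, -3, 0, -3, 0, -2, 1, -1])]),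
  ([(0, 0), (1, 23), (2, 12), (3, 22)], .next 4 [(139, [], 163), (151, [(6, 0), (236, 0)], 168)]),
  ([(0, 0), (1, 23), (2, 12), (3, 22), (4, 139)], .next 5 [(5, [], 164), (20, [(238, 0)], 167)]),
  ([(0, 0), (1, 23), (2, 12), (3, 22), (4, 139), (5, 5)], .next 6 [(6, [], 165), (237, [], 166)]),
  ([(0, 0), (1, 23), (2, 12), (3, 22), (4, 139), (5, 5), (6, 6)], .rep [35, 207, 9, 43] 6 [(1, [1]), (1, [0, 0, 1]), (1, [0, 0, 0, 0, 1]), (1, [0, 0, 0, 0, 0, 0, 1]), (1, [0, 0, 0, 0, 0, 0, 0, 0, 1]), (1, [0, 0, 0, 0, 0, 0, 0, 0, 0, 0, 1]), (1, [0, 0, 0, 0, 0, 0, 0, 0, 0, 0, 0, 0, 1]), (1, [0, 0, 0, 0, 0, 0, 0, -1])]),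
  ([(0, 0), (1, 23), (2, 12), (3, 22), (4, 139), (5, 5), (6, 237)], .rep [18, 35, 207, 3, 7, 9, 11] 9 [(1, [1]), (1, [0, 0, 1]), (1, [0, 0, 0, 0, 1]), (1, [0, 0, 0, 0, 0, 0, 1]), (1, [0, 0, 0, 0, 0, 0, 0, 0, 1]), (1, [0, 0, 0, 0, 0, 0, 0, 0, 0, 0, 1]), (1, [0, 0, 0, 0, 0, 0, 0, 0, 0, 0, 0, 0, 1]), (1, [0, 0, 0, 0, 0, 0, 0, -1])]),
  ([(0, 0), (1, 23), (2, 12), (3, 22), (4, 139), (5, 20)], .rep [18, 170, 67, 73] 9 [(1, [1]), (1, [0, 0, 1]), (1, [0, 0, 0, 0, 1]), (1, [0, 0, 0, 0, 0, 0, 1]), (1, [0, 0, 0, 0, 0, 0, 0, 0, 1]), (1, [0, 0, 0, 0, 0, 0, 0, 0, 0, 0, 1]), (1, [0, 0, 0, 0, 0, 0, 0, 0, 0, 0, -1, 1]), (1, [0, 0, 0, 0, 0, 0, 0, -1])]),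
  ([(0, 0), (1, 23), (2, 12), (3, 22), (4, 151)], .next 6 [(20, [], 169), (235, [], 170)]),
  ([(0, 0), (1, 23), (2, 12), (3, 22), (4, 151), (6, 20)], .rep [99, 35, 207, 9, 43] 9 [(1, [1]), (1, [0, 0, 1]), (1, [0, 0, 0, 0, 1]), (1, [0, 0, 0, 0, 0, 0, 1]), (1, [0, 0, 0, 0, 0, 0, 0, 0, 1]), (1, [-1, 0, -2, 0, -3, 0, -2, 2, -1, 1]), (1, [0, 0, 0, 0, 0, 0, 0, 0, 0, 0, 1]), (1, [0, 0, 0, 0, 0, 0, 0, -1])]),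
  ([(0, 0), (1, 23), (2, 12), (3, 22), (4, 151), (6, 235)], .rep [6, 176, 30, 113, 27, 117] 7 [(1, [1]), (1, [0, 0, 1]), (1, [0, 0, 0, 0, 1]), (1, [0, 0, 0, 0, 0, 0, 1]), (1, [0, 0, 0, 0, 0, 0, 0, 0, 1]), (1, [-1, 0, -2, 0, -3, 0, -2, 2, -1, 1]), (1, [0, 0, 0, 0, 0, 0, 0, 0, 0, 0, 1]), (1, [0, 0, 0, 0, 0, 0, 0, -1])]),
  ([(0, 0), (1, 23), (2, 12), (3, 32)], .next 5 [(34, [], 172), (50, [(238, 0)], 177), (167, [], 179), (174, [(238, 0)], 182)]),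
  ([(0, 0), (1, 23), (2, 12), (3, 32), (5, 34)], .next 6 [(21, [], 173), (146, [], 175), (236, [], 176)]),
  ([(0, 0), (1, 23), (2, 12), (3, 32), (5, 34), (6, 21)], .next 7 [(22, [], 174)]),
  ([(0, 0), (1, 23), (2, 12), (3, 32), (5, 34), (6, 21), (7, 22)], .rep [13, 16] 5 [(1, [1]), (1, [0, 0, 1]), (1, [0, 0, 0, 0, 1]), (1, [0, 0, 0, 0, 0, 0, 1]), (1, [0, 0, 0, 0, 0, 0, -1, -1]), (1, [0, 0, 0, 0, 0, 0, 0, 0, 1]), (1, [0, 0, 0, 0, 0, 0, 0, 0, 0, 0, 1]), (1, [0, 0, 0, 0, 0, 0, 0, 0, 0, 0, 0, 0, 1])]),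
  ([(0, 0), (1, 23), (2, 12), (3, 32), (5, 34), (6, 146)], .none 7 2 [-1, 0, -2, 0, -3, 0, -1, 1, 0, 0, 0, -1] 3),
  ([(0, 0), (1, 23), (2, 12), (3, 32), (5, 34), (6, 236)], .rep [20, 232, 49, 228] 7 [(1, [1]), (1, [0, 0, 1]), (1, [0, 0, 0, 0, 1]), (1, [0, 0, 0, 0, 0, 0, 1]), (1, [0, 0, 0, 0, 0, 0, -1, -1]), (1, [0, 0, 0, 0, 0, 0, 0, 0, 1]), (1, [0, 0, 0, 0, 0, 0, 0, 0, 0, 0, 1]), (3, [-2, 0, -4, 0, -6, 0, -1, 4, -3, 0, -1, 1])]),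
  ([(0, 0), (1, 23), (2, 12), (3, 32), (5, 50)], .next 7 [(22, [], 178)]),
  ([(0, 0), (1, 23), (2, 12), (3, 32), (5, 50), (7, 22)], .rep [236, 13, 16, 67, 73] 7 [(1, [1]), (1, [0, 0, 1]), (1, [0, 0, 0, 0, 1]), (1, [0, 0, 0, 0, 0, 0, 1]), (1, [0, 0, 0, 0, 0, 0, -1, -1]), (1, [0, 0, 0, 0, 0, 0, 0, 0, 1]), (1, [0, 0, 0, 0, 0, 0, 1, 1, -1, -1]), (1, [0, 0, 0, 0, 0, 0, 0, 0, 0, 0, 1])]),
  ([(0, 0), (1, 23), (2, 12), (3, 32), (5, 167)], .next 6 [(21, [], 180), (236, [], 181)]),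
  ([(0, 0), (1, 23), (2, 12), (3, 32), (5, 167), (6, 21)], .rep [20, 184, 13, 16, 27, 91] 7 [(1, [1]), (1, [0, 0, 1]), (1, [0, 0, 0, 0, 1]), (1, [0, 0, 0, 0, 0, 0, 1]), (1, [0, 0, 0, 0, 0, 0, -1, -1]), (1, [0, 0, 0, 0, 0, 0, 0, 0, 1]), (1, [0, 0, 0, 0, 0, 0, 0, 0, 0, 0, 1]), (2, [-1, 0, -2, 0, -3, 0, 0, 2, -1, -1])]),
  ([(0, 0), (1, 23), (2, 12), (3, 32), (5, 167), (6, 236)], .rep [5, 162, 168, 236, 13, 124, 26, 117] 9 [(1, [1]), (1, [0, 0, 1]), (1, [0, 0, 0, 0, 1]), (1, [0, 0, 0, 0, 0, 0, 1]), (1, [0, 0, 0, 0, 0, 0, -1, -1]), (1, [0, 0, 0, 0, 0, 0, 0, 0, 1]), (1, [0, 0, 0, 0, 0, 0, 0, 0, 0, 0, 1]), (2, [-1, 0, -2, 0, -3, 0, 0, 2, -1, -1])]),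
  ([(0, 0), (1, 23), (2, 12), (3, 32), (5, 174)], .next 6 [(6, [], 183), (139, [], 184)]),
  ([(0, 0), (1, 23), (2, 12), (3, 32), (5, 174), (6, 6)], .rep [5, 99, 35, 234, 13, 200, 1, 217] 9 [(1, [1]), (1, [0, 0, 1]), (1, [0, 0, 0, 0, 1]), (1, [0, 0, 0, 0, 0, 0, 1]), (1, [0, 0, 0, 0, 0, 0, -1, -1]), (1, [0, 0, 0, 0, 0, 0, 0, 0, 1]), (1, [0, 0, 0, 0, 0, 0, 0, 0, 0, 0, 1]), (2, [-1, 0, -2, 0, -3, 0, 0, 2, -1, -1, -1])]),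
  ([(0, 0), (1, 23), (2, 12), (3, 32), (5, 174), (6, 139)], .none 7 2 [-1, 0, -2, 0, -3, 0, 0, 2, -1, -1, -1] 3),
  ([(0, 0), (1, 23), (2, 28)], .next 4 [(32, [], 186), (48, [(6, 0), (139, 0), (236, 0), (139, 1), (236, 2)], 200), (150, [(6, 0), (236, 0)], 205)]),
  ([(0, 0), (1, 23), (2, 28), (4, 32)], .next 5 [(19, [], 187), (36, [(238, 0)], 192), (157, [], 194), (164, [(238, 0)], 197)]),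
  ([(0, 0), (1, 23), (2, 28), (4, 32), (5, 19)], .next 6 [(21, [], 188), (146, [], 190), (236, [], 191)]),
  ([(0, 0), (1, 23), (2, 28), (4, 32), (5, 19), (6, 21)], .next 7 [(22, [], 189)]),
  ([(0, 0), (1, 23), (2, 28), (4, 32), (5, 19), (6, 21), (7, 22)], .rep [2, 13] 5 [(1, [1]), (1, [0, 0, 1]), (1, [0, 0, 0, 0, 1]), (1, [0, 0, 0, 0, -1, -1]), (1, [0, 0, 0, 0, 0, 0, 1]), (1, [0, 0, 0, 0, 0, 0, 0, 0, 1]), (1, [0, 0, 0, 0, 0, 0, 0, 0, 0, 0, 1]), (1, [0, 0, 0, 0, 0, 0, 0, 0, 0, 0, 0, 0, 1])]),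
  ([(0, 0), (1, 23), (2, 28), (4, 32), (5, 19), (6, 146)], .none 7 2 [-1, 0, -2, 0, -1, 2, -1, 0, 0, 0, 0, -1] 3),
  ([(0, 0), (1, 23), (2, 28), (4, 32), (5, 19), (6, 236)], .rep [35, 238, 49, 228] 7 [(1, [1]), (1, [0, 0, 1]), (1, [0, 0, 0, 0, 1]), (1, [0, 0, 0, 0, -1, -1]), (1, [0, 0, 0, 0, 0, 0, 1]), (1, [0, 0, 0, 0, 0, 0, 0, 0, 1]), (1, [0, 0, 0, 0, 0, 0, 0, 0, 0, 0, 1]), (3, [-2, 0, -4, 0, -1, 5, -4, 0, -3, 0, -1, 1])])]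

/-- Part 3. -/
def invTree3 : List Node := [
  ([(0, 0), (1, 23), (2, 28), (4, 32), (5, 36)], .next 7 [(22, [], 193)]),
  ([(0, 0), (1, 23), (2, 28), (4, 32), (5, 36), (7, 22)], .rep [35, 238, 46, 49, 67, 73] 7 [(1, [1]), (1, [0, 0, 1]), (1, [0, 0, 0, 0, 1]), (1, [0, 0, 0, 0, -1, -1]), (1, [0, 0, 0, 0, 0, 0, 1]), (1, [0, 0, 0, 0, 0, 0, 0, 0, 1]), (1, [0, 0, 0, 0, 0, 0, 0, 0, -1, -1]), (1, [0, 0, 0, 0, 0, 0, 0, 0, 0, 0, 1])]),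
  ([(0, 0), (1, 23), (2, 28), (4, 32), (5, 157)], .next 6 [(21, [], 195), (236, [], 196)]),
  ([(0, 0), (1, 23), (2, 28), (4, 32), (5, 157), (6, 21)], .rep [20, 184, 2, 16, 27, 91] 7 [(1, [1]), (1, [0, 0, 1]), (1, [0, 0, 0, 0, 1]), (1, [0, 0, 0, 0, -1, -1]), (1, [0, 0, 0, 0, 0, 0, 1]), (1, [0, 0, 0, 0, 0, 0, 0, 0, 1]), (1, [0, 0, 0, 0, 0, 0, 0, 0, 0, 0, 1]), (2, [-1, 0, -2, 0, -1, 2, -1, 0, -1, -1])]),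
  ([(0, 0), (1, 23), (2, 28), (4, 32), (5, 157), (6, 236)], .rep [85, 162, 20, 232, 124, 9, 74] 9 [(1, [1]), (1, [0, 0, 1]), (1, [0, 0, 0, 0, 1]), (1, [0, 0, 0, 0, -1, -1]), (1, [0, 0, 0, 0, 0, 0, 1]), (1, [0, 0, 0, 0, 0, 0, 0, 0, 1]), (1, [0, 0, 0, 0, 0, 0, 0, 0, 0, 0, 1]), (2, [-1, 0, -2, 0, -1, 2, -1, 0, -1, -1])]),
  ([(0, 0), (1, 23), (2, 28), (4, 32), (5, 164)], .next 6 [(6, [], 198), (139, [], 199)]),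
  ([(0, 0), (1, 23), (2, 28), (4, 32), (5, 164), (6, 6)], .rep [168, 16, 9, 201] 9 [(1, [1]), (1, [0, 0, 1]), (1, [0, 0, 0, 0, 1]), (1, [0, 0, 0, 0, -1, -1]), (1, [0, 0, 0, 0, 0, 0, 1]), (1, [0, 0, 0, 0, 0, 0, 0, 0, 1]), (1, [0, 0, 0, 0, 0, 0, 0, 0, 0, 0, 1]), (2, [-1, 0, -2, 0, -1, 2, -1, 0, -1, -1, -1])]),
  ([(0, 0), (1, 23), (2, 28), (4, 32), (5, 164), (6, 139)], .none 7 2 [-1, 0, -2, 0, -1, 2, -1, 0, -1, -1, -1] 3),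
  ([(0, 0), (1, 23), (2, 28), (4, 48)], .next 6 [(36, [], 201), (157, [], 203), (234, [], 204)]),
  ([(0, 0), (1, 23), (2, 28), (4, 48), (6, 36)], .next 7 [(22, [], 202)]),
  ([(0, 0), (1, 23), (2, 28), (4, 48), (6, 36), (7, 22)], .rep [35, 236, 30, 33, 53, 57] 7 [(1, [1]), (1, [0, 0, 1]), (1, [0, 0, 0, 0, 1]), (1, [0, 0, 0, 0, -1, -1]), (1, [0, 0, 0, 0, 0, 0, 1]), (1, [0, 0, 0, 0, 1, 1, -1, -1]), (1, [0, 0, 0, 0, 0, 0, 0, 0, 1]), (1, [0, 0, 0, 0, 0, 0, 0, 0, 0, 0, 1])]),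
  ([(0, 0), (1, 23), (2, 28), (4, 48), (6, 157)], .none 7 2 [-1, 0, -2, 0, -2, 1, 0, 1, 0, -1] 3),
  ([(0, 0), (1, 23), (2, 28), (4, 48), (6, 234)], .rep [5, 111, 6, 176, 2, 14, 1, 59] 9 [(1, [1]), (1, [0, 0, 1]), (1, [0, 0, 0, 0, 1]), (1, [0, 0, 0, 0, -1, -1]), (1, [0, 0, 0, 0, 0, 0, 1]), (1, [0, 0, 0, 0, 1, 1, -1, -1]), (1, [0, 0, 0, 0, 0, 0, 0, 0, 1]), (3, [-2, 0, -4, 0, -3, 3, -2, 2, -1, 1])]),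
  ([(0, 0), (1, 23), (2, 28), (4, 150)], .next 5 [(6, [(238, 0)], 206)]),
  ([(0, 0), (1, 23), (2, 28), (4, 150), (5, 6)], .rep [5, 31, 35, 124, 9, 74] 9 [(1, [1]), (1, [0, 0, 1]), (1, [0, 0, 0, 0, 1]), (1, [0, 0, 0, 0, -1, -1]), (1, [0, 0, 0, 0, 0, 0, 1]), (1, [0, 0, 0, 0, 0, 0, 0, 0, 1]), (1, [0, 0, 0, 0, 0, 0, 0, 0, 0, 1]), (1, [-1, 0, -2, 0, -1, 2, -2, 1, -1])]),
  ([(0, 0), (1, 23), (2, 45)], .next 3 [(3, [], 208), (7, [], 217), (156, [(6, 0), (20, 0), (234, 0), (236, 0), (234, 1)], 226)]),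
  ([(0, 0), (1, 23), (2, 45), (3, 3)], .next 4 [(32, [], 209), (48, [(6, 0), (236, 0)], 214)]),
  ([(0, 0), (1, 23), (2, 45), (3, 3), (4, 32)], .next 5 [(19, [], 210), (36, [(238, 0)], 213)]),
  ([(0, 0), (1, 23), (2, 45), (3, 3), (4, 32), (5, 19)], .next 6 [(21, [], 211), (236, [], 212)]),
  ([(0, 0), (1, 23), (2, 45), (3, 3), (4, 32), (5, 19), (6, 21)], .rep [35, 224, 2, 14] 7 [(1, [1]), (1, [0, 0, 1]), (1, [0, 0, 0, 0, 1]), (1, [0, 0, 0, 0, 0, 0, 1]), (1, [0, 0, 0, 0, 0, 0, 0, 0, 1]), (1, [0, 0, 0, 0, 0, 0, 0, 0, 0, 0, 1]), (1, [0, 0, 0, 0, 0, 0, 0, 0, 0, 0, 0, 0, 1]), (1, [0, 0, 0, 0, -1, -1, -1])]),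
  ([(0, 0), (1, 23), (2, 45), (3, 3), (4, 32), (5, 19), (6, 236)], .rep [18, 6, 178, 2, 14, 53, 57] 9 [(1, [1]), (1, [0, 0, 1]), (1, [0, 0, 0, 0, 1]), (1, [0, 0, 0, 0, 0, 0, 1]), (1, [0, 0, 0, 0, 0, 0, 0, 0, 1]), (1, [0, 0, 0, 0, 0, 0, 0, 0, 0, 0, 1]), (1, [0, 0, 0, 0, 0, 0, 0, 0, 0, 0, 0, 0, 1]), (1, [0, 0, 0, 0, -1, -1, -1])]),
  ([(0, 0), (1, 23), (2, 45), (3, 3), (4, 32), (5, 36)], .rep [5, 85, 78, 232, 185, 1, 59] 9 [(1, [1]), (1, [0, 0, 1]), (1, [0, 0, 0, 0, 1]), (1, [0, 0, 0, 0, 0, 0, 1]), (1, [0, 0, 0, 0, 0, 0, 0, 0, 1]), (1, [0, 0, 0, 0, 0, 0, 0, 0, 0, 0, 1]), (1, [0, 0, 0, 0, 0, 0, 0, 0, 0, 0, -1, -1]), (1, [0, 0, 0, 0, -1, -1, -1])]),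
  ([(0, 0), (1, 23), (2, 45), (3, 3), (4, 48)], .next 6 [(36, [], 215), (234, [], 216)]),
  ([(0, 0), (1, 23), (2, 45), (3, 3), (4, 48), (6, 36)], .rep [111, 122, 236, 16, 126, 9, 187] 9 [(1, [1]), (1, [0, 0, 1]), (1, [0, 0, 0, 0, 1]), (1, [0, 0, 0, 0, 0, 0, 1]), (1, [0, 0, 0, 0, 0, 0, 0, 0, 1]), (1, [0, 0, 0, 0, 0, 0, -1, 0, -1, -1]), (1, [0, 0, 0, 0, 0, 0, 0, 0, 0, 0, 1]), (1, [0, 0, 0, 0, -1, -1, -1])]),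
  ([(0, 0), (1, 23), (2, 45), (3, 3), (4, 48), (6, 234)], .rep [78, 232, 171, 1, 59] 6 [(1, [1]), (1, [0, 0, 1]), (1, [0, 0, 0, 0, 1]), (1, [0, 0, 0, 0, 0, 0, 1]), (1, [0, 0, 0, 0, 0, 0, 0, 0, 1]), (1, [0, 0, 0, 0, 0, 0, -1, 0, -1, -1]), (1, [0, 0, 0, 0, 0, 0, 0, 0, 0, 0, 1]), (1, [0, 0, 0, 0, -1, -1, -1])]),
  ([(0, 0), (1, 23), (2, 45), (3, 7)], .next 4 [(126, [], 218), (137, [(6, 0), (236, 0)], 223)]),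
  ([(0, 0), (1, 23), (2, 45), (3, 7), (4, 126)], .next 5 [(5, [], 219), (20, [(238, 0)], 222)]),
  ([(0, 0), (1, 23), (2, 45), (3, 7), (4, 126), (5, 5)], .next 6 [(6, [], 220), (237, [], 221)]),
  ([(0, 0), (1, 23), (2, 45), (3, 7), (4, 126), (5, 5), (6, 6)], .rep [35, 207, 7, 9, 26] 6 [(1, [1]), (1, [0, 0, 1]), (1, [0, 0, 0, 0, 1]), (1, [0, 0, 0, 0, 0, 0, 1]), (1, [0, 0, 0, 0, 0, 0, 0, 0, 1]), (1, [0, 0, 0, 0, 0, 0, 0, 0, 0, 0, 1]), (1, [0, 0, 0, 0, 0, 0, 0, 0, 0, 0, 0, 0, 1]), (1, [0, 0, 0, 0, -1, -1, -1])]),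
  ([(0, 0), (1, 23), (2, 45), (3, 7), (4, 126), (5, 5), (6, 237)], .rep [151, 78, 232, 2, 3, 1, 59] 9 [(1, [1]), (1, [0, 0, 1]), (1, [0, 0, 0, 0, 1]), (1, [0, 0, 0, 0, 0, 0, 1]), (1, [0, 0, 0, 0, 0, 0, 0, 0, 1]), (1, [0, 0, 0, 0, 0, 0, 0, 0, 0, 0, 1]), (1, [0, 0, 0, 0, 0, 0, 0, 0, 0, 0, 0, 0, 1]), (1, [0, 0, 0, 0, -1, -1, -1])]),
  ([(0, 0), (1, 23), (2, 45), (3, 7), (4, 126), (5, 20)], .rep [162, 35, 234, 30, 113, 67, 73] 9 [(1, [1]), (1, [0, 0, 1]), (1, [0, 0, 0, 0, 1]), (1, [0, 0, 0, 0, 0, 0, 1]), (1, [0, 0, 0, 0, 0, 0, 0, 0, 1]), (1, [0, 0, 0, 0, 0, 0, 0, 0, 0, 0, 1]), (1, [0, 0, 0, 0, 0, 0, 0, 0, 0, 0, -1, 1]), (1, [0, 0, 0, 0, -1, -1, -1])]),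
  ([(0, 0), (1, 23), (2, 45), (3, 7), (4, 137)], .next 6 [(20, [], 224), (235, [], 225)]),
  ([(0, 0), (1, 23), (2, 45), (3, 7), (4, 137), (6, 20)], .rep [85, 162, 35, 234, 30, 33, 9, 27] 9 [(1, [1]), (1, [0, 0, 1]), (1, [0, 0, 0, 0, 1]), (1, [0, 0, 0, 0, 0, 0, 1]), (1, [0, 0, 0, 0, 0, 0, 0, 0, 1]), (1, [-1, 0, -2, 0, -2, 1, -1, 0, -1, 1]), (1, [0, 0, 0, 0, 0, 0, 0, 0, 0, 0, 1]), (1, [0, 0, 0, 0, -1, -1, -1])]),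
  ([(0, 0), (1, 23), (2, 45), (3, 7), (4, 137), (6, 235)], .rep [6, 184, 16, 126, 24, 187] 7 [(1, [1]), (1, [0, 0, 1]), (1, [0, 0, 0, 0, 1]), (1, [0, 0, 0, 0, 0, 0, 1]), (1, [0, 0, 0, 0, 0, 0, 0, 0, 1]), (1, [-1, 0, -2, 0, -2, 1, -1, 0, -1, 1]), (1, [0, 0, 0, 0, 0, 0, 0, 0, 0, 0, 1]), (1, [0, 0, 0, 0, -1, -1, -1])]),
  ([(0, 0), (1, 23), (2, 45), (3, 156)], .next 4 [(64, [(238, 0)], 227)]),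
  ([(0, 0), (1, 23), (2, 45), (3, 156), (4, 64)], .rep [5, 111, 20, 7, 138, 26, 117] 9 [(1, [1]), (1, [0, 0, 1]), (1, [0, 0, 0, 0, 1]), (1, [0, 0, 0, 0, 0, 0, 1]), (1, [0, 0, 0, 0, 0, 0, 0, 0, 1]), (1, [-1, 0, -2, 0, -2, 1, -1, -1, -2]), (1, [1, 0, 2, 0, 2, -1, 0, 1, 1, -1]), (1, [0, 0, 0, 0, -1, -1, -1])]),
  ([(0, 0), (1, 37)], .next 3 [(28, [], 229), (29, [(139, 0), (151, 0), (159, 0), (184, 0)], 251), (44, [(5, 0), (20, 0), (151, 0), (159, 0), (184, 0), (234, 0), (159, 1), (184, 1), (184, 2)], 260)]),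
  ([(0, 0), (1, 37), (3, 28)], .next 4 [(17, [], 230), (34, [(6, 0), (139, 0), (236, 0), (139, 1), (236, 2)], 244), (161, [(6, 0), (236, 0)], 249)]),
  ([(0, 0), (1, 37), (3, 28), (4, 17)], .next 5 [(19, [], 231), (36, [(238, 0)], 236), (157, [], 238), (164, [(238, 0)], 241)]),
  ([(0, 0), (1, 37), (3, 28), (4, 17), (5, 19)], .next 6 [(21, [], 232), (146, [], 234), (236, [], 235)]),
  ([(0, 0), (1, 37), (3, 28), (4, 17), (5, 19), (6, 21)], .next 7 [(29, [], 233)]),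
  ([(0, 0), (1, 37), (3, 28), (4, 17), (5, 19), (6, 21), (7, 29)], .rep [9, 11] 5 [(1, [1]), (1, [0, 0, 1]), (1, [-1, 0, -1, -1]), (1, [0, 0, 0, 0, 1]), (1, [0, 0, 0, 0, 0, 0, 1]), (1, [0, 0, 0, 0, 0, 0, 0, 0, 1]), (1, [0, 0, 0, 0, 0, 0, 0, 0, 0, 0, 1]), (1, [0, 0, 0, 0, 0, 0, 0, 0, 0, 0, 0, 0, 1])]),
  ([(0, 0), (1, 37), (3, 28), (4, 17), (5, 19), (6, 146)], .none 7 2 [2, 0, 1, 3, -2, 0, -1, 0, 0, 0, 0, -1] 3),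
  ([(0, 0), (1, 37), (3, 28), (4, 17), (5, 19), (6, 236)], .rep [49, 228, 73, 221] 7 [(1, [1]), (1, [0, 0, 1]), (1, [-1, 0, -1, -1]), (1, [0, 0, 0, 0, 1]), (1, [0, 0, 0, 0, 0, 0, 1]), (1, [0, 0, 0, 0, 0, 0, 0, 0, 1]), (1, [0, 0, 0, 0, 0, 0, 0, 0, 0, 0, 1]), (3, [4, 0, 2, 6, -5, 0, -4, 0, -3, 0, -1, 1])]),
  ([(0, 0), (1, 37), (3, 28), (4, 17), (5, 36)], .next 7 [(29, [], 237)]),
  ([(0, 0), (1, 37), (3, 28), (4, 17), (5, 36), (7, 29)], .rep [236, 46, 49] 7 [(1, [1]), (1, [0, 0, 1]), (1, [-1, 0, -1, -1]), (1, [0, 0, 0, 0, 1]), (1, [0, 0, 0, 0, 0, 0, 1]), (1, [0, 0, 0, 0, 0, 0, 0, 0, 1]), (1, [0, 0, 0, 0, 0, 0, 0, 0, -1, -1]), (1, [0, 0, 0, 0, 0, 0, 0, 0, 0, 0, 1])]),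
  ([(0, 0), (1, 37), (3, 28), (4, 17), (5, 157)], .next 6 [(21, [], 239), (236, [], 240)]),
  ([(0, 0), (1, 37), (3, 28), (4, 17), (5, 157), (6, 21)], .rep [20, 184, 27, 91] 7 [(1, [1]), (1, [0, 0, 1]), (1, [-1, 0, -1, -1]), (1, [0, 0, 0, 0, 1]), (1, [0, 0, 0, 0, 0, 0, 1]), (1, [0, 0, 0, 0, 0, 0, 0, 0, 1]), (1, [0, 0, 0, 0, 0, 0, 0, 0, 0, 0, 1]), (2, [2, 0, 1, 3, -2, 0, -1, 0, -1, -1])]),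
  ([(0, 0), (1, 37), (3, 28), (4, 17), (5, 157), (6, 236)], .rep [5, 85, 6, 178, 2, 1, 90] 9 [(1, [1]), (1, [0, 0, 1]), (1, [-1, 0, -1, -1]), (1, [0, 0, 0, 0, 1]), (1, [0, 0, 0, 0, 0, 0, 1]), (1, [0, 0, 0, 0, 0, 0, 0, 0, 1]), (1, [0, 0, 0, 0, 0, 0, 0, 0, 0, 0, 1]), (2, [2, 0, 1, 3, -2, 0, -1, 0, -1, -1])]),
  ([(0, 0), (1, 37), (3, 28), (4, 17), (5, 164)], .next 6 [(6, [], 242), (139, [], 243)]),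
  ([(0, 0), (1, 37), (3, 28), (4, 17), (5, 164), (6, 6)], .rep [47, 162, 20, 232, 7, 160, 1, 217] 9 [(1, [1]), (1, [0, 0, 1]), (1, [-1, 0, -1, -1]), (1, [0, 0, 0, 0, 1]), (1, [0, 0, 0, 0, 0, 0, 1]), (1, [0, 0, 0, 0, 0, 0, 0, 0, 1]), (1, [0, 0, 0, 0, 0, 0, 0, 0, 0, 0, 1]), (2, [2, 0, 1, 3, -2, 0, -1, 0, -1, -1, -1])]),
  ([(0, 0), (1, 37), (3, 28), (4, 17), (5, 164), (6, 139)], .none 7 2 [2, 0, 1, 3, -2, 0, -1, 0, -1, -1, -1] 3),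
  ([(0, 0), (1, 37), (3, 28), (4, 34)], .next 6 [(36, [], 245), (157, [], 247), (234, [], 248)]),
  ([(0, 0), (1, 37), (3, 28), (4, 34), (6, 36)], .next 7 [(29, [], 246)]),
  ([(0, 0), (1, 37), (3, 28), (4, 34), (6, 36), (7, 29)], .rep [6, 234, 30, 33] 7 [(1, [1]), (1, [0, 0, 1]), (1, [-1, 0, -1, -1]), (1, [0, 0, 0, 0, 1]), (1, [0, 0, 0, 0, 0, 0, 1]), (1, [0, 0, 0, 0, 0, 0, -1, -1]), (1, [0, 0, 0, 0, 0, 0, 0, 0, 1]), (1, [0, 0, 0, 0, 0, 0, 0, 0, 0, 0, 1])]),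
  ([(0, 0), (1, 37), (3, 28), (4, 34), (6, 157)], .none 7 2 [2, 0, 1, 3, -2, 0, 0, 1, 0, -1] 3),
  ([(0, 0), (1, 37), (3, 28), (4, 34), (6, 234)], .rep [5, 111, 6, 178, 2, 1, 59] 9 [(1, [1]), (1, [0, 0, 1]), (1, [-1, 0, -1, -1]), (1, [0, 0, 0, 0, 1]), (1, [0, 0, 0, 0, 0, 0, 1]), (1, [0, 0, 0, 0, 0, 0, -1, -1]), (1, [0, 0, 0, 0, 0, 0, 0, 0, 1]), (3, [4, 0, 2, 6, -5, 0, -2, 2, -1, 1])]),
  ([(0, 0), (1, 37), (3, 28), (4, 161)], .next 5 [(6, [(238, 0)], 250)]),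
  ([(0, 0), (1, 37), (3, 28), (4, 161), (5, 6)], .rep [85, 162, 35, 14, 192, 27, 129] 9 [(1, [1]), (1, [0, 0, 1]), (1, [-1, 0, -1, -1]), (1, [0, 0, 0, 0, 1]), (1, [0, 0, 0, 0, 0, 0, 1]), (1, [0, 0, 0, 0, 0, 0, 0, 0, 1]), (1, [0, 0, 0, 0, 0, 0, 0, 0, 0, 1]), (1, [2, 0, 1, 3, -3, 0, -2, 1, -1])]),
  ([(0, 0), (1, 37), (3, 29)], .next 4 [(139, [], 252), (151, [(6, 0), (236, 0)], 257)]),
  ([(0, 0), (1, 37), (3, 29), (4, 139)], .next 5 [(5, [], 253), (20, [(238, 0)], 256)]),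
  ([(0, 0), (1, 37), (3, 29), (4, 139), (5, 5)], .next 6 [(6, [], 254), (237, [], 255)]),
  ([(0, 0), (1, 37), (3, 29), (4, 139), (5, 5), (6, 6)], .rep [9, 43] 4 [(1, [1]), (1, [0, 0, 1]), (1, [-1, 0, -1, -1]), (1, [0, 0, 0, 0, 1]), (1, [0, 0, 0, 0, 0, 0, 1]), (1, [0, 0, 0, 0, 0, 0, 0, 0, 1]), (1, [0, 0, 0, 0, 0, 0, 0, 0, 0, 0, 1]), (1, [1, 0, 1, 1, 0, -1])]),
  ([(0, 0), (1, 37), (3, 29), (4, 139), (5, 5), (6, 237)], .rep [9, 43] 6 [(1, [1]), (1, [0, 0, 1]), (1, [-1, 0, -1, -1]), (1, [0, 0, 0, 0, 1]), (1, [0, 0, 0, 0, 0, 0, 1]), (1, [0, 0, 0, 0, 0, 0, 0, 0, 1]), (1, [0, 0, 0, 0, 0, 0, 0, 0, 0, 0, 1]), (1, [1, 0, 1, 1, 0, -1])])]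

/-- Part 4. -/
def invTree4 : List Node := [
  ([(0, 0), (1, 37), (3, 29), (4, 139), (5, 20)], .rep [35, 207, 3, 160, 67, 73] 6 [(1, [1]), (1, [0, 0, 1]), (1, [-1, 0, -1, -1]), (1, [0, 0, 0, 0, 1]), (1, [0, 0, 0, 0, 0, 0, 1]), (1, [0, 0, 0, 0, 0, 0, 0, 0, 1]), (1, [0, 0, 0, 0, 0, 0, 0, 0, -1, 1]), (1, [1, 0, 1, 1, 0, -1])]),
  ([(0, 0), (1, 37), (3, 29), (4, 151)], .next 6 [(20, [], 258), (235, [], 259)]),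
  ([(0, 0), (1, 37), (3, 29), (4, 151), (6, 20)], .rep [6, 234, 30, 33, 9, 43] 6 [(1, [1]), (1, [0, 0, 1]), (1, [-1, 0, -1, -1]), (1, [0, 0, 0, 0, 1]), (1, [0, 0, 0, 0, 0, 0, 1]), (1, [0, 0, -1, 1, -2, 2, -1, 1]), (1, [0, 0, 0, 0, 0, 0, 0, 0, 1]), (1, [1, 0, 1, 1, 0, -1])]),
  ([(0, 0), (1, 37), (3, 29), (4, 151), (6, 235)], .rep [99, 6, 234, 30, 113, 53, 57] 9 [(1, [1]), (1, [0, 0, 1]), (1, [-1, 0, -1, -1]), (1, [0, 0, 0, 0, 1]), (1, [0, 0, 0, 0, 0, 0, 1]), (1, [0, 0, -1, 1, -2, 2, -1, 1]), (1, [0, 0, 0, 0, 0, 0, 0, 0, 1]), (1, [1, 0, 1, 1, 0, -1])]),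
  ([(0, 0), (1, 37), (3, 44)], .next 5 [(34, [], 261), (50, [(238, 0)], 266), (167, [], 268), (174, [(238, 0)], 271)]),
  ([(0, 0), (1, 37), (3, 44), (5, 34)], .next 6 [(21, [], 262), (146, [], 264), (236, [], 265)]),
  ([(0, 0), (1, 37), (3, 44), (5, 34), (6, 21)], .next 7 [(29, [], 263)]),
  ([(0, 0), (1, 37), (3, 44), (5, 34), (6, 21), (7, 29)], .rep [20, 232, 9, 11] 7 [(1, [1]), (1, [0, 0, 1]), (1, [-1, 0, -1, -1]), (1, [0, 0, 0, 0, 1]), (1, [1, 0, 1, 1, -1, -1]), (1, [0, 0, 0, 0, 0, 0, 1]), (1, [0, 0, 0, 0, 0, 0, 0, 0, 1]), (1, [0, 0, 0, 0, 0, 0, 0, 0, 0, 0, 1])]),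
  ([(0, 0), (1, 37), (3, 44), (5, 34), (6, 146)], .none 7 2 [1, 0, 0, 2, -1, 1, 0, 0, 0, -1] 3),
  ([(0, 0), (1, 37), (3, 44), (5, 34), (6, 236)], .rep [31, 85, 35, 234, 3, 138, 27, 91] 9 [(1, [1]), (1, [0, 0, 1]), (1, [-1, 0, -1, -1]), (1, [0, 0, 0, 0, 1]), (1, [1, 0, 1, 1, -1, -1]), (1, [0, 0, 0, 0, 0, 0, 1]), (1, [0, 0, 0, 0, 0, 0, 0, 0, 1]), (3, [0, 0, -2, 2, -1, 4, -3, 0, -1, 1])]),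
  ([(0, 0), (1, 37), (3, 44), (5, 50)], .next 7 [(29, [], 267)]),
  ([(0, 0), (1, 37), (3, 44), (5, 50), (7, 29)], .rep [18, 20, 184, 3, 192, 27, 141] 9 [(1, [1]), (1, [0, 0, 1]), (1, [-1, 0, -1, -1]), (1, [0, 0, 0, 0, 1]), (1, [1, 0, 1, 1, -1, -1]), (1, [0, 0, 0, 0, 0, 0, 1]), (1, [-1, 0, -1, -1, 1, 1, -1, -1]), (1, [0, 0, 0, 0, 0, 0, 0, 0, 1])]),
  ([(0, 0), (1, 37), (3, 44), (5, 167)], .next 6 [(21, [], 269), (236, [], 270)]),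
  ([(0, 0), (1, 37), (3, 44), (5, 167), (6, 21)], .rep [161, 6, 224, 14, 126, 73, 221] 8 [(1, [1]), (1, [0, 0, 1]), (1, [-1, 0, -1, -1]), (1, [0, 0, 0, 0, 1]), (1, [1, 0, 1, 1, -1, -1]), (1, [0, 0, 0, 0, 0, 0, 1]), (1, [0, 0, 0, 0, 0, 0, 0, 0, 1]), (2, [0, 0, -1, 1, 0, 2, -1, -1])]),
  ([(0, 0), (1, 37), (3, 44), (5, 167), (6, 236)], .rep [6, 178, 3, 30, 26, 117] 6 [(1, [1]), (1, [0, 0, 1]), (1, [-1, 0, -1, -1]), (1, [0, 0, 0, 0, 1]), (1, [1, 0, 1, 1, -1, -1]), (1, [0, 0, 0, 0, 0, 0, 1]), (1, [0, 0, 0, 0, 0, 0, 0, 0, 1]), (2, [0, 0, -1, 1, 0, 2, -1, -1])]),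
  ([(0, 0), (1, 37), (3, 44), (5, 174)], .next 6 [(6, [], 272), (139, [], 273)]),
  ([(0, 0), (1, 37), (3, 44), (5, 174), (6, 6)], .rep [168, 178, 14, 228, 27, 141] 6 [(1, [1]), (1, [0, 0, 1]), (1, [-1, 0, -1, -1]), (1, [0, 0, 0, 0, 1]), (1, [1, 0, 1, 1, -1, -1]), (1, [0, 0, 0, 0, 0, 0, 1]), (1, [0, 0, 0, 0, 0, 0, 0, 0, 1]), (2, [0, 0, -1, 1, 0, 2, -1, -1, -1])]),
  ([(0, 0), (1, 37), (3, 44), (5, 174), (6, 139)], .none 7 2 [0, 0, -1, 1, 0, 2, -1, -1, -1] 3),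
  ([(0, 1)], .next 2 [(37, [], 275), (51, [(4, 0), (18, 0), (35, 0), (161, 0), (162, 0), (168, 0), (170, 0), (176, 0), (178, 0), (232, 0), (161, 1), (168, 1), (178, 1), (161, 2), (162, 4)], 321), (59, [(4, 0), (18, 0), (35, 0), (139, 0), (151, 0), (159, 0), (184, 0), (232, 0), (139, 1)], 343)]),
  ([(0, 1), (2, 37)], .next 3 [(15, [], 276), (22, [(139, 0), (151, 0), (159, 0), (184, 0)], 298), (32, [(5, 0), (20, 0), (151, 0), (159, 0), (184, 0), (234, 0), (159, 1), (184, 1), (184, 2)], 307)]),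
  ([(0, 1), (2, 37), (3, 15)], .next 4 [(17, [], 277), (34, [(6, 0), (139, 0), (236, 0), (139, 1), (236, 2)], 291), (161, [(6, 0), (236, 0)], 296)]),
  ([(0, 1), (2, 37), (3, 15), (4, 17)], .next 5 [(19, [], 278), (36, [(238, 0)], 283), (157, [], 285), (164, [(238, 0)], 288)]),
  ([(0, 1), (2, 37), (3, 15), (4, 17), (5, 19)], .next 6 [(21, [], 279), (146, [], 281), (236, [], 282)]),
  ([(0, 1), (2, 37), (3, 15), (4, 17), (5, 19), (6, 21)], .next 7 [(22, [], 280)]),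
  ([(0, 1), (2, 37), (3, 15), (4, 17), (5, 19), (6, 21), (7, 22)], .rep [1] 3 [(1, [1]), (1, [0, 1]), (1, [0, 0, 1]), (1, [0, 0, 0, 0, 1]), (1, [0, 0, 0, 0, 0, 0, 1]), (1, [0, 0, 0, 0, 0, 0, 0, 0, 1]), (1, [0, 0, 0, 0, 0, 0, 0, 0, 0, 0, 1]), (1, [0, 0, 0, 0, 0, 0, 0, 0, 0, 0, 0, 0, 1])]),
  ([(0, 1), (2, 37), (3, 15), (4, 17), (5, 19), (6, 146)], .none 7 2 [-1, -2, -3, 0, -2, 0, -1, 0, 0, 0, 0, -1] 3),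
  ([(0, 1), (2, 37), (3, 15), (4, 17), (5, 19), (6, 236)], .rep [2, 230, 73, 221] 5 [(1, [1]), (1, [0, 1]), (1, [0, 0, 1]), (1, [0, 0, 0, 0, 1]), (1, [0, 0, 0, 0, 0, 0, 1]), (1, [0, 0, 0, 0, 0, 0, 0, 0, 1]), (1, [0, 0, 0, 0, 0, 0, 0, 0, 0, 0, 1]), (3, [-2, -4, -6, 0, -5, 0, -4, 0, -3, 0, -1, 1])]),
  ([(0, 1), (2, 37), (3, 15), (4, 17), (5, 36)], .next 7 [(22, [], 284)]),
  ([(0, 1), (2, 37), (3, 15), (4, 17), (5, 36), (7, 22)], .rep [2, 33, 67, 73] 5 [(1, [1]), (1, [0, 1]), (1, [0, 0, 1]), (1, [0, 0, 0, 0, 1]), (1, [0, 0, 0, 0, 0, 0, 1]), (1, [0, 0, 0, 0, 0, 0, 0, 0, 1]), (1, [0, 0, 0, 0, 0, 0, 0, 0, -1, -1]), (1, [0, 0, 0, 0, 0, 0, 0, 0, 0, 0, 1])]),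
  ([(0, 1), (2, 37), (3, 15), (4, 17), (5, 157)], .next 6 [(21, [], 286), (236, [], 287)]),
  ([(0, 1), (2, 37), (3, 15), (4, 17), (5, 157), (6, 21)], .rep [2, 126, 27, 91] 5 [(1, [1]), (1, [0, 1]), (1, [0, 0, 1]), (1, [0, 0, 0, 0, 1]), (1, [0, 0, 0, 0, 0, 0, 1]), (1, [0, 0, 0, 0, 0, 0, 0, 0, 1]), (1, [0, 0, 0, 0, 0, 0, 0, 0, 0, 0, 1]), (2, [-1, -2, -3, 0, -2, 0, -1, 0, -1, -1])]),
  ([(0, 1), (2, 37), (3, 15), (4, 17), (5, 157), (6, 236)], .rep [7, 113, 1] 7 [(1, [1]), (1, [0, 1]), (1, [0, 0, 1]), (1, [0, 0, 0, 0, 1]), (1, [0, 0, 0, 0, 0, 0, 1]), (1, [0, 0, 0, 0, 0, 0, 0, 0, 1]), (1, [0, 0, 0, 0, 0, 0, 0, 0, 0, 0, 1]), (2, [-1, -2, -3, 0, -2, 0, -1, 0, -1, -1])]),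
  ([(0, 1), (2, 37), (3, 15), (4, 17), (5, 164)], .next 6 [(6, [], 289), (139, [], 290)]),
  ([(0, 1), (2, 37), (3, 15), (4, 17), (5, 164), (6, 6)], .rep [78, 2, 33, 67, 73] 7 [(1, [1]), (1, [0, 1]), (1, [0, 0, 1]), (1, [0, 0, 0, 0, 1]), (1, [0, 0, 0, 0, 0, 0, 1]), (1, [0, 0, 0, 0, 0, 0, 0, 0, 1]), (1, [0, 0, 0, 0, 0, 0, 0, 0, 0, 0, 1]), (2, [-1, -2, -3, 0, -2, 0, -1, 0, -1, -1, -1])]),
  ([(0, 1), (2, 37), (3, 15), (4, 17), (5, 164), (6, 139)], .none 7 2 [-1, -2, -3, 0, -2, 0, -1, 0, -1, -1, -1] 3),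
  ([(0, 1), (2, 37), (3, 15), (4, 34)], .next 6 [(36, [], 292), (157, [], 294), (234, [], 295)]),
  ([(0, 1), (2, 37), (3, 15), (4, 34), (6, 36)], .next 7 [(22, [], 293)]),
  ([(0, 1), (2, 37), (3, 15), (4, 34), (6, 36), (7, 22)], .rep [2, 16, 53, 57] 5 [(1, [1]), (1, [0, 1]), (1, [0, 0, 1]), (1, [0, 0, 0, 0, 1]), (1, [0, 0, 0, 0, 0, 0, 1]), (1, [0, 0, 0, 0, 0, 0, -1, -1]), (1, [0, 0, 0, 0, 0, 0, 0, 0, 1]), (1, [0, 0, 0, 0, 0, 0, 0, 0, 0, 0, 1])]),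
  ([(0, 1), (2, 37), (3, 15), (4, 34), (6, 157)], .none 7 2 [-1, -2, -3, 0, -2, 0, 0, 1, 0, -1] 3),
  ([(0, 1), (2, 37), (3, 15), (4, 34), (6, 234)], .rep [20, 30, 33, 73, 221] 7 [(1, [1]), (1, [0, 1]), (1, [0, 0, 1]), (1, [0, 0, 0, 0, 1]), (1, [0, 0, 0, 0, 0, 0, 1]), (1, [0, 0, 0, 0, 0, 0, -1, -1]), (1, [0, 0, 0, 0, 0, 0, 0, 0, 1]), (3, [-2, -4, -6, 0, -5, 0, -2, 2, -1, 1])]),
  ([(0, 1), (2, 37), (3, 15), (4, 161)], .next 5 [(6, [(238, 0)], 297)]),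
  ([(0, 1), (2, 37), (3, 15), (4, 161), (5, 6)], .rep [78, 238, 30, 49, 39, 206] 7 [(1, [1]), (1, [0, 1]), (1, [0, 0, 1]), (1, [0, 0, 0, 0, 1]), (1, [0, 0, 0, 0, 0, 0, 1]), (1, [0, 0, 0, 0, 0, 0, 0, 0, 1]), (1, [0, 0, 0, 0, 0, 0, 0, 0, 0, 1]), (1, [-1, -2, -3, 0, -3, 0, -2, 1, -1])]),
  ([(0, 1), (2, 37), (3, 22)], .next 4 [(139, [], 299), (151, [(6, 0), (236, 0)], 304)]),
  ([(0, 1), (2, 37), (3, 22), (4, 139)], .next 5 [(5, [], 300), (20, [(238, 0)], 303)]),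
  ([(0, 1), (2, 37), (3, 22), (4, 139), (5, 5)], .next 6 [(6, [], 301), (237, [], 302)]),
  ([(0, 1), (2, 37), (3, 22), (4, 139), (5, 5), (6, 6)], .rep [35, 224, 30, 113, 0, 24] 6 [(1, [1]), (1, [0, 1]), (1, [0, 0, 1]), (1, [0, 0, 0, 0, 1]), (1, [0, 0, 0, 0, 0, 0, 1]), (1, [0, 0, 0, 0, 0, 0, 0, 0, 1]), (1, [0, 0, 0, 0, 0, 0, 0, 0, 0, 0, 1]), (1, [0, 0, 0, 0, 0, -1])]),
  ([(0, 1), (2, 37), (3, 22), (4, 139), (5, 5), (6, 237)], .rep [18, 30, 113, 0, 54] 9 [(1, [1]), (1, [0, 1]), (1, [0, 0, 1]), (1, [0, 0, 0, 0, 1]), (1, [0, 0, 0, 0, 0, 0, 1]), (1, [0, 0, 0, 0, 0, 0, 0, 0, 1]), (1, [0, 0, 0, 0, 0, 0, 0, 0, 0, 0, 1]), (1, [0, 0, 0, 0, 0, -1])]),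
  ([(0, 1), (2, 37), (3, 22), (4, 139), (5, 20)], .rep [31, 111, 170, 46, 49, 0, 24] 9 [(1, [1]), (1, [0, 1]), (1, [0, 0, 1]), (1, [0, 0, 0, 0, 1]), (1, [0, 0, 0, 0, 0, 0, 1]), (1, [0, 0, 0, 0, 0, 0, 0, 0, 1]), (1, [0, 0, 0, 0, 0, 0, 0, 0, -1, 1]), (1, [0, 0, 0, 0, 0, -1])]),
  ([(0, 1), (2, 37), (3, 22), (4, 151)], .next 6 [(20, [], 305), (235, [], 306)]),
  ([(0, 1), (2, 37), (3, 22), (4, 151), (6, 20)], .rep [99, 35, 207, 3, 7, 0, 24] 9 [(1, [1]), (1, [0, 1]), (1, [0, 0, 1]), (1, [0, 0, 0, 0, 1]), (1, [0, 0, 0, 0, 0, 0, 1]), (1, [-1, -2, -3, 0, -2, 2, -1, 1]), (1, [0, 0, 0, 0, 0, 0, 0, 0, 1]), (1, [0, 0, 0, 0, 0, -1])]),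
  ([(0, 1), (2, 37), (3, 22), (4, 151), (6, 235)], .rep [35, 207, 2, 150, 27, 117] 7 [(1, [1]), (1, [0, 1]), (1, [0, 0, 1]), (1, [0, 0, 0, 0, 1]), (1, [0, 0, 0, 0, 0, 0, 1]), (1, [-1, -2, -3, 0, -2, 2, -1, 1]), (1, [0, 0, 0, 0, 0, 0, 0, 0, 1]), (1, [0, 0, 0, 0, 0, -1])]),
  ([(0, 1), (2, 37), (3, 32)], .next 5 [(34, [], 308), (50, [(238, 0)], 313), (167, [], 315), (174, [(238, 0)], 318)]),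
  ([(0, 1), (2, 37), (3, 32), (5, 34)], .next 6 [(21, [], 309), (146, [], 311), (236, [], 312)]),
  ([(0, 1), (2, 37), (3, 32), (5, 34), (6, 21)], .next 7 [(22, [], 310)]),
  ([(0, 1), (2, 37), (3, 32), (5, 34), (6, 21), (7, 22)], .rep [13, 16, 1] 5 [(1, [1]), (1, [0, 1]), (1, [0, 0, 1]), (1, [0, 0, 0, 0, 1]), (1, [0, 0, 0, 0, -1, -1]), (1, [0, 0, 0, 0, 0, 0, 1]), (1, [0, 0, 0, 0, 0, 0, 0, 0, 1]), (1, [0, 0, 0, 0, 0, 0, 0, 0, 0, 0, 1])]),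
  ([(0, 1), (2, 37), (3, 32), (5, 34), (6, 146)], .none 7 2 [-1, -2, -3, 0, -1, 1, 0, 0, 0, -1] 3),
  ([(0, 1), (2, 37), (3, 32), (5, 34), (6, 236)], .rep [13, 16, 1] 7 [(1, [1]), (1, [0, 1]), (1, [0, 0, 1]), (1, [0, 0, 0, 0, 1]), (1, [0, 0, 0, 0, -1, -1]), (1, [0, 0, 0, 0, 0, 0, 1]), (1, [0, 0, 0, 0, 0, 0, 0, 0, 1]), (3, [-2, -4, -6, 0, -1, 4, -3, 0, -1, 1])]),
  ([(0, 1), (2, 37), (3, 32), (5, 50)], .next 7 [(22, [], 314)]),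
  ([(0, 1), (2, 37), (3, 32), (5, 50), (7, 22)], .rep [236, 2, 3, 38, 42] 7 [(1, [1]), (1, [0, 1]), (1, [0, 0, 1]), (1, [0, 0, 0, 0, 1]), (1, [0, 0, 0, 0, -1, -1]), (1, [0, 0, 0, 0, 0, 0, 1]), (1, [0, 0, 0, 0, 1, 1, -1, -1]), (1, [0, 0, 0, 0, 0, 0, 0, 0, 1])]),
  ([(0, 1), (2, 37), (3, 32), (5, 167)], .next 6 [(21, [], 316), (236, [], 317)]),
  ([(0, 1), (2, 37), (3, 32), (5, 167), (6, 21)], .rep [20, 232, 2, 126, 27, 91] 7 [(1, [1]), (1, [0, 1]), (1, [0, 0, 1]), (1, [0, 0, 0, 0, 1]), (1, [0, 0, 0, 0, -1, -1]), (1, [0, 0, 0, 0, 0, 0, 1]), (1, [0, 0, 0, 0, 0, 0, 0, 0, 1]), (2, [-1, -2, -3, 0, 0, 2, -1, -1])]),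
  ([(0, 1), (2, 37), (3, 32), (5, 167), (6, 236)], .rep [5, 162, 6, 207, 0, 83] 9 [(1, [1]), (1, [0, 1]), (1, [0, 0, 1]), (1, [0, 0, 0, 0, 1]), (1, [0, 0, 0, 0, -1, -1]), (1, [0, 0, 0, 0, 0, 0, 1]), (1, [0, 0, 0, 0, 0, 0, 0, 0, 1]), (2, [-1, -2, -3, 0, 0, 2, -1, -1])]),
  ([(0, 1), (2, 37), (3, 32), (5, 174)], .next 6 [(6, [], 319), (139, [], 320)]),
  ([(0, 1), (2, 37), (3, 32), (5, 174), (6, 6)], .rep [85, 162, 168, 2, 126, 27, 141] 9 [(1, [1]), (1, [0, 1]), (1, [0, 0, 1]), (1, [0, 0, 0, 0, 1]), (1, [0, 0, 0, 0, -1, -1]), (1, [0, 0, 0, 0, 0, 0, 1]), (1, [0, 0, 0, 0, 0, 0, 0, 0, 1]), (2, [-1, -2, -3, 0, 0, 2, -1, -1, -1])])]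

/-- Part 5. -/
def invTree5 : List Node := [
  ([(0, 1), (2, 37), (3, 32), (5, 174), (6, 139)], .none 7 2 [-1, -2, -3, 0, 0, 2, -1, -1, -1] 3),
  ([(0, 1), (2, 51)], .next 4 [(32, [], 322), (48, [(6, 0), (139, 0), (236, 0), (139, 1), (236, 2)], 336), (150, [(6, 0), (236, 0)], 341)]),
  ([(0, 1), (2, 51), (4, 32)], .next 5 [(19, [], 323), (36, [(238, 0)], 328), (157, [], 330), (164, [(238, 0)], 333)]),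
  ([(0, 1), (2, 51), (4, 32), (5, 19)], .next 6 [(21, [], 324), (146, [], 326), (236, [], 327)]),
  ([(0, 1), (2, 51), (4, 32), (5, 19), (6, 21)], .next 7 [(22, [], 325)]),
  ([(0, 1), (2, 51), (4, 32), (5, 19), (6, 21), (7, 22)], .rep [2, 13, 1] 5 [(1, [1]), (1, [0, 1]), (1, [0, 0, 1]), (1, [-1, -1, -1, -1]), (1, [0, 0, 0, 0, 1]), (1, [0, 0, 0, 0, 0, 0, 1]), (1, [0, 0, 0, 0, 0, 0, 0, 0, 1]), (1, [0, 0, 0, 0, 0, 0, 0, 0, 0, 0, 1])]),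
  ([(0, 1), (2, 51), (4, 32), (5, 19), (6, 146)], .none 7 2 [1, 0, -1, 2, -1, 0, 0, 0, 0, -1] 3),
  ([(0, 1), (2, 51), (4, 32), (5, 19), (6, 236)], .rep [238, 49, 228, 24, 26] 7 [(1, [1]), (1, [0, 1]), (1, [0, 0, 1]), (1, [-1, -1, -1, -1]), (1, [0, 0, 0, 0, 1]), (1, [0, 0, 0, 0, 0, 0, 1]), (1, [0, 0, 0, 0, 0, 0, 0, 0, 1]), (3, [3, 1, -1, 5, -4, 0, -3, 0, -1, 1])]),
  ([(0, 1), (2, 51), (4, 32), (5, 36)], .next 7 [(22, [], 329)]),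
  ([(0, 1), (2, 51), (4, 32), (5, 36), (7, 22)], .rep [35, 236, 2, 33, 67, 73] 7 [(1, [1]), (1, [0, 1]), (1, [0, 0, 1]), (1, [-1, -1, -1, -1]), (1, [0, 0, 0, 0, 1]), (1, [0, 0, 0, 0, 0, 0, 1]), (1, [0, 0, 0, 0, 0, 0, -1, -1]), (1, [0, 0, 0, 0, 0, 0, 0, 0, 1])]),
  ([(0, 1), (2, 51), (4, 32), (5, 157)], .next 6 [(21, [], 331), (236, [], 332)]),
  ([(0, 1), (2, 51), (4, 32), (5, 157), (6, 21)], .rep [20, 184, 2, 13, 1] 7 [(1, [1]), (1, [0, 1]), (1, [0, 0, 1]), (1, [-1, -1, -1, -1]), (1, [0, 0, 0, 0, 1]), (1, [0, 0, 0, 0, 0, 0, 1]), (1, [0, 0, 0, 0, 0, 0, 0, 0, 1]), (2, [1, 0, -1, 2, -1, 0, -1, -1])]),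
  ([(0, 1), (2, 51), (4, 32), (5, 157), (6, 236)], .rep [5, 162, 6, 207, 16, 0, 83] 9 [(1, [1]), (1, [0, 1]), (1, [0, 0, 1]), (1, [-1, -1, -1, -1]), (1, [0, 0, 0, 0, 1]), (1, [0, 0, 0, 0, 0, 0, 1]), (1, [0, 0, 0, 0, 0, 0, 0, 0, 1]), (2, [1, 0, -1, 2, -1, 0, -1, -1])]),
  ([(0, 1), (2, 51), (4, 32), (5, 164)], .next 6 [(6, [], 334), (139, [], 335)]),
  ([(0, 1), (2, 51), (4, 32), (5, 164), (6, 6)], .rep [31, 85, 122, 207, 2, 16, 217] 9 [(1, [1]), (1, [0, 1]), (1, [0, 0, 1]), (1, [-1, -1, -1, -1]), (1, [0, 0, 0, 0, 1]), (1, [0, 0, 0, 0, 0, 0, 1]), (1, [0, 0, 0, 0, 0, 0, 0, 0, 1]), (2, [1, 0, -1, 2, -1, 0, -1, -1, -1])]),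
  ([(0, 1), (2, 51), (4, 32), (5, 164), (6, 139)], .none 7 2 [1, 0, -1, 2, -1, 0, -1, -1, -1] 3),
  ([(0, 1), (2, 51), (4, 48)], .next 6 [(36, [], 337), (157, [], 339), (234, [], 340)]),
  ([(0, 1), (2, 51), (4, 48), (6, 36)], .next 7 [(22, [], 338)]),
  ([(0, 1), (2, 51), (4, 48), (6, 36), (7, 22)], .rep [20, 236, 30, 33, 24, 26] 7 [(1, [1]), (1, [0, 1]), (1, [0, 0, 1]), (1, [-1, -1, -1, -1]), (1, [0, 0, 0, 0, 1]), (1, [1, 1, 1, 1, -1, -1]), (1, [0, 0, 0, 0, 0, 0, 1]), (1, [0, 0, 0, 0, 0, 0, 0, 0, 1])]),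
  ([(0, 1), (2, 51), (4, 48), (6, 157)], .none 7 2 [0, -1, -2, 1, 0, 1, 0, -1] 3),
  ([(0, 1), (2, 51), (4, 48), (6, 234)], .rep [47, 111, 6, 184, 30, 113, 117] 9 [(1, [1]), (1, [0, 1]), (1, [0, 0, 1]), (1, [-1, -1, -1, -1]), (1, [0, 0, 0, 0, 1]), (1, [1, 1, 1, 1, -1, -1]), (1, [0, 0, 0, 0, 0, 0, 1]), (3, [1, -1, -3, 3, -2, 2, -1, 1])]),
  ([(0, 1), (2, 51), (4, 150)], .next 5 [(6, [(238, 0)], 342)]),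
  ([(0, 1), (2, 51), (4, 150), (5, 6)], .rep [85, 78, 236, 124, 221] 9 [(1, [1]), (1, [0, 1]), (1, [0, 0, 1]), (1, [-1, -1, -1, -1]), (1, [0, 0, 0, 0, 1]), (1, [0, 0, 0, 0, 0, 0, 1]), (1, [0, 0, 0, 0, 0, 0, 0, 1]), (1, [1, 0, -1, 2, -2, 1, -1])]),
  ([(0, 1), (2, 59)], .next 3 [(4, [(5, 0), (20, 0), (234, 0)], 344), (146, [(5, 0), (20, 0), (234, 0)], 349)]),
  ([(0, 1), (2, 59), (3, 4)], .next 5 [(166, [], 345), (172, [(238, 0)], 348)]),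
  ([(0, 1), (2, 59), (3, 4), (5, 166)], .next 6 [(21, [], 346), (236, [], 347)]),
  ([(0, 1), (2, 59), (3, 4), (5, 166), (6, 21)], .rep [35, 224, 2, 24, 42] 7 [(1, [1]), (1, [0, 1]), (1, [0, 0, 1]), (1, [0, 0, 0, 0, 1]), (1, [0, 0, 0, 0, 0, 1]), (1, [0, 0, 0, 0, 0, 0, 1]), (1, [0, 0, 0, 0, 0, 0, 0, 0, 1]), (1, [0, -1, -2, 1, -1])]),
  ([(0, 1), (2, 59), (3, 4), (5, 166), (6, 236)], .rep [168, 236, 7, 138, 105] 9 [(1, [1]), (1, [0, 1]), (1, [0, 0, 1]), (1, [0, 0, 0, 0, 1]), (1, [0, 0, 0, 0, 0, 1]), (1, [0, 0, 0, 0, 0, 0, 1]), (1, [0, 0, 0, 0, 0, 0, 0, 0, 1]), (1, [0, -1, -2, 1, -1])]),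
  ([(0, 1), (2, 59), (3, 4), (5, 172)], .rep [5, 31, 122, 3, 160, 0, 54] 9 [(1, [1]), (1, [0, 1]), (1, [0, 0, 1]), (1, [0, 0, 0, 0, 1]), (1, [0, 0, 0, 0, 0, 1]), (1, [0, 0, 0, 0, 0, 0, 1]), (1, [-1, -1, -1, -1, -2, -2, -1, -1]), (1, [0, -1, -2, 1, -1])]),
  ([(0, 1), (2, 59), (3, 146)], .next 5 [(161, [], 350), (168, [(238, 0)], 353)]),
  ([(0, 1), (2, 59), (3, 146), (5, 161)], .next 6 [(6, [], 351), (237, [], 352)]),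
  ([(0, 1), (2, 59), (3, 146), (5, 161), (6, 6)], .rep [20, 207, 3, 7, 0, 53] 6 [(1, [1]), (1, [0, 1]), (1, [0, 0, 1]), (1, [0, 0, 0, 0, 1]), (1, [-1, 0, 1, -2, 0, -1]), (1, [0, 0, 0, 0, 0, 0, 1]), (1, [0, 0, 0, 0, 0, 0, 0, 0, 1]), (1, [0, -1, -2, 1, -1])]),
  ([(0, 1), (2, 59), (3, 146), (5, 161), (6, 237)], .rep [47, 168, 178, 49, 228, 0, 54] 9 [(1, [1]), (1, [0, 1]), (1, [0, 0, 1]), (1, [0, 0, 0, 0, 1]), (1, [-1, 0, 1, -2, 0, -1]), (1, [0, 0, 0, 0, 0, 0, 1]), (1, [0, 0, 0, 0, 0, 0, 0, 0, 1]), (1, [0, -1, -2, 1, -1])]),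
  ([(0, 1), (2, 59), (3, 146), (5, 168)], .rep [18, 99, 236, 13, 14, 91] 9 [(1, [1]), (1, [0, 1]), (1, [0, 0, 1]), (1, [0, 0, 0, 0, 1]), (1, [-1, 0, 1, -2, 0, -1]), (1, [0, 0, 0, 0, 0, 0, 1]), (1, [1, -1, -3, 3, -2, 2, -1, 1]), (1, [0, -1, -2, 1, -1])]),
  ([(0, 2)], .next 1 [(1, [], 355), (37, [], 401), (43, [(4, 0), (18, 0), (35, 0), (139, 0), (151, 0), (159, 0), (184, 0), (232, 0), (139, 1)], 447)]),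
  ([(0, 2), (1, 1)], .next 3 [(51, [], 356), (52, [(139, 0), (151, 0), (159, 0), (184, 0)], 378), (65, [(5, 0), (20, 0), (151, 0), (159, 0), (184, 0), (234, 0), (159, 1), (184, 1), (184, 2)], 387)]),
  ([(0, 2), (1, 1), (3, 51)], .next 4 [(17, [], 357), (34, [(6, 0), (139, 0), (236, 0), (139, 1), (236, 2)], 371), (161, [(6, 0), (236, 0)], 376)]),
  ([(0, 2), (1, 1), (3, 51), (4, 17)], .next 5 [(19, [], 358), (36, [(238, 0)], 363), (157, [], 365), (164, [(238, 0)], 368)]),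
  ([(0, 2), (1, 1), (3, 51), (4, 17), (5, 19)], .next 6 [(21, [], 359), (146, [], 361), (236, [], 362)]),
  ([(0, 2), (1, 1), (3, 51), (4, 17), (5, 19), (6, 21)], .next 7 [(52, [], 360)]),
  ([(0, 2), (1, 1), (3, 51), (4, 17), (5, 19), (6, 21), (7, 52)], .rep [2, 11] 5 [(1, [1]), (1, [0, 0, 1]), (1, [0, 1]), (1, [0, 0, 0, 0, 1]), (1, [0, 0, 0, 0, 0, 0, 1]), (1, [0, 0, 0, 0, 0, 0, 0, 0, 1]), (1, [0, 0, 0, 0, 0, 0, 0, 0, 0, 0, 1]), (1, [0, 0, 0, 0, 0, 0, 0, 0, 0, 0, 0, 0, 1])]),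
  ([(0, 2), (1, 1), (3, 51), (4, 17), (5, 19), (6, 146)], .none 7 2 [-1, -3, -2, 0, -2, 0, -1, 0, 0, 0, 0, -1] 3),
  ([(0, 2), (1, 1), (3, 51), (4, 17), (5, 19), (6, 236)], .rep [2, 49, 73, 221] 7 [(1, [1]), (1, [0, 0, 1]), (1, [0, 1]), (1, [0, 0, 0, 0, 1]), (1, [0, 0, 0, 0, 0, 0, 1]), (1, [0, 0, 0, 0, 0, 0, 0, 0, 1]), (1, [0, 0, 0, 0, 0, 0, 0, 0, 0, 0, 1]), (3, [-2, -6, -4, 0, -5, 0, -4, 0, -3, 0, -1, 1])]),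
  ([(0, 2), (1, 1), (3, 51), (4, 17), (5, 36)], .next 7 [(52, [], 364)]),
  ([(0, 2), (1, 1), (3, 51), (4, 17), (5, 36), (7, 52)], .rep [236, 2, 49, 67, 73] 7 [(1, [1]), (1, [0, 0, 1]), (1, [0, 1]), (1, [0, 0, 0, 0, 1]), (1, [0, 0, 0, 0, 0, 0, 1]), (1, [0, 0, 0, 0, 0, 0, 0, 0, 1]), (1, [0, 0, 0, 0, 0, 0, 0, 0, -1, -1]), (1, [0, 0, 0, 0, 0, 0, 0, 0, 0, 0, 1])]),
  ([(0, 2), (1, 1), (3, 51), (4, 17), (5, 157)], .next 6 [(21, [], 366), (236, [], 367)]),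
  ([(0, 2), (1, 1), (3, 51), (4, 17), (5, 157), (6, 21)], .rep [20, 184, 7, 113, 0, 9] 7 [(1, [1]), (1, [0, 0, 1]), (1, [0, 1]), (1, [0, 0, 0, 0, 1]), (1, [0, 0, 0, 0, 0, 0, 1]), (1, [0, 0, 0, 0, 0, 0, 0, 0, 1]), (1, [0, 0, 0, 0, 0, 0, 0, 0, 0, 0, 1]), (2, [-1, -3, -2, 0, -2, 0, -1, 0, -1, -1])]),
  ([(0, 2), (1, 1), (3, 51), (4, 17), (5, 157), (6, 236)], .rep [31, 85, 122, 236, 3, 138, 0, 98] 9 [(1, [1]), (1, [0, 0, 1]), (1, [0, 1]), (1, [0, 0, 0, 0, 1]), (1, [0, 0, 0, 0, 0, 0, 1]), (1, [0, 0, 0, 0, 0, 0, 0, 0, 1]), (1, [0, 0, 0, 0, 0, 0, 0, 0, 0, 0, 1]), (2, [-1, -3, -2, 0, -2, 0, -1, 0, -1, -1])]),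
  ([(0, 2), (1, 1), (3, 51), (4, 17), (5, 164)], .next 6 [(6, [], 369), (139, [], 370)]),
  ([(0, 2), (1, 1), (3, 51), (4, 17), (5, 164), (6, 6)], .rep [85, 162, 122, 232, 14, 228, 38, 42] 9 [(1, [1]), (1, [0, 0, 1]), (1, [0, 1]), (1, [0, 0, 0, 0, 1]), (1, [0, 0, 0, 0, 0, 0, 1]), (1, [0, 0, 0, 0, 0, 0, 0, 0, 1]), (1, [0, 0, 0, 0, 0, 0, 0, 0, 0, 0, 1]), (2, [-1, -3, -2, 0, -2, 0, -1, 0, -1, -1, -1])]),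
  ([(0, 2), (1, 1), (3, 51), (4, 17), (5, 164), (6, 139)], .none 7 2 [-1, -3, -2, 0, -2, 0, -1, 0, -1, -1, -1] 3),
  ([(0, 2), (1, 1), (3, 51), (4, 34)], .next 6 [(36, [], 372), (157, [], 374), (234, [], 375)]),
  ([(0, 2), (1, 1), (3, 51), (4, 34), (6, 36)], .next 7 [(52, [], 373)]),
  ([(0, 2), (1, 1), (3, 51), (4, 34), (6, 36), (7, 52)], .rep [20, 236, 30, 53, 57] 7 [(1, [1]), (1, [0, 0, 1]), (1, [0, 1]), (1, [0, 0, 0, 0, 1]), (1, [0, 0, 0, 0, 0, 0, 1]), (1, [0, 0, 0, 0, 0, 0, -1, -1]), (1, [0, 0, 0, 0, 0, 0, 0, 0, 1]), (1, [0, 0, 0, 0, 0, 0, 0, 0, 0, 0, 1])]),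
  ([(0, 2), (1, 1), (3, 51), (4, 34), (6, 157)], .none 7 2 [-1, -3, -2, 0, -2, 0, 0, 1, 0, -1] 3),
  ([(0, 2), (1, 1), (3, 51), (4, 34), (6, 234)], .rep [47, 35, 207, 3, 27, 117] 9 [(1, [1]), (1, [0, 0, 1]), (1, [0, 1]), (1, [0, 0, 0, 0, 1]), (1, [0, 0, 0, 0, 0, 0, 1]), (1, [0, 0, 0, 0, 0, 0, -1, -1]), (1, [0, 0, 0, 0, 0, 0, 0, 0, 1]), (3, [-2, -6, -4, 0, -5, 0, -2, 2, -1, 1])]),
  ([(0, 2), (1, 1), (3, 51), (4, 161)], .next 5 [(6, [(238, 0)], 377)]),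
  ([(0, 2), (1, 1), (3, 51), (4, 161), (5, 6)], .rep [85, 122, 236, 3, 228, 0, 98] 9 [(1, [1]), (1, [0, 0, 1]), (1, [0, 1]), (1, [0, 0, 0, 0, 1]), (1, [0, 0, 0, 0, 0, 0, 1]), (1, [0, 0, 0, 0, 0, 0, 0, 0, 1]), (1, [0, 0, 0, 0, 0, 0, 0, 0, 0, 1]), (1, [-1, -3, -2, 0, -3, 0, -2, 1, -1])]),
  ([(0, 2), (1, 1), (3, 52)], .next 4 [(139, [], 379), (151, [(6, 0), (236, 0)], 384)]),
  ([(0, 2), (1, 1), (3, 52), (4, 139)], .next 5 [(5, [], 380), (20, [(238, 0)], 383)]),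
  ([(0, 2), (1, 1), (3, 52), (4, 139), (5, 5)], .next 6 [(6, [], 381), (237, [], 382)]),
  ([(0, 2), (1, 1), (3, 52), (4, 139), (5, 5), (6, 6)], .rep [2, 0, 69] 4 [(1, [1]), (1, [0, 0, 1]), (1, [0, 1]), (1, [0, 0, 0, 0, 1]), (1, [0, 0, 0, 0, 0, 0, 1]), (1, [0, 0, 0, 0, 0, 0, 0, 0, 1]), (1, [0, 0, 0, 0, 0, 0, 0, 0, 0, 0, 1]), (1, [-1, -1, -1, 0, 0, -1])]),
  ([(0, 2), (1, 1), (3, 52), (4, 139), (5, 5), (6, 237)], .rep [200, 73, 221] 6 [(1, [1]), (1, [0, 0, 1]), (1, [0, 1]), (1, [0, 0, 0, 0, 1]), (1, [0, 0, 0, 0, 0, 0, 1]), (1, [0, 0, 0, 0, 0, 0, 0, 0, 1]), (1, [0, 0, 0, 0, 0, 0, 0, 0, 0, 0, 1]), (1, [-1, -1, -1, 0, 0, -1])]),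
  ([(0, 2), (1, 1), (3, 52), (4, 139), (5, 20)], .rep [236, 2, 0, 69] 6 [(1, [1]), (1, [0, 0, 1]), (1, [0, 1]), (1, [0, 0, 0, 0, 1]), (1, [0, 0, 0, 0, 0, 0, 1]), (1, [0, 0, 0, 0, 0, 0, 0, 0, 1]), (1, [0, 0, 0, 0, 0, 0, 0, 0, -1, 1]), (1, [-1, -1, -1, 0, 0, -1])])]

/-- Part 6. -/
def invTree6 : List Node := [
  ([(0, 2), (1, 1), (3, 52), (4, 151)], .next 6 [(20, [], 385), (235, [], 386)]),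
  ([(0, 2), (1, 1), (3, 52), (4, 151), (6, 20)], .rep [6, 234, 113, 53, 57] 6 [(1, [1]), (1, [0, 0, 1]), (1, [0, 1]), (1, [0, 0, 0, 0, 1]), (1, [0, 0, 0, 0, 0, 0, 1]), (1, [1, -1, 0, 0, -2, 2, -1, 1]), (1, [0, 0, 0, 0, 0, 0, 0, 0, 1]), (1, [-1, -1, -1, 0, 0, -1])]),
  ([(0, 2), (1, 1), (3, 52), (4, 151), (6, 235)], .rep [99, 6, 234, 49, 228, 43] 9 [(1, [1]), (1, [0, 0, 1]), (1, [0, 1]), (1, [0, 0, 0, 0, 1]), (1, [0, 0, 0, 0, 0, 0, 1]), (1, [1, -1, 0, 0, -2, 2, -1, 1]), (1, [0, 0, 0, 0, 0, 0, 0, 0, 1]), (1, [-1, -1, -1, 0, 0, -1])]),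
  ([(0, 2), (1, 1), (3, 65)], .next 5 [(34, [], 388), (50, [(238, 0)], 393), (167, [], 395), (174, [(238, 0)], 398)]),
  ([(0, 2), (1, 1), (3, 65), (5, 34)], .next 6 [(21, [], 389), (146, [], 391), (236, [], 392)]),
  ([(0, 2), (1, 1), (3, 65), (5, 34), (6, 21)], .next 7 [(52, [], 390)]),
  ([(0, 2), (1, 1), (3, 65), (5, 34), (6, 21), (7, 52)], .rep [20, 232, 13, 16, 0, 9] 7 [(1, [1]), (1, [0, 0, 1]), (1, [0, 1]), (1, [0, 0, 0, 0, 1]), (1, [-1, -1, -1, 0, -1, -1]), (1, [0, 0, 0, 0, 0, 0, 1]), (1, [0, 0, 0, 0, 0, 0, 0, 0, 1]), (1, [0, 0, 0, 0, 0, 0, 0, 0, 0, 0, 1])]),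
  ([(0, 2), (1, 1), (3, 65), (5, 34), (6, 146)], .none 7 2 [0, -2, -1, 0, -1, 1, 0, 0, 0, -1] 3),
  ([(0, 2), (1, 1), (3, 65), (5, 34), (6, 236)], .rep [5, 31, 6, 207, 33, 27, 91] 9 [(1, [1]), (1, [0, 0, 1]), (1, [0, 1]), (1, [0, 0, 0, 0, 1]), (1, [-1, -1, -1, 0, -1, -1]), (1, [0, 0, 0, 0, 0, 0, 1]), (1, [0, 0, 0, 0, 0, 0, 0, 0, 1]), (3, [2, -2, 0, 0, -1, 4, -3, 0, -1, 1])]),
  ([(0, 2), (1, 1), (3, 65), (5, 50)], .next 7 [(52, [], 394)]),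
  ([(0, 2), (1, 1), (3, 65), (5, 50), (7, 52)], .rep [162, 159, 234, 7, 113, 0, 220] 9 [(1, [1]), (1, [0, 0, 1]), (1, [0, 1]), (1, [0, 0, 0, 0, 1]), (1, [-1, -1, -1, 0, -1, -1]), (1, [0, 0, 0, 0, 0, 0, 1]), (1, [1, 1, 1, 0, 1, 1, -1, -1]), (1, [0, 0, 0, 0, 0, 0, 0, 0, 1])]),
  ([(0, 2), (1, 1), (3, 65), (5, 167)], .next 6 [(21, [], 396), (236, [], 397)]),
  ([(0, 2), (1, 1), (3, 65), (5, 167), (6, 21)], .rep [178, 30, 26, 129] 8 [(1, [1]), (1, [0, 0, 1]), (1, [0, 1]), (1, [0, 0, 0, 0, 1]), (1, [-1, -1, -1, 0, -1, -1]), (1, [0, 0, 0, 0, 0, 0, 1]), (1, [0, 0, 0, 0, 0, 0, 0, 0, 1]), (2, [1, -1, 0, 0, 0, 2, -1, -1])]),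
  ([(0, 2), (1, 1), (3, 65), (5, 167), (6, 236)], .rep [6, 178, 3, 138, 74] 6 [(1, [1]), (1, [0, 0, 1]), (1, [0, 1]), (1, [0, 0, 0, 0, 1]), (1, [-1, -1, -1, 0, -1, -1]), (1, [0, 0, 0, 0, 0, 0, 1]), (1, [0, 0, 0, 0, 0, 0, 0, 0, 1]), (2, [1, -1, 0, 0, 0, 2, -1, -1])]),
  ([(0, 2), (1, 1), (3, 65), (5, 174)], .next 6 [(6, [], 399), (139, [], 400)]),
  ([(0, 2), (1, 1), (3, 65), (5, 174), (6, 6)], .rep [168, 113, 27, 141] 6 [(1, [1]), (1, [0, 0, 1]), (1, [0, 1]), (1, [0, 0, 0, 0, 1]), (1, [-1, -1, -1, 0, -1, -1]), (1, [0, 0, 0, 0, 0, 0, 1]), (1, [0, 0, 0, 0, 0, 0, 0, 0, 1]), (2, [1, -1, 0, 0, 0, 2, -1, -1, -1])]),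
  ([(0, 2), (1, 1), (3, 65), (5, 174), (6, 139)], .none 7 2 [1, -1, 0, 0, 0, 2, -1, -1, -1] 3),
  ([(0, 2), (1, 37)], .next 3 [(26, [], 402), (27, [(139, 0), (151, 0), (159, 0), (184, 0)], 424), (42, [(5, 0), (20, 0), (151, 0), (159, 0), (184, 0), (234, 0), (159, 1), (184, 1), (184, 2)], 433)]),
  ([(0, 2), (1, 37), (3, 26)], .next 4 [(4, [], 403), (18, [(6, 0), (139, 0), (236, 0), (139, 1), (236, 2)], 417), (166, [(6, 0), (236, 0)], 422)]),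
  ([(0, 2), (1, 37), (3, 26), (4, 4)], .next 5 [(5, [], 404), (20, [(238, 0)], 409), (151, [], 411), (159, [(238, 0)], 414)]),
  ([(0, 2), (1, 37), (3, 26), (4, 4), (5, 5)], .next 6 [(6, [], 405), (139, [], 407), (237, [], 408)]),
  ([(0, 2), (1, 37), (3, 26), (4, 4), (5, 5), (6, 6)], .next 7 [(27, [], 406)]),
  ([(0, 2), (1, 37), (3, 26), (4, 4), (5, 5), (6, 6), (7, 27)], .rep [2, 0, 24] 4 [(1, [1]), (1, [0, 0, 1]), (1, [0, 1]), (1, [0, 0, 0, 0, 1]), (1, [0, 0, 0, 0, 0, 0, 1]), (1, [0, 0, 0, 0, 0, 0, 0, 0, 1]), (1, [0, 0, 0, 0, 0, 0, 0, 0, 0, 0, 1]), (1, [0, 0, 0, 0, 0, 0, 0, 0, 0, 0, 0, 0, 1])]),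
  ([(0, 2), (1, 37), (3, 26), (4, 4), (5, 5), (6, 139)], .none 7 2 [-1, -3, -2, 0, -2, 0, -1, 0, 0, 0, 0, 1] 3),
  ([(0, 2), (1, 37), (3, 26), (4, 4), (5, 5), (6, 237)], .rep [1] 6 [(1, [1]), (1, [0, 0, 1]), (1, [0, 1]), (1, [0, 0, 0, 0, 1]), (1, [0, 0, 0, 0, 0, 0, 1]), (1, [0, 0, 0, 0, 0, 0, 0, 0, 1]), (1, [0, 0, 0, 0, 0, 0, 0, 0, 0, 0, 1]), (3, [-2, -6, -4, 0, -5, 0, -4, 0, -3, 0, -1, -1])]),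
  ([(0, 2), (1, 37), (3, 26), (4, 4), (5, 20)], .next 7 [(27, [], 410)]),
  ([(0, 2), (1, 37), (3, 26), (4, 4), (5, 20), (7, 27)], .rep [6, 238, 2, 33, 67, 73] 6 [(1, [1]), (1, [0, 0, 1]), (1, [0, 1]), (1, [0, 0, 0, 0, 1]), (1, [0, 0, 0, 0, 0, 0, 1]), (1, [0, 0, 0, 0, 0, 0, 0, 0, 1]), (1, [0, 0, 0, 0, 0, 0, 0, 0, -1, 1]), (1, [0, 0, 0, 0, 0, 0, 0, 0, 0, 0, 1])]),
  ([(0, 2), (1, 37), (3, 26), (4, 4), (5, 151)], .next 6 [(6, [], 412), (237, [], 413)]),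
  ([(0, 2), (1, 37), (3, 26), (4, 4), (5, 151), (6, 6)], .rep [20, 184, 1] 6 [(1, [1]), (1, [0, 0, 1]), (1, [0, 1]), (1, [0, 0, 0, 0, 1]), (1, [0, 0, 0, 0, 0, 0, 1]), (1, [0, 0, 0, 0, 0, 0, 0, 0, 1]), (1, [0, 0, 0, 0, 0, 0, 0, 0, 0, 0, 1]), (2, [-1, -3, -2, 0, -2, 0, -1, 0, -1, 1])]),
  ([(0, 2), (1, 37), (3, 26), (4, 4), (5, 151), (6, 237)], .rep [5, 31, 2, 0, 24] 9 [(1, [1]), (1, [0, 0, 1]), (1, [0, 1]), (1, [0, 0, 0, 0, 1]), (1, [0, 0, 0, 0, 0, 0, 1]), (1, [0, 0, 0, 0, 0, 0, 0, 0, 1]), (1, [0, 0, 0, 0, 0, 0, 0, 0, 0, 0, 1]), (2, [-1, -3, -2, 0, -2, 0, -1, 0, -1, 1])]),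
  ([(0, 2), (1, 37), (3, 26), (4, 4), (5, 159)], .next 6 [(21, [], 415), (146, [], 416)]),
  ([(0, 2), (1, 37), (3, 26), (4, 4), (5, 159), (6, 21)], .rep [111, 78, 236, 46, 49, 27, 91] 9 [(1, [1]), (1, [0, 0, 1]), (1, [0, 1]), (1, [0, 0, 0, 0, 1]), (1, [0, 0, 0, 0, 0, 0, 1]), (1, [0, 0, 0, 0, 0, 0, 0, 0, 1]), (1, [0, 0, 0, 0, 0, 0, 0, 0, 0, 0, 1]), (2, [-1, -3, -2, 0, -2, 0, -1, 0, -1, 1, -1])]),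
  ([(0, 2), (1, 37), (3, 26), (4, 4), (5, 159), (6, 146)], .none 7 2 [-1, -3, -2, 0, -2, 0, -1, 0, -1, 1, -1] 3),
  ([(0, 2), (1, 37), (3, 26), (4, 18)], .next 6 [(20, [], 418), (151, [], 420), (235, [], 421)]),
  ([(0, 2), (1, 37), (3, 26), (4, 18), (6, 20)], .next 7 [(27, [], 419)]),
  ([(0, 2), (1, 37), (3, 26), (4, 18), (6, 20), (7, 27)], .rep [20, 236, 30, 33, 0, 24] 6 [(1, [1]), (1, [0, 0, 1]), (1, [0, 1]), (1, [0, 0, 0, 0, 1]), (1, [0, 0, 0, 0, 0, 0, 1]), (1, [0, 0, 0, 0, 0, 0, -1, 1]), (1, [0, 0, 0, 0, 0, 0, 0, 0, 1]), (1, [0, 0, 0, 0, 0, 0, 0, 0, 0, 0, 1])]),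
  ([(0, 2), (1, 37), (3, 26), (4, 18), (6, 151)], .none 7 2 [-1, -3, -2, 0, -2, 0, 0, -1, 0, 1] 3),
  ([(0, 2), (1, 37), (3, 26), (4, 18), (6, 235)], .rep [99, 1] 9 [(1, [1]), (1, [0, 0, 1]), (1, [0, 1]), (1, [0, 0, 0, 0, 1]), (1, [0, 0, 0, 0, 0, 0, 1]), (1, [0, 0, 0, 0, 0, 0, -1, 1]), (1, [0, 0, 0, 0, 0, 0, 0, 0, 1]), (3, [-2, -6, -4, 0, -5, 0, -2, -2, -1, -1])]),
  ([(0, 2), (1, 37), (3, 26), (4, 166)], .next 5 [(21, [(238, 0)], 423)]),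
  ([(0, 2), (1, 37), (3, 26), (4, 166), (5, 21)], .rep [47, 162, 78, 238, 30, 49, 39, 206] 9 [(1, [1]), (1, [0, 0, 1]), (1, [0, 1]), (1, [0, 0, 0, 0, 1]), (1, [0, 0, 0, 0, 0, 0, 1]), (1, [0, 0, 0, 0, 0, 0, 0, 0, 1]), (1, [0, 0, 0, 0, 0, 0, 0, 0, 0, -1]), (1, [-1, -3, -2, 0, -3, 0, -2, -1, -1])]),
  ([(0, 2), (1, 37), (3, 27)], .next 4 [(146, [], 425), (157, [(6, 0), (236, 0)], 430)]),
  ([(0, 2), (1, 37), (3, 27), (4, 146)], .next 5 [(19, [], 426), (36, [(238, 0)], 429)]),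
  ([(0, 2), (1, 37), (3, 27), (4, 146), (5, 19)], .next 6 [(21, [], 427), (236, [], 428)]),
  ([(0, 2), (1, 37), (3, 27), (4, 146), (5, 19), (6, 21)], .rep [2, 59] 5 [(1, [1]), (1, [0, 0, 1]), (1, [0, 1]), (1, [0, 0, 0, 0, 1]), (1, [0, 0, 0, 0, 0, 0, 1]), (1, [0, 0, 0, 0, 0, 0, 0, 0, 1]), (1, [0, 0, 0, 0, 0, 0, 0, 0, 0, 0, 1]), (1, [0, -1, -1, 0, 0, 1])]),
  ([(0, 2), (1, 37), (3, 27), (4, 146), (5, 19), (6, 236)], .rep [49, 228, 0, 54] 7 [(1, [1]), (1, [0, 0, 1]), (1, [0, 1]), (1, [0, 0, 0, 0, 1]), (1, [0, 0, 0, 0, 0, 0, 1]), (1, [0, 0, 0, 0, 0, 0, 0, 0, 1]), (1, [0, 0, 0, 0, 0, 0, 0, 0, 0, 0, 1]), (1, [0, -1, -1, 0, 0, 1])]),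
  ([(0, 2), (1, 37), (3, 27), (4, 146), (5, 36)], .rep [236, 2, 137, 67, 73] 7 [(1, [1]), (1, [0, 0, 1]), (1, [0, 1]), (1, [0, 0, 0, 0, 1]), (1, [0, 0, 0, 0, 0, 0, 1]), (1, [0, 0, 0, 0, 0, 0, 0, 0, 1]), (1, [0, 0, 0, 0, 0, 0, 0, 0, -1, -1]), (1, [0, -1, -1, 0, 0, 1])]),
  ([(0, 2), (1, 37), (3, 27), (4, 157)], .next 6 [(36, [], 431), (234, [], 432)]),
  ([(0, 2), (1, 37), (3, 27), (4, 157), (6, 36)], .rep [6, 234, 2, 59] 7 [(1, [1]), (1, [0, 0, 1]), (1, [0, 1]), (1, [0, 0, 0, 0, 1]), (1, [0, 0, 0, 0, 0, 0, 1]), (1, [-1, -1, 0, 0, -2, -2, -1, -1]), (1, [0, 0, 0, 0, 0, 0, 0, 0, 1]), (1, [0, -1, -1, 0, 0, 1])]),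
  ([(0, 2), (1, 37), (3, 27), (4, 157), (6, 234)], .rep [31, 111, 6, 178, 3, 138, 1] 9 [(1, [1]), (1, [0, 0, 1]), (1, [0, 1]), (1, [0, 0, 0, 0, 1]), (1, [0, 0, 0, 0, 0, 0, 1]), (1, [-1, -1, 0, 0, -2, -2, -1, -1]), (1, [0, 0, 0, 0, 0, 0, 0, 0, 1]), (1, [0, -1, -1, 0, 0, 1])]),
  ([(0, 2), (1, 37), (3, 42)], .next 5 [(18, [], 434), (35, [(238, 0)], 439), (162, [], 441), (170, [(238, 0)], 444)]),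
  ([(0, 2), (1, 37), (3, 42), (5, 18)], .next 6 [(6, [], 435), (139, [], 437), (237, [], 438)]),
  ([(0, 2), (1, 37), (3, 42), (5, 18), (6, 6)], .next 7 [(27, [], 436)]),
  ([(0, 2), (1, 37), (3, 42), (5, 18), (6, 6), (7, 27)], .rep [20, 232, 30, 38, 42] 6 [(1, [1]), (1, [0, 0, 1]), (1, [0, 1]), (1, [0, 0, 0, 0, 1]), (1, [0, -1, -1, 0, -1, 1]), (1, [0, 0, 0, 0, 0, 0, 1]), (1, [0, 0, 0, 0, 0, 0, 0, 0, 1]), (1, [0, 0, 0, 0, 0, 0, 0, 0, 0, 0, 1])]),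
  ([(0, 2), (1, 37), (3, 42), (5, 18), (6, 139)], .none 7 2 [-1, -2, -1, 0, -1, -1, 0, 0, 0, 1] 3),
  ([(0, 2), (1, 37), (3, 42), (5, 18), (6, 237)], .rep [5, 85, 20, 232, 1] 9 [(1, [1]), (1, [0, 0, 1]), (1, [0, 1]), (1, [0, 0, 0, 0, 1]), (1, [0, -1, -1, 0, -1, 1]), (1, [0, 0, 0, 0, 0, 0, 1]), (1, [0, 0, 0, 0, 0, 0, 0, 0, 1]), (3, [-2, -2, 0, 0, -1, -4, -3, 0, -1, -1])]),
  ([(0, 2), (1, 37), (3, 42), (5, 35)], .next 7 [(27, [], 440)]),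
  ([(0, 2), (1, 37), (3, 42), (5, 35), (7, 27)], .rep [18, 111, 35, 234, 13, 16, 0, 24] 9 [(1, [1]), (1, [0, 0, 1]), (1, [0, 1]), (1, [0, 0, 0, 0, 1]), (1, [0, -1, -1, 0, -1, 1]), (1, [0, 0, 0, 0, 0, 0, 1]), (1, [0, 1, 1, 0, 1, -1, -1, 1]), (1, [0, 0, 0, 0, 0, 0, 0, 0, 1])]),
  ([(0, 2), (1, 37), (3, 42), (5, 162)], .next 6 [(6, [], 442), (237, [], 443)]),
  ([(0, 2), (1, 37), (3, 42), (5, 162), (6, 6)], .rep [161, 20, 207, 9, 43] 8 [(1, [1]), (1, [0, 0, 1]), (1, [0, 1]), (1, [0, 0, 0, 0, 1]), (1, [0, -1, -1, 0, -1, 1]), (1, [0, 0, 0, 0, 0, 0, 1]), (1, [0, 0, 0, 0, 0, 0, 0, 0, 1]), (2, [-1, -1, 0, 0, 0, -2, -1, 1])]),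
  ([(0, 2), (1, 37), (3, 42), (5, 162), (6, 237)], .rep [6, 178, 2, 90] 7 [(1, [1]), (1, [0, 0, 1]), (1, [0, 1]), (1, [0, 0, 0, 0, 1]), (1, [0, -1, -1, 0, -1, 1]), (1, [0, 0, 0, 0, 0, 0, 1]), (1, [0, 0, 0, 0, 0, 0, 0, 0, 1]), (2, [-1, -1, 0, 0, 0, -2, -1, 1])]),
  ([(0, 2), (1, 37), (3, 42), (5, 170)], .next 6 [(21, [], 445), (146, [], 446)]),
  ([(0, 2), (1, 37), (3, 42), (5, 170), (6, 21)], .rep [168, 2, 217] 7 [(1, [1]), (1, [0, 0, 1]), (1, [0, 1]), (1, [0, 0, 0, 0, 1]), (1, [0, -1, -1, 0, -1, 1]), (1, [0, 0, 0, 0, 0, 0, 1]), (1, [0, 0, 0, 0, 0, 0, 0, 0, 1]), (2, [-1, -1, 0, 0, 0, -2, -1, 1, -1])]),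
  ([(0, 2), (1, 37), (3, 42), (5, 170), (6, 146)], .none 7 2 [-1, -1, 0, 0, 0, -2, -1, 1, -1] 3),
  ([(0, 2), (1, 43)], .next 3 [(42, [(5, 0), (20, 0), (234, 0)], 448), (109, [(5, 0), (20, 0), (234, 0)], 453)])]

/-- Part 7. -/
def invTree7 : List Node := [
  ([(0, 2), (1, 43), (3, 42)], .next 5 [(162, [], 449), (170, [(238, 0)], 452)]),
  ([(0, 2), (1, 43), (3, 42), (5, 162)], .next 6 [(6, [], 450), (237, [], 451)]),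
  ([(0, 2), (1, 43), (3, 42), (5, 162), (6, 6)], .rep [35, 224, 2, 0, 84] 6 [(1, [1]), (1, [0, 0, 1]), (1, [0, 1]), (1, [0, 0, 0, 0, 1]), (1, [0, -1, -1, 0, -1, 1]), (1, [0, 0, 0, 0, 0, 0, 1]), (1, [0, 0, 0, 0, 0, 0, 0, 0, 1]), (1, [0, -1, -1, 1, -1])]),
  ([(0, 2), (1, 43), (3, 42), (5, 162), (6, 237)], .rep [47, 162, 20, 3, 179, 73, 221] 9 [(1, [1]), (1, [0, 0, 1]), (1, [0, 1]), (1, [0, 0, 0, 0, 1]), (1, [0, -1, -1, 0, -1, 1]), (1, [0, 0, 0, 0, 0, 0, 1]), (1, [0, 0, 0, 0, 0, 0, 0, 0, 1]), (1, [0, -1, -1, 1, -1])]),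
  ([(0, 2), (1, 43), (3, 42), (5, 170)], .rep [5, 162, 78, 232, 3, 7, 0, 84] 9 [(1, [1]), (1, [0, 0, 1]), (1, [0, 1]), (1, [0, 0, 0, 0, 1]), (1, [0, -1, -1, 0, -1, 1]), (1, [0, 0, 0, 0, 0, 0, 1]), (1, [-1, 1, 2, -2, 2, -2, -1, 1]), (1, [0, -1, -1, 1, -1])]),
  ([(0, 2), (1, 43), (3, 109)], .next 5 [(167, [], 454), (174, [(238, 0)], 457)]),
  ([(0, 2), (1, 43), (3, 109), (5, 167)], .next 6 [(21, [], 455), (236, [], 456)]),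
  ([(0, 2), (1, 43), (3, 109), (5, 167), (6, 21)], .rep [20, 207, 7, 16, 1, 59] 7 [(1, [1]), (1, [0, 0, 1]), (1, [0, 1]), (1, [0, 0, 0, 0, 1]), (1, [-1, -1, 0, -1, -1, -1]), (1, [0, 0, 0, 0, 0, 0, 1]), (1, [0, 0, 0, 0, 0, 0, 0, 0, 1]), (1, [0, -1, -1, 1, -1])]),
  ([(0, 2), (1, 43), (3, 109), (5, 167), (6, 236)], .rep [31, 111, 168, 236, 2, 137, 26, 117] 9 [(1, [1]), (1, [0, 0, 1]), (1, [0, 1]), (1, [0, 0, 0, 0, 1]), (1, [-1, -1, 0, -1, -1, -1]), (1, [0, 0, 0, 0, 0, 0, 1]), (1, [0, 0, 0, 0, 0, 0, 0, 0, 1]), (1, [0, -1, -1, 1, -1])]),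
  ([(0, 2), (1, 43), (3, 109), (5, 174)], .rep [151, 170, 3, 7, 0, 220] 9 [(1, [1]), (1, [0, 0, 1]), (1, [0, 1]), (1, [0, 0, 0, 0, 1]), (1, [-1, -1, 0, -1, -1, -1]), (1, [0, 0, 0, 0, 0, 0, 1]), (1, [1, 1, 0, 0, 2, 2, -1, -1]), (1, [0, -1, -1, 1, -1])]),
  ([(0, 8)], .next 1 [(9, [], 459), (10, [], 549), (24, [(3, 0), (7, 0), (16, 0), (33, 0), (49, 0), (126, 0), (137, 0), (147, 0), (150, 0), (158, 0), (169, 0), (171, 0), (177, 0), (185, 0), (192, 0), (230, 0), (7, 1), (126, 1), (137, 1), (147, 1), (192, 1), (16, 2), (33, 2), (49, 2), (230, 2), (126, 3)], 639), (25, [(3, 0), (7, 0), (16, 0), (33, 0), (49, 0), (126, 0), (137, 0), (147, 0), (150, 0), (158, 0), (169, 0), (171, 0), (177, 0), (185, 0), (192, 0), (230, 0), (7, 1), (126, 1), (137, 1), (147, 1), (192, 1), (16, 2),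 (33, 2), (49, 2), (230, 2), (126, 3)], 685)]),
  ([(0, 8), (1, 9)], .next 2 [(2, [], 460), (13, [(4, 0), (18, 0), (35, 0), (161, 0), (162, 0), (168, 0), (170, 0), (176, 0), (178, 0), (232, 0), (161, 1), (168, 1), (178, 1), (161, 2), (162, 4)], 506), (31, [(4, 0), (18, 0), (35, 0), (139, 0), (151, 0), (159, 0), (184, 0), (232, 0), (139, 1)], 528)]),
  ([(0, 8), (1, 9), (2, 2)], .next 3 [(3, [], 461), (7, [(139, 0), (151, 0), (159, 0), (184, 0)], 483), (16, [(5, 0), (20, 0), (151, 0), (159, 0), (184, 0), (234, 0), (159, 1), (184, 1), (184, 2)], 492)]),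
  ([(0, 8), (1, 9), (2, 2), (3, 3)], .next 4 [(4, [], 462), (18, [(6, 0), (139, 0), (236, 0), (139, 1), (236, 2)], 476), (166, [(6, 0), (236, 0)], 481)]),
  ([(0, 8), (1, 9), (2, 2), (3, 3), (4, 4)], .next 5 [(5, [], 463), (20, [(238, 0)], 468), (151, [], 470), (159, [(238, 0)], 473)]),
  ([(0, 8), (1, 9), (2, 2), (3, 3), (4, 4), (5, 5)], .next 6 [(6, [], 464), (139, [], 466), (237, [], 467)]),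
  ([(0, 8), (1, 9), (2, 2), (3, 3), (4, 4), (5, 5), (6, 6)], .next 7 [(7, [], 465)]),
  ([(0, 8), (1, 9), (2, 2), (3, 3), (4, 4), (5, 5), (6, 6), (7, 7)], .rep [] 2 [(1, [1]), (1, [0, 0, 1]), (1, [0, 0, 0, 0, 1]), (1, [0, 0, 0, 0, 0, 0, 1]), (1, [0, 0, 0, 0, 0, 0, 0, 0, 1]), (1, [0, 0, 0, 0, 0, 0, 0, 0, 0, 0, 1]), (1, [0, 0, 0, 0, 0, 0, 0, 0, 0, 0, 0, 0, 1]), (1, [0, 0, 0, 0, 0, 0, 0, 0, 0, 0, 0, 0, 0, 0, 1])]),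
  ([(0, 8), (1, 9), (2, 2), (3, 3), (4, 4), (5, 5), (6, 139)], .none 7 2 [-1, 0, -2, 0, -3, 0, -2, 0, -1, 0, 0, 0, 0, 1] 3),
  ([(0, 8), (1, 9), (2, 2), (3, 3), (4, 4), (5, 5), (6, 237)], .rep [49, 228, 73, 221] 4 [(1, [1]), (1, [0, 0, 1]), (1, [0, 0, 0, 0, 1]), (1, [0, 0, 0, 0, 0, 0, 1]), (1, [0, 0, 0, 0, 0, 0, 0, 0, 1]), (1, [0, 0, 0, 0, 0, 0, 0, 0, 0, 0, 1]), (1, [0, 0, 0, 0, 0, 0, 0, 0, 0, 0, 0, 0, 1]), (3, [-2, 0, -4, 0, -6, 0, -5, 0, -4, 0, -3, 0, -1, -1])]),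
  ([(0, 8), (1, 9), (2, 2), (3, 3), (4, 4), (5, 20)], .next 7 [(7, [], 469)]),
  ([(0, 8), (1, 9), (2, 2), (3, 3), (4, 4), (5, 20), (7, 7)], .rep [46, 49, 67, 73] 4 [(1, [1]), (1, [0, 0, 1]), (1, [0, 0, 0, 0, 1]), (1, [0, 0, 0, 0, 0, 0, 1]), (1, [0, 0, 0, 0, 0, 0, 0, 0, 1]), (1, [0, 0, 0, 0, 0, 0, 0, 0, 0, 0, 1]), (1, [0, 0, 0, 0, 0, 0, 0, 0, 0, 0, -1, 1]), (1, [0, 0, 0, 0, 0, 0, 0, 0, 0, 0, 0, 0, 1])]),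
  ([(0, 8), (1, 9), (2, 2), (3, 3), (4, 4), (5, 151)], .next 6 [(6, [], 471), (237, [], 472)]),
  ([(0, 8), (1, 9), (2, 2), (3, 3), (4, 4), (5, 151), (6, 6)], .rep [7, 113, 27, 91] 4 [(1, [1]), (1, [0, 0, 1]), (1, [0, 0, 0, 0, 1]), (1, [0, 0, 0, 0, 0, 0, 1]), (1, [0, 0, 0, 0, 0, 0, 0, 0, 1]), (1, [0, 0, 0, 0, 0, 0, 0, 0, 0, 0, 1]), (1, [0, 0, 0, 0, 0, 0, 0, 0, 0, 0, 0, 0, 1]), (2, [-1, 0, -2, 0, -3, 0, -2, 0, -1, 0, -1, 1])]),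
  ([(0, 8), (1, 9), (2, 2), (3, 3), (4, 4), (5, 151), (6, 237)], .rep [7, 113, 27, 91] 6 [(1, [1]), (1, [0, 0, 1]), (1, [0, 0, 0, 0, 1]), (1, [0, 0, 0, 0, 0, 0, 1]), (1, [0, 0, 0, 0, 0, 0, 0, 0, 1]), (1, [0, 0, 0, 0, 0, 0, 0, 0, 0, 0, 1]), (1, [0, 0, 0, 0, 0, 0, 0, 0, 0, 0, 0, 0, 1]), (2, [-1, 0, -2, 0, -3, 0, -2, 0, -1, 0, -1, 1])]),
  ([(0, 8), (1, 9), (2, 2), (3, 3), (4, 4), (5, 159)], .next 6 [(21, [], 474), (146, [], 475)]),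
  ([(0, 8), (1, 9), (2, 2), (3, 3), (4, 4), (5, 159), (6, 21)], .rep [78, 46, 49, 67, 73] 6 [(1, [1]), (1, [0, 0, 1]), (1, [0, 0, 0, 0, 1]), (1, [0, 0, 0, 0, 0, 0, 1]), (1, [0, 0, 0, 0, 0, 0, 0, 0, 1]), (1, [0, 0, 0, 0, 0, 0, 0, 0, 0, 0, 1]), (1, [0, 0, 0, 0, 0, 0, 0, 0, 0, 0, 0, 0, 1]), (2, [-1, 0, -2, 0, -3, 0, -2, 0, -1, 0, -1, 1, -1])]),
  ([(0, 8), (1, 9), (2, 2), (3, 3), (4, 4), (5, 159), (6, 146)], .none 7 2 [-1, 0, -2, 0, -3, 0, -2, 0, -1, 0, -1, 1, -1] 3),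
  ([(0, 8), (1, 9), (2, 2), (3, 3), (4, 18)], .next 6 [(20, [], 477), (151, [], 479), (235, [], 480)]),
  ([(0, 8), (1, 9), (2, 2), (3, 3), (4, 18), (6, 20)], .next 7 [(7, [], 478)]),
  ([(0, 8), (1, 9), (2, 2), (3, 3), (4, 18), (6, 20), (7, 7)], .rep [30, 33, 53, 57] 4 [(1, [1]), (1, [0, 0, 1]), (1, [0, 0, 0, 0, 1]), (1, [0, 0, 0, 0, 0, 0, 1]), (1, [0, 0, 0, 0, 0, 0, 0, 0, 1]), (1, [0, 0, 0, 0, 0, 0, 0, 0, -1, 1]), (1, [0, 0, 0, 0, 0, 0, 0, 0, 0, 0, 1]), (1, [0, 0, 0, 0, 0, 0, 0, 0, 0, 0, 0, 0, 1])]),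
  ([(0, 8), (1, 9), (2, 2), (3, 3), (4, 18), (6, 151)], .none 7 2 [-1, 0, -2, 0, -3, 0, -2, 0, 0, -1, 0, 1] 3),
  ([(0, 8), (1, 9), (2, 2), (3, 3), (4, 18), (6, 235)], .rep [30, 33] 6 [(1, [1]), (1, [0, 0, 1]), (1, [0, 0, 0, 0, 1]), (1, [0, 0, 0, 0, 0, 0, 1]), (1, [0, 0, 0, 0, 0, 0, 0, 0, 1]), (1, [0, 0, 0, 0, 0, 0, 0, 0, -1, 1]), (1, [0, 0, 0, 0, 0, 0, 0, 0, 0, 0, 1]), (3, [-2, 0, -4, 0, -6, 0, -5, 0, -2, -2, -1, -1])]),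
  ([(0, 8), (1, 9), (2, 2), (3, 3), (4, 166)], .next 5 [(21, [(238, 0)], 482)]),
  ([(0, 8), (1, 9), (2, 2), (3, 3), (4, 166), (5, 21)], .rep [6, 207, 30, 49] 6 [(1, [1]), (1, [0, 0, 1]), (1, [0, 0, 0, 0, 1]), (1, [0, 0, 0, 0, 0, 0, 1]), (1, [0, 0, 0, 0, 0, 0, 0, 0, 1]), (1, [0, 0, 0, 0, 0, 0, 0, 0, 0, 0, 1]), (1, [0, 0, 0, 0, 0, 0, 0, 0, 0, 0, 0, -1]), (1, [-1, 0, -2, 0, -3, 0, -3, 0, -2, -1, -1])]),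
  ([(0, 8), (1, 9), (2, 2), (3, 7)], .next 4 [(146, [], 484), (157, [(6, 0), (236, 0)], 489)]),
  ([(0, 8), (1, 9), (2, 2), (3, 7), (4, 146)], .next 5 [(19, [], 485), (36, [(238, 0)], 488)]),
  ([(0, 8), (1, 9), (2, 2), (3, 7), (4, 146), (5, 19)], .next 6 [(21, [], 486), (236, [], 487)]),
  ([(0, 8), (1, 9), (2, 2), (3, 7), (4, 146), (5, 19), (6, 21)], .rep [35, 224, 30, 113, 9, 11] 7 [(1, [1]), (1, [0, 0, 1]), (1, [0, 0, 0, 0, 1]), (1, [0, 0, 0, 0, 0, 0, 1]), (1, [0, 0, 0, 0, 0, 0, 0, 0, 1]), (1, [0, 0, 0, 0, 0, 0, 0, 0, 0, 0, 1]), (1, [0, 0, 0, 0, 0, 0, 0, 0, 0, 0, 0, 0, 1]), (1, [0, 0, 0, 0, 0, 0, 0, 1])]),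
  ([(0, 8), (1, 9), (2, 2), (3, 7), (4, 146), (5, 19), (6, 236)], .rep [99, 35, 224, 3, 138] 9 [(1, [1]), (1, [0, 0, 1]), (1, [0, 0, 0, 0, 1]), (1, [0, 0, 0, 0, 0, 0, 1]), (1, [0, 0, 0, 0, 0, 0, 0, 0, 1]), (1, [0, 0, 0, 0, 0, 0, 0, 0, 0, 0, 1]), (1, [0, 0, 0, 0, 0, 0, 0, 0, 0, 0, 0, 0, 1]), (1, [0, 0, 0, 0, 0, 0, 0, 1])]),
  ([(0, 8), (1, 9), (2, 2), (3, 7), (4, 146), (5, 36)], .rep [47, 162, 20, 3, 160, 42, 221] 9 [(1, [1]), (1, [0, 0, 1]), (1, [0, 0, 0, 0, 1]), (1, [0, 0, 0, 0, 0, 0, 1]), (1, [0, 0, 0, 0, 0, 0, 0, 0, 1]), (1, [0, 0, 0, 0, 0, 0, 0, 0, 0, 0, 1]), (1, [0, 0, 0, 0, 0, 0, 0, 0, 0, 0, -1, -1]), (1, [0, 0, 0, 0, 0, 0, 0, 1])]),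
  ([(0, 8), (1, 9), (2, 2), (3, 7), (4, 157)], .next 6 [(36, [], 490), (234, [], 491)]),
  ([(0, 8), (1, 9), (2, 2), (3, 7), (4, 157), (6, 36)], .rep [47, 13, 14, 73, 221] 9 [(1, [1]), (1, [0, 0, 1]), (1, [0, 0, 0, 0, 1]), (1, [0, 0, 0, 0, 0, 0, 1]), (1, [0, 0, 0, 0, 0, 0, 0, 0, 1]), (1, [-1, 0, -2, 0, -3, 0, -2, -2, -1, -1]), (1, [0, 0, 0, 0, 0, 0, 0, 0, 0, 0, 1]), (1, [0, 0, 0, 0, 0, 0, 0, 1])]),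
  ([(0, 8), (1, 9), (2, 2), (3, 7), (4, 157), (6, 234)], .rep [35, 207, 3, 138, 26, 117] 6 [(1, [1]), (1, [0, 0, 1]), (1, [0, 0, 0, 0, 1]), (1, [0, 0, 0, 0, 0, 0, 1]), (1, [0, 0, 0, 0, 0, 0, 0, 0, 1]), (1, [-1, 0, -2, 0, -3, 0, -2, -2, -1, -1]), (1, [0, 0, 0, 0, 0, 0, 0, 0, 0, 0, 1]), (1, [0, 0, 0, 0, 0, 0, 0, 1])]),
  ([(0, 8), (1, 9), (2, 2), (3, 16)], .next 5 [(18, [], 493), (35, [(238, 0)], 498), (162, [], 500), (170, [(238, 0)], 503)]),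
  ([(0, 8), (1, 9), (2, 2), (3, 16), (5, 18)], .next 6 [(6, [], 494), (139, [], 496), (237, [], 497)]),
  ([(0, 8), (1, 9), (2, 2), (3, 16), (5, 18), (6, 6)], .next 7 [(7, [], 495)]),
  ([(0, 8), (1, 9), (2, 2), (3, 16), (5, 18), (6, 6), (7, 7)], .rep [13, 16, 38, 42] 4 [(1, [1]), (1, [0, 0, 1]), (1, [0, 0, 0, 0, 1]), (1, [0, 0, 0, 0, 0, 0, 1]), (1, [0, 0, 0, 0, 0, 0, -1, 1]), (1, [0, 0, 0, 0, 0, 0, 0, 0, 1]), (1, [0, 0, 0, 0, 0, 0, 0, 0, 0, 0, 1]), (1, [0, 0, 0, 0, 0, 0, 0, 0, 0, 0, 0, 0, 1])]),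
  ([(0, 8), (1, 9), (2, 2), (3, 16), (5, 18), (6, 139)], .none 7 2 [-1, 0, -2, 0, -3, 0, -1, -1, 0, 0, 0, 1] 3),
  ([(0, 8), (1, 9), (2, 2), (3, 16), (5, 18), (6, 237)], .rep [13, 16] 6 [(1, [1]), (1, [0, 0, 1]), (1, [0, 0, 0, 0, 1]), (1, [0, 0, 0, 0, 0, 0, 1]), (1, [0, 0, 0, 0, 0, 0, -1, 1]), (1, [0, 0, 0, 0, 0, 0, 0, 0, 1]), (1, [0, 0, 0, 0, 0, 0, 0, 0, 0, 0, 1]), (3, [-2, 0, -4, 0, -6, 0, -1, -4, -3, 0, -1, -1])]),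
  ([(0, 8), (1, 9), (2, 2), (3, 16), (5, 35)], .next 7 [(7, [], 499)]),
  ([(0, 8), (1, 9), (2, 2), (3, 16), (5, 35), (7, 7)], .rep [236, 13, 16] 6 [(1, [1]), (1, [0, 0, 1]), (1, [0, 0, 0, 0, 1]), (1, [0, 0, 0, 0, 0, 0, 1]), (1, [0, 0, 0, 0, 0, 0, -1, 1]), (1, [0, 0, 0, 0, 0, 0, 0, 0, 1]), (1, [0, 0, 0, 0, 0, 0, 1, -1, -1, 1]), (1, [0, 0, 0, 0, 0, 0, 0, 0, 0, 0, 1])]),
  ([(0, 8), (1, 9), (2, 2), (3, 16), (5, 162)], .next 6 [(6, [], 501), (237, [], 502)]),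
  ([(0, 8), (1, 9), (2, 2), (3, 16), (5, 162), (6, 6)], .rep [20, 184, 13, 16, 27, 91] 6 [(1, [1]), (1, [0, 0, 1]), (1, [0, 0, 0, 0, 1]), (1, [0, 0, 0, 0, 0, 0, 1]), (1, [0, 0, 0, 0, 0, 0, -1, 1]), (1, [0, 0, 0, 0, 0, 0, 0, 0, 1]), (1, [0, 0, 0, 0, 0, 0, 0, 0, 0, 0, 1]), (2, [-1, 0, -2, 0, -3, 0, 0, -2, -1, 1])]),
  ([(0, 8), (1, 9), (2, 2), (3, 16), (5, 162), (6, 237)], .rep [5, 85, 20, 232, 14, 46, 73, 221] 9 [(1, [1]), (1, [0, 0, 1]), (1, [0, 0, 0, 0, 1]), (1, [0, 0, 0, 0, 0, 0, 1]), (1, [0, 0, 0, 0, 0, 0, -1, 1]), (1, [0, 0, 0, 0, 0, 0, 0, 0, 1]), (1, [0, 0, 0, 0, 0, 0, 0, 0, 0, 0, 1]), (2, [-1, 0, -2, 0, -3, 0, 0, -2, -1, 1])]),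
  ([(0, 8), (1, 9), (2, 2), (3, 16), (5, 170)], .next 6 [(21, [], 504), (146, [], 505)]),
  ([(0, 8), (1, 9), (2, 2), (3, 16), (5, 170), (6, 21)], .rep [5, 85, 122, 46, 49, 27, 91] 9 [(1, [1]), (1, [0, 0, 1]), (1, [0, 0, 0, 0, 1]), (1, [0, 0, 0, 0, 0, 0, 1]), (1, [0, 0, 0, 0, 0, 0, -1, 1]), (1, [0, 0, 0, 0, 0, 0, 0, 0, 1]), (1, [0, 0, 0, 0, 0, 0, 0, 0, 0, 0, 1]), (2, [-1, 0, -2, 0, -3, 0, 0, -2, -1, 1, -1])]),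
  ([(0, 8), (1, 9), (2, 2), (3, 16), (5, 170), (6, 146)], .none 7 2 [-1, 0, -2, 0, -3, 0, 0, -2, -1, 1, -1] 3),
  ([(0, 8), (1, 9), (2, 13)], .next 4 [(16, [], 507), (33, [(6, 0), (139, 0), (236, 0), (139, 1), (236, 2)], 521), (156, [(6, 0), (236, 0)], 526)]),
  ([(0, 8), (1, 9), (2, 13), (4, 16)], .next 5 [(5, [], 508), (20, [(238, 0)], 513), (151, [], 515), (159, [(238, 0)], 518)]),
  ([(0, 8), (1, 9), (2, 13), (4, 16), (5, 5)], .next 6 [(6, [], 509), (139, [], 511), (237, [], 512)]),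
  ([(0, 8), (1, 9), (2, 13), (4, 16), (5, 5), (6, 6)], .next 7 [(7, [], 510)]),
  ([(0, 8), (1, 9), (2, 13), (4, 16), (5, 5), (6, 6), (7, 7)], .rep [2, 13] 4 [(1, [1]), (1, [0, 0, 1]), (1, [0, 0, 0, 0, 1]), (1, [0, 0, 0, 0, -1, 1]), (1, [0, 0, 0, 0, 0, 0, 1]), (1, [0, 0, 0, 0, 0, 0, 0, 0, 1]), (1, [0, 0, 0, 0, 0, 0, 0, 0, 0, 0, 1]), (1, [0, 0, 0, 0, 0, 0, 0, 0, 0, 0, 0, 0, 1])]),
  ([(0, 8), (1, 9), (2, 13), (4, 16), (5, 5), (6, 139)], .none 7 2 [-1, 0, -2, 0, -1, -2, -1, 0, 0, 0, 0, 1] 3)]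

/-- Part 8. -/
def invTree8 : List Node := [
  ([(0, 8), (1, 9), (2, 13), (4, 16), (5, 5), (6, 237)], .rep [35, 238, 49, 228, 24, 26] 6 [(1, [1]), (1, [0, 0, 1]), (1, [0, 0, 0, 0, 1]), (1, [0, 0, 0, 0, -1, 1]), (1, [0, 0, 0, 0, 0, 0, 1]), (1, [0, 0, 0, 0, 0, 0, 0, 0, 1]), (1, [0, 0, 0, 0, 0, 0, 0, 0, 0, 0, 1]), (3, [-2, 0, -4, 0, -1, -5, -4, 0, -3, 0, -1, -1])]),
  ([(0, 8), (1, 9), (2, 13), (4, 16), (5, 20)], .next 7 [(7, [], 514)]),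
  ([(0, 8), (1, 9), (2, 13), (4, 16), (5, 20), (7, 7)], .rep [236, 2, 13, 67, 73] 6 [(1, [1]), (1, [0, 0, 1]), (1, [0, 0, 0, 0, 1]), (1, [0, 0, 0, 0, -1, 1]), (1, [0, 0, 0, 0, 0, 0, 1]), (1, [0, 0, 0, 0, 0, 0, 0, 0, 1]), (1, [0, 0, 0, 0, 0, 0, 0, 0, -1, 1]), (1, [0, 0, 0, 0, 0, 0, 0, 0, 0, 0, 1])]),
  ([(0, 8), (1, 9), (2, 13), (4, 16), (5, 151)], .next 6 [(6, [], 516), (237, [], 517)]),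
  ([(0, 8), (1, 9), (2, 13), (4, 16), (5, 151), (6, 6)], .rep [20, 184, 2, 16, 27, 91] 6 [(1, [1]), (1, [0, 0, 1]), (1, [0, 0, 0, 0, 1]), (1, [0, 0, 0, 0, -1, 1]), (1, [0, 0, 0, 0, 0, 0, 1]), (1, [0, 0, 0, 0, 0, 0, 0, 0, 1]), (1, [0, 0, 0, 0, 0, 0, 0, 0, 0, 0, 1]), (2, [-1, 0, -2, 0, -1, -2, -1, 0, -1, 1])]),
  ([(0, 8), (1, 9), (2, 13), (4, 16), (5, 151), (6, 237)], .rep [18, 122, 236, 49, 228, 24, 26] 9 [(1, [1]), (1, [0, 0, 1]), (1, [0, 0, 0, 0, 1]), (1, [0, 0, 0, 0, -1, 1]), (1, [0, 0, 0, 0, 0, 0, 1]), (1, [0, 0, 0, 0, 0, 0, 0, 0, 1]), (1, [0, 0, 0, 0, 0, 0, 0, 0, 0, 0, 1]), (2, [-1, 0, -2, 0, -1, -2, -1, 0, -1, 1])]),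
  ([(0, 8), (1, 9), (2, 13), (4, 16), (5, 159)], .next 6 [(21, [], 519), (146, [], 520)]),
  ([(0, 8), (1, 9), (2, 13), (4, 16), (5, 159), (6, 21)], .rep [5, 99, 6, 234, 46, 49, 27, 91] 9 [(1, [1]), (1, [0, 0, 1]), (1, [0, 0, 0, 0, 1]), (1, [0, 0, 0, 0, -1, 1]), (1, [0, 0, 0, 0, 0, 0, 1]), (1, [0, 0, 0, 0, 0, 0, 0, 0, 1]), (1, [0, 0, 0, 0, 0, 0, 0, 0, 0, 0, 1]), (2, [-1, 0, -2, 0, -1, -2, -1, 0, -1, 1, -1])]),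
  ([(0, 8), (1, 9), (2, 13), (4, 16), (5, 159), (6, 146)], .none 7 2 [-1, 0, -2, 0, -1, -2, -1, 0, -1, 1, -1] 3),
  ([(0, 8), (1, 9), (2, 13), (4, 33)], .next 6 [(20, [], 522), (151, [], 524), (235, [], 525)]),
  ([(0, 8), (1, 9), (2, 13), (4, 33), (6, 20)], .next 7 [(7, [], 523)]),
  ([(0, 8), (1, 9), (2, 13), (4, 33), (6, 20), (7, 7)], .rep [35, 236, 30, 33, 24, 26] 6 [(1, [1]), (1, [0, 0, 1]), (1, [0, 0, 0, 0, 1]), (1, [0, 0, 0, 0, -1, 1]), (1, [0, 0, 0, 0, 0, 0, 1]), (1, [0, 0, 0, 0, 1, -1, -1, 1]), (1, [0, 0, 0, 0, 0, 0, 0, 0, 1]), (1, [0, 0, 0, 0, 0, 0, 0, 0, 0, 0, 1])]),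
  ([(0, 8), (1, 9), (2, 13), (4, 33), (6, 151)], .none 7 2 [-1, 0, -2, 0, -2, -1, 0, -1, 0, 1] 3),
  ([(0, 8), (1, 9), (2, 13), (4, 33), (6, 235)], .rep [99, 35, 238, 49, 228] 9 [(1, [1]), (1, [0, 0, 1]), (1, [0, 0, 0, 0, 1]), (1, [0, 0, 0, 0, -1, 1]), (1, [0, 0, 0, 0, 0, 0, 1]), (1, [0, 0, 0, 0, 1, -1, -1, 1]), (1, [0, 0, 0, 0, 0, 0, 0, 0, 1]), (3, [-2, 0, -4, 0, -3, -3, -2, -2, -1, -1])]),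
  ([(0, 8), (1, 9), (2, 13), (4, 156)], .next 5 [(21, [(238, 0)], 527)]),
  ([(0, 8), (1, 9), (2, 13), (4, 156), (5, 21)], .rep [85, 162, 159, 2, 13, 24, 26] 9 [(1, [1]), (1, [0, 0, 1]), (1, [0, 0, 0, 0, 1]), (1, [0, 0, 0, 0, -1, 1]), (1, [0, 0, 0, 0, 0, 0, 1]), (1, [0, 0, 0, 0, 0, 0, 0, 0, 1]), (1, [0, 0, 0, 0, 0, 0, 0, 0, 0, -1]), (1, [-1, 0, -2, 0, -1, -2, -2, -1, -1])]),
  ([(0, 8), (1, 9), (2, 31)], .next 3 [(15, [], 529), (22, [], 538), (150, [(6, 0), (20, 0), (234, 0), (236, 0), (234, 1)], 547)]),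
  ([(0, 8), (1, 9), (2, 31), (3, 15)], .next 4 [(16, [], 530), (33, [(6, 0), (236, 0)], 535)]),
  ([(0, 8), (1, 9), (2, 31), (3, 15), (4, 16)], .next 5 [(5, [], 531), (20, [(238, 0)], 534)]),
  ([(0, 8), (1, 9), (2, 31), (3, 15), (4, 16), (5, 5)], .next 6 [(6, [], 532), (237, [], 533)]),
  ([(0, 8), (1, 9), (2, 31), (3, 15), (4, 16), (5, 5), (6, 6)], .rep [122, 234, 30, 113, 24, 26] 6 [(1, [1]), (1, [0, 0, 1]), (1, [0, 0, 0, 0, 1]), (1, [0, 0, 0, 0, 0, 0, 1]), (1, [0, 0, 0, 0, 0, 0, 0, 0, 1]), (1, [0, 0, 0, 0, 0, 0, 0, 0, 0, 0, 1]), (1, [0, 0, 0, 0, 0, 0, 0, 0, 0, 0, 0, 0, 1]), (1, [0, 0, 0, 0, -1, 1, -1])]),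
  ([(0, 8), (1, 9), (2, 31), (3, 15), (4, 16), (5, 5), (6, 237)], .rep [31, 111, 78, 224, 49, 228] 9 [(1, [1]), (1, [0, 0, 1]), (1, [0, 0, 0, 0, 1]), (1, [0, 0, 0, 0, 0, 0, 1]), (1, [0, 0, 0, 0, 0, 0, 0, 0, 1]), (1, [0, 0, 0, 0, 0, 0, 0, 0, 0, 0, 1]), (1, [0, 0, 0, 0, 0, 0, 0, 0, 0, 0, 0, 0, 1]), (1, [0, 0, 0, 0, -1, 1, -1])]),
  ([(0, 8), (1, 9), (2, 31), (3, 15), (4, 16), (5, 20)], .rep [18, 236, 2, 14, 24, 27] 9 [(1, [1]), (1, [0, 0, 1]), (1, [0, 0, 0, 0, 1]), (1, [0, 0, 0, 0, 0, 0, 1]), (1, [0, 0, 0, 0, 0, 0, 0, 0, 1]), (1, [0, 0, 0, 0, 0, 0, 0, 0, 0, 0, 1]), (1, [0, 0, 0, 0, 0, 0, 0, 0, 0, 0, -1, 1]), (1, [0, 0, 0, 0, -1, 1, -1])]),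
  ([(0, 8), (1, 9), (2, 31), (3, 15), (4, 33)], .next 6 [(20, [], 536), (235, [], 537)]),
  ([(0, 8), (1, 9), (2, 31), (3, 15), (4, 33), (6, 20)], .rep [47, 162, 6, 178, 2, 150, 53, 57] 9 [(1, [1]), (1, [0, 0, 1]), (1, [0, 0, 0, 0, 1]), (1, [0, 0, 0, 0, 0, 0, 1]), (1, [0, 0, 0, 0, 0, 0, 0, 0, 1]), (1, [0, 0, 0, 0, 0, 0, -1, 0, -1, 1]), (1, [0, 0, 0, 0, 0, 0, 0, 0, 0, 0, 1]), (1, [0, 0, 0, 0, -1, 1, -1])]),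
  ([(0, 8), (1, 9), (2, 31), (3, 15), (4, 33), (6, 235)], .rep [6, 184, 30, 113, 1, 117] 7 [(1, [1]), (1, [0, 0, 1]), (1, [0, 0, 0, 0, 1]), (1, [0, 0, 0, 0, 0, 0, 1]), (1, [0, 0, 0, 0, 0, 0, 0, 0, 1]), (1, [0, 0, 0, 0, 0, 0, -1, 0, -1, 1]), (1, [0, 0, 0, 0, 0, 0, 0, 0, 0, 0, 1]), (1, [0, 0, 0, 0, -1, 1, -1])]),
  ([(0, 8), (1, 9), (2, 31), (3, 22)], .next 4 [(134, [], 539), (144, [(6, 0), (236, 0)], 544)]),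
  ([(0, 8), (1, 9), (2, 31), (3, 22), (4, 134)], .next 5 [(19, [], 540), (36, [(238, 0)], 543)]),
  ([(0, 8), (1, 9), (2, 31), (3, 22), (4, 134), (5, 19)], .next 6 [(21, [], 541), (236, [], 542)]),
  ([(0, 8), (1, 9), (2, 31), (3, 22), (4, 134), (5, 19), (6, 21)], .rep [35, 234, 30, 113, 9, 27] 7 [(1, [1]), (1, [0, 0, 1]), (1, [0, 0, 0, 0, 1]), (1, [0, 0, 0, 0, 0, 0, 1]), (1, [0, 0, 0, 0, 0, 0, 0, 0, 1]), (1, [0, 0, 0, 0, 0, 0, 0, 0, 0, 0, 1]), (1, [0, 0, 0, 0, 0, 0, 0, 0, 0, 0, 0, 0, 1]), (1, [0, 0, 0, 0, -1, 1, -1])]),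
  ([(0, 8), (1, 9), (2, 31), (3, 22), (4, 134), (5, 19), (6, 236)], .rep [99, 122, 232, 2, 179, 24, 187] 9 [(1, [1]), (1, [0, 0, 1]), (1, [0, 0, 0, 0, 1]), (1, [0, 0, 0, 0, 0, 0, 1]), (1, [0, 0, 0, 0, 0, 0, 0, 0, 1]), (1, [0, 0, 0, 0, 0, 0, 0, 0, 0, 0, 1]), (1, [0, 0, 0, 0, 0, 0, 0, 0, 0, 0, 0, 0, 1]), (1, [0, 0, 0, 0, -1, 1, -1])]),
  ([(0, 8), (1, 9), (2, 31), (3, 22), (4, 134), (5, 36)], .rep [47, 111, 35, 224, 160] 9 [(1, [1]), (1, [0, 0, 1]), (1, [0, 0, 0, 0, 1]), (1, [0, 0, 0, 0, 0, 0, 1]), (1, [0, 0, 0, 0, 0, 0, 0, 0, 1]), (1, [0, 0, 0, 0, 0, 0, 0, 0, 0, 0, 1]), (1, [0, 0, 0, 0, 0, 0, 0, 0, 0, 0, -1, -1]), (1, [0, 0, 0, 0, -1, 1, -1])]),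
  ([(0, 8), (1, 9), (2, 31), (3, 22), (4, 144)], .next 6 [(36, [], 545), (234, [], 546)]),
  ([(0, 8), (1, 9), (2, 31), (3, 22), (4, 144), (6, 36)], .rep [151, 78, 232, 2, 179] 9 [(1, [1]), (1, [0, 0, 1]), (1, [0, 0, 0, 0, 1]), (1, [0, 0, 0, 0, 0, 0, 1]), (1, [0, 0, 0, 0, 0, 0, 0, 0, 1]), (1, [-1, 0, -2, 0, -2, -1, -1, 0, -1, -1]), (1, [0, 0, 0, 0, 0, 0, 0, 0, 0, 0, 1]), (1, [0, 0, 0, 0, -1, 1, -1])]),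
  ([(0, 8), (1, 9), (2, 31), (3, 22), (4, 144), (6, 234)], .rep [35, 207, 138, 11, 117] 6 [(1, [1]), (1, [0, 0, 1]), (1, [0, 0, 0, 0, 1]), (1, [0, 0, 0, 0, 0, 0, 1]), (1, [0, 0, 0, 0, 0, 0, 0, 0, 1]), (1, [-1, 0, -2, 0, -2, -1, -1, 0, -1, -1]), (1, [0, 0, 0, 0, 0, 0, 0, 0, 0, 0, 1]), (1, [0, 0, 0, 0, -1, 1, -1])]),
  ([(0, 8), (1, 9), (2, 31), (3, 150)], .next 4 [(49, [(238, 0)], 548)]),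
  ([(0, 8), (1, 9), (2, 31), (3, 150), (4, 49)], .rep [5, 31, 6, 176, 16, 126, 24, 201] 9 [(1, [1]), (1, [0, 0, 1]), (1, [0, 0, 0, 0, 1]), (1, [0, 0, 0, 0, 0, 0, 1]), (1, [0, 0, 0, 0, 0, 0, 0, 0, 1]), (1, [-1, 0, -2, 0, -2, -1, -1, 1, -2]), (1, [1, 0, 2, 0, 2, 1, 0, -1, 1, 1]), (1, [0, 0, 0, 0, -1, 1, -1])]),
  ([(0, 8), (1, 10)], .next 2 [(12, [], 550), (28, [(4, 0), (18, 0), (35, 0), (161, 0), (162, 0), (168, 0), (170, 0), (176, 0), (178, 0), (232, 0), (161, 1), (168, 1), (178, 1), (161, 2), (162, 4)], 596), (45, [(4, 0), (18, 0), (35, 0), (139, 0), (151, 0), (159, 0), (184, 0), (232, 0), (139, 1)], 618)]),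
  ([(0, 8), (1, 10), (2, 12)], .next 3 [(15, [], 551), (22, [(139, 0), (151, 0), (159, 0), (184, 0)], 573), (32, [(5, 0), (20, 0), (151, 0), (159, 0), (184, 0), (234, 0), (159, 1), (184, 1), (184, 2)], 582)]),
  ([(0, 8), (1, 10), (2, 12), (3, 15)], .next 4 [(17, [], 552), (34, [(6, 0), (139, 0), (236, 0), (139, 1), (236, 2)], 566), (161, [(6, 0), (236, 0)], 571)]),
  ([(0, 8), (1, 10), (2, 12), (3, 15), (4, 17)], .next 5 [(19, [], 553), (36, [(238, 0)], 558), (157, [], 560), (164, [(238, 0)], 563)]),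
  ([(0, 8), (1, 10), (2, 12), (3, 15), (4, 17), (5, 19)], .next 6 [(21, [], 554), (146, [], 556), (236, [], 557)]),
  ([(0, 8), (1, 10), (2, 12), (3, 15), (4, 17), (5, 19), (6, 21)], .next 7 [(22, [], 555)]),
  ([(0, 8), (1, 10), (2, 12), (3, 15), (4, 17), (5, 19), (6, 21), (7, 22)], .rep [] 1 [(1, [1]), (1, [0, 0, 1]), (1, [0, 0, 0, 0, 1]), (1, [0, 0, 0, 0, 0, 0, 1]), (1, [0, 0, 0, 0, 0, 0, 0, 0, 1]), (1, [0, 0, 0, 0, 0, 0, 0, 0, 0, 0, 1]), (1, [0, 0, 0, 0, 0, 0, 0, 0, 0, 0, 0, 0, 1]), (1, [0, 0, 0, 0, 0, 0, 0, 0, 0, 0, 0, 0, 0, 0, 1])]),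
  ([(0, 8), (1, 10), (2, 12), (3, 15), (4, 17), (5, 19), (6, 146)], .none 7 2 [-1, 0, -2, 0, -3, 0, -2, 0, -1, 0, 0, 0, 0, -1] 3),
  ([(0, 8), (1, 10), (2, 12), (3, 15), (4, 17), (5, 19), (6, 236)], .rep [73, 221] 3 [(1, [1]), (1, [0, 0, 1]), (1, [0, 0, 0, 0, 1]), (1, [0, 0, 0, 0, 0, 0, 1]), (1, [0, 0, 0, 0, 0, 0, 0, 0, 1]), (1, [0, 0, 0, 0, 0, 0, 0, 0, 0, 0, 1]), (1, [0, 0, 0, 0, 0, 0, 0, 0, 0, 0, 0, 0, 1]), (3, [-2, 0, -4, 0, -6, 0, -5, 0, -4, 0, -3, 0, -1, 1])]),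
  ([(0, 8), (1, 10), (2, 12), (3, 15), (4, 17), (5, 36)], .next 7 [(22, [], 559)]),
  ([(0, 8), (1, 10), (2, 12), (3, 15), (4, 17), (5, 36), (7, 22)], .rep [67, 73] 3 [(1, [1]), (1, [0, 0, 1]), (1, [0, 0, 0, 0, 1]), (1, [0, 0, 0, 0, 0, 0, 1]), (1, [0, 0, 0, 0, 0, 0, 0, 0, 1]), (1, [0, 0, 0, 0, 0, 0, 0, 0, 0, 0, 1]), (1, [0, 0, 0, 0, 0, 0, 0, 0, 0, 0, -1, -1]), (1, [0, 0, 0, 0, 0, 0, 0, 0, 0, 0, 0, 0, 1])]),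
  ([(0, 8), (1, 10), (2, 12), (3, 15), (4, 17), (5, 157)], .next 6 [(21, [], 561), (236, [], 562)]),
  ([(0, 8), (1, 10), (2, 12), (3, 15), (4, 17), (5, 157), (6, 21)], .rep [27, 91] 3 [(1, [1]), (1, [0, 0, 1]), (1, [0, 0, 0, 0, 1]), (1, [0, 0, 0, 0, 0, 0, 1]), (1, [0, 0, 0, 0, 0, 0, 0, 0, 1]), (1, [0, 0, 0, 0, 0, 0, 0, 0, 0, 0, 1]), (1, [0, 0, 0, 0, 0, 0, 0, 0, 0, 0, 0, 0, 1]), (2, [-1, 0, -2, 0, -3, 0, -2, 0, -1, 0, -1, -1])]),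
  ([(0, 8), (1, 10), (2, 12), (3, 15), (4, 17), (5, 157), (6, 236)], .rep [14, 46, 73, 221] 5 [(1, [1]), (1, [0, 0, 1]), (1, [0, 0, 0, 0, 1]), (1, [0, 0, 0, 0, 0, 0, 1]), (1, [0, 0, 0, 0, 0, 0, 0, 0, 1]), (1, [0, 0, 0, 0, 0, 0, 0, 0, 0, 0, 1]), (1, [0, 0, 0, 0, 0, 0, 0, 0, 0, 0, 0, 0, 1]), (2, [-1, 0, -2, 0, -3, 0, -2, 0, -1, 0, -1, -1])]),
  ([(0, 8), (1, 10), (2, 12), (3, 15), (4, 17), (5, 164)], .next 6 [(6, [], 564), (139, [], 565)]),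
  ([(0, 8), (1, 10), (2, 12), (3, 15), (4, 17), (5, 164), (6, 6)], .rep [46, 49, 27, 91] 5 [(1, [1]), (1, [0, 0, 1]), (1, [0, 0, 0, 0, 1]), (1, [0, 0, 0, 0, 0, 0, 1]), (1, [0, 0, 0, 0, 0, 0, 0, 0, 1]), (1, [0, 0, 0, 0, 0, 0, 0, 0, 0, 0, 1]), (1, [0, 0, 0, 0, 0, 0, 0, 0, 0, 0, 0, 0, 1]), (2, [-1, 0, -2, 0, -3, 0, -2, 0, -1, 0, -1, -1, -1])]),
  ([(0, 8), (1, 10), (2, 12), (3, 15), (4, 17), (5, 164), (6, 139)], .none 7 2 [-1, 0, -2, 0, -3, 0, -2, 0, -1, 0, -1, -1, -1] 3),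
  ([(0, 8), (1, 10), (2, 12), (3, 15), (4, 34)], .next 6 [(36, [], 567), (157, [], 569), (234, [], 570)]),
  ([(0, 8), (1, 10), (2, 12), (3, 15), (4, 34), (6, 36)], .next 7 [(22, [], 568)]),
  ([(0, 8), (1, 10), (2, 12), (3, 15), (4, 34), (6, 36), (7, 22)], .rep [53, 57] 3 [(1, [1]), (1, [0, 0, 1]), (1, [0, 0, 0, 0, 1]), (1, [0, 0, 0, 0, 0, 0, 1]), (1, [0, 0, 0, 0, 0, 0, 0, 0, 1]), (1, [0, 0, 0, 0, 0, 0, 0, 0, -1, -1]), (1, [0, 0, 0, 0, 0, 0, 0, 0, 0, 0, 1]), (1, [0, 0, 0, 0, 0, 0, 0, 0, 0, 0, 0, 0, 1])]),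
  ([(0, 8), (1, 10), (2, 12), (3, 15), (4, 34), (6, 157)], .none 7 2 [-1, 0, -2, 0, -3, 0, -2, 0, 0, 1, 0, -1] 3),
  ([(0, 8), (1, 10), (2, 12), (3, 15), (4, 34), (6, 234)], .rep [30, 33, 73, 221] 5 [(1, [1]), (1, [0, 0, 1]), (1, [0, 0, 0, 0, 1]), (1, [0, 0, 0, 0, 0, 0, 1]), (1, [0, 0, 0, 0, 0, 0, 0, 0, 1]), (1, [0, 0, 0, 0, 0, 0, 0, 0, -1, -1]), (1, [0, 0, 0, 0, 0, 0, 0, 0, 0, 0, 1]), (3, [-2, 0, -4, 0, -6, 0, -5, 0, -2, 2, -1, 1])]),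
  ([(0, 8), (1, 10), (2, 12), (3, 15), (4, 161)], .next 5 [(6, [(238, 0)], 572)]),
  ([(0, 8), (1, 10), (2, 12), (3, 15), (4, 161), (5, 6)], .rep [7, 33, 53, 73] 5 [(1, [1]), (1, [0, 0, 1]), (1, [0, 0, 0, 0, 1]), (1, [0, 0, 0, 0, 0, 0, 1]), (1, [0, 0, 0, 0, 0, 0, 0, 0, 1]), (1, [0, 0, 0, 0, 0, 0, 0, 0, 0, 0, 1]), (1, [0, 0, 0, 0, 0, 0, 0, 0, 0, 0, 0, 1]), (1, [-1, 0, -2, 0, -3, 0, -3, 0, -2, 1, -1])]),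
  ([(0, 8), (1, 10), (2, 12), (3, 22)], .next 4 [(139, [], 574), (151, [(6, 0), (236, 0)], 579)]),
  ([(0, 8), (1, 10), (2, 12), (3, 22), (4, 139)], .next 5 [(5, [], 575), (20, [(238, 0)], 578)]),
  ([(0, 8), (1, 10), (2, 12), (3, 22), (4, 139), (5, 5)], .next 6 [(6, [], 576), (237, [], 577)])]

/-- Part 9. -/
def invTree9 : List Node := [
  ([(0, 8), (1, 10), (2, 12), (3, 22), (4, 139), (5, 5), (6, 6)], .rep [161, 35, 224, 3, 7, 9, 11] 8 [(1, [1]), (1, [0, 0, 1]), (1, [0, 0, 0, 0, 1]), (1, [0, 0, 0, 0, 0, 0, 1]), (1, [0, 0, 0, 0, 0, 0, 0, 0, 1]), (1, [0, 0, 0, 0, 0, 0, 0, 0, 0, 0, 1]), (1, [0, 0, 0, 0, 0, 0, 0, 0, 0, 0, 0, 0, 1]), (1, [0, 0, 0, 0, 0, 0, 0, -1])]),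
  ([(0, 8), (1, 10), (2, 12), (3, 22), (4, 139), (5, 5), (6, 237)], .rep [6, 178, 30, 33, 26, 117] 7 [(1, [1]), (1, [0, 0, 1]), (1, [0, 0, 0, 0, 1]), (1, [0, 0, 0, 0, 0, 0, 1]), (1, [0, 0, 0, 0, 0, 0, 0, 0, 1]), (1, [0, 0, 0, 0, 0, 0, 0, 0, 0, 0, 1]), (1, [0, 0, 0, 0, 0, 0, 0, 0, 0, 0, 0, 0, 1]), (1, [0, 0, 0, 0, 0, 0, 0, -1])]),
  ([(0, 8), (1, 10), (2, 12), (3, 22), (4, 139), (5, 20)], .rep [168, 178, 3, 160, 42, 221] 7 [(1, [1]), (1, [0, 0, 1]), (1, [0, 0, 0, 0, 1]), (1, [0, 0, 0, 0, 0, 0, 1]), (1, [0, 0, 0, 0, 0, 0, 0, 0, 1]), (1, [0, 0, 0, 0, 0, 0, 0, 0, 0, 0, 1]), (1, [0, 0, 0, 0, 0, 0, 0, 0, 0, 0, -1, 1]), (1, [0, 0, 0, 0, 0, 0, 0, -1])]),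
  ([(0, 8), (1, 10), (2, 12), (3, 22), (4, 151)], .next 6 [(20, [], 580), (235, [], 581)]),
  ([(0, 8), (1, 10), (2, 12), (3, 22), (4, 151), (6, 20)], .rep [170, 236, 3, 138, 73, 221] 7 [(1, [1]), (1, [0, 0, 1]), (1, [0, 0, 0, 0, 1]), (1, [0, 0, 0, 0, 0, 0, 1]), (1, [0, 0, 0, 0, 0, 0, 0, 0, 1]), (1, [-1, 0, -2, 0, -3, 0, -2, 2, -1, 1]), (1, [0, 0, 0, 0, 0, 0, 0, 0, 0, 0, 1]), (1, [0, 0, 0, 0, 0, 0, 0, -1])]),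
  ([(0, 8), (1, 10), (2, 12), (3, 22), (4, 151), (6, 235)], .rep [30, 113, 26, 117] 5 [(1, [1]), (1, [0, 0, 1]), (1, [0, 0, 0, 0, 1]), (1, [0, 0, 0, 0, 0, 0, 1]), (1, [0, 0, 0, 0, 0, 0, 0, 0, 1]), (1, [-1, 0, -2, 0, -3, 0, -2, 2, -1, 1]), (1, [0, 0, 0, 0, 0, 0, 0, 0, 0, 0, 1]), (1, [0, 0, 0, 0, 0, 0, 0, -1])]),
  ([(0, 8), (1, 10), (2, 12), (3, 32)], .next 5 [(34, [], 583), (50, [(238, 0)], 588), (167, [], 590), (174, [(238, 0)], 593)]),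
  ([(0, 8), (1, 10), (2, 12), (3, 32), (5, 34)], .next 6 [(21, [], 584), (146, [], 586), (236, [], 587)]),
  ([(0, 8), (1, 10), (2, 12), (3, 32), (5, 34), (6, 21)], .next 7 [(22, [], 585)]),
  ([(0, 8), (1, 10), (2, 12), (3, 32), (5, 34), (6, 21), (7, 22)], .rep [38, 42] 3 [(1, [1]), (1, [0, 0, 1]), (1, [0, 0, 0, 0, 1]), (1, [0, 0, 0, 0, 0, 0, 1]), (1, [0, 0, 0, 0, 0, 0, -1, -1]), (1, [0, 0, 0, 0, 0, 0, 0, 0, 1]), (1, [0, 0, 0, 0, 0, 0, 0, 0, 0, 0, 1]), (1, [0, 0, 0, 0, 0, 0, 0, 0, 0, 0, 0, 0, 1])]),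
  ([(0, 8), (1, 10), (2, 12), (3, 32), (5, 34), (6, 146)], .none 7 2 [-1, 0, -2, 0, -3, 0, -1, 1, 0, 0, 0, -1] 3),
  ([(0, 8), (1, 10), (2, 12), (3, 32), (5, 34), (6, 236)], .rep [13, 16, 73, 221] 5 [(1, [1]), (1, [0, 0, 1]), (1, [0, 0, 0, 0, 1]), (1, [0, 0, 0, 0, 0, 0, 1]), (1, [0, 0, 0, 0, 0, 0, -1, -1]), (1, [0, 0, 0, 0, 0, 0, 0, 0, 1]), (1, [0, 0, 0, 0, 0, 0, 0, 0, 0, 0, 1]), (3, [-2, 0, -4, 0, -6, 0, -1, 4, -3, 0, -1, 1])]),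
  ([(0, 8), (1, 10), (2, 12), (3, 32), (5, 50)], .next 7 [(22, [], 589)]),
  ([(0, 8), (1, 10), (2, 12), (3, 32), (5, 50), (7, 22)], .rep [13, 16, 67, 73] 5 [(1, [1]), (1, [0, 0, 1]), (1, [0, 0, 0, 0, 1]), (1, [0, 0, 0, 0, 0, 0, 1]), (1, [0, 0, 0, 0, 0, 0, -1, -1]), (1, [0, 0, 0, 0, 0, 0, 0, 0, 1]), (1, [0, 0, 0, 0, 0, 0, 1, 1, -1, -1]), (1, [0, 0, 0, 0, 0, 0, 0, 0, 0, 0, 1])]),
  ([(0, 8), (1, 10), (2, 12), (3, 32), (5, 167)], .next 6 [(21, [], 591), (236, [], 592)]),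
  ([(0, 8), (1, 10), (2, 12), (3, 32), (5, 167), (6, 21)], .rep [13, 16, 27, 91] 5 [(1, [1]), (1, [0, 0, 1]), (1, [0, 0, 0, 0, 1]), (1, [0, 0, 0, 0, 0, 0, 1]), (1, [0, 0, 0, 0, 0, 0, -1, -1]), (1, [0, 0, 0, 0, 0, 0, 0, 0, 1]), (1, [0, 0, 0, 0, 0, 0, 0, 0, 0, 0, 1]), (2, [-1, 0, -2, 0, -3, 0, 0, 2, -1, -1])]),
  ([(0, 8), (1, 10), (2, 12), (3, 32), (5, 167), (6, 236)], .rep [122, 236, 49, 228, 38, 42] 7 [(1, [1]), (1, [0, 0, 1]), (1, [0, 0, 0, 0, 1]), (1, [0, 0, 0, 0, 0, 0, 1]), (1, [0, 0, 0, 0, 0, 0, -1, -1]), (1, [0, 0, 0, 0, 0, 0, 0, 0, 1]), (1, [0, 0, 0, 0, 0, 0, 0, 0, 0, 0, 1]), (2, [-1, 0, -2, 0, -3, 0, 0, 2, -1, -1])]),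
  ([(0, 8), (1, 10), (2, 12), (3, 32), (5, 174)], .next 6 [(6, [], 594), (139, [], 595)]),
  ([(0, 8), (1, 10), (2, 12), (3, 32), (5, 174), (6, 6)], .rep [20, 232, 14, 228, 67, 73] 7 [(1, [1]), (1, [0, 0, 1]), (1, [0, 0, 0, 0, 1]), (1, [0, 0, 0, 0, 0, 0, 1]), (1, [0, 0, 0, 0, 0, 0, -1, -1]), (1, [0, 0, 0, 0, 0, 0, 0, 0, 1]), (1, [0, 0, 0, 0, 0, 0, 0, 0, 0, 0, 1]), (2, [-1, 0, -2, 0, -3, 0, 0, 2, -1, -1, -1])]),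
  ([(0, 8), (1, 10), (2, 12), (3, 32), (5, 174), (6, 139)], .none 7 2 [-1, 0, -2, 0, -3, 0, 0, 2, -1, -1, -1] 3),
  ([(0, 8), (1, 10), (2, 28)], .next 4 [(32, [], 597), (48, [(6, 0), (139, 0), (236, 0), (139, 1), (236, 2)], 611), (150, [(6, 0), (236, 0)], 616)]),
  ([(0, 8), (1, 10), (2, 28), (4, 32)], .next 5 [(19, [], 598), (36, [(238, 0)], 603), (157, [], 605), (164, [(238, 0)], 608)]),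
  ([(0, 8), (1, 10), (2, 28), (4, 32), (5, 19)], .next 6 [(21, [], 599), (146, [], 601), (236, [], 602)]),
  ([(0, 8), (1, 10), (2, 28), (4, 32), (5, 19), (6, 21)], .next 7 [(22, [], 600)]),
  ([(0, 8), (1, 10), (2, 28), (4, 32), (5, 19), (6, 21), (7, 22)], .rep [24, 26] 3 [(1, [1]), (1, [0, 0, 1]), (1, [0, 0, 0, 0, 1]), (1, [0, 0, 0, 0, -1, -1]), (1, [0, 0, 0, 0, 0, 0, 1]), (1, [0, 0, 0, 0, 0, 0, 0, 0, 1]), (1, [0, 0, 0, 0, 0, 0, 0, 0, 0, 0, 1]), (1, [0, 0, 0, 0, 0, 0, 0, 0, 0, 0, 0, 0, 1])]),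
  ([(0, 8), (1, 10), (2, 28), (4, 32), (5, 19), (6, 146)], .none 7 2 [-1, 0, -2, 0, -1, 2, -1, 0, 0, 0, 0, -1] 3),
  ([(0, 8), (1, 10), (2, 28), (4, 32), (5, 19), (6, 236)], .rep [49, 228, 24, 26] 5 [(1, [1]), (1, [0, 0, 1]), (1, [0, 0, 0, 0, 1]), (1, [0, 0, 0, 0, -1, -1]), (1, [0, 0, 0, 0, 0, 0, 1]), (1, [0, 0, 0, 0, 0, 0, 0, 0, 1]), (1, [0, 0, 0, 0, 0, 0, 0, 0, 0, 0, 1]), (3, [-2, 0, -4, 0, -1, 5, -4, 0, -3, 0, -1, 1])]),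
  ([(0, 8), (1, 10), (2, 28), (4, 32), (5, 36)], .next 7 [(22, [], 604)]),
  ([(0, 8), (1, 10), (2, 28), (4, 32), (5, 36), (7, 22)], .rep [46, 49, 24, 26] 5 [(1, [1]), (1, [0, 0, 1]), (1, [0, 0, 0, 0, 1]), (1, [0, 0, 0, 0, -1, -1]), (1, [0, 0, 0, 0, 0, 0, 1]), (1, [0, 0, 0, 0, 0, 0, 0, 0, 1]), (1, [0, 0, 0, 0, 0, 0, 0, 0, -1, -1]), (1, [0, 0, 0, 0, 0, 0, 0, 0, 0, 0, 1])]),
  ([(0, 8), (1, 10), (2, 28), (4, 32), (5, 157)], .next 6 [(21, [], 606), (236, [], 607)]),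
  ([(0, 8), (1, 10), (2, 28), (4, 32), (5, 157), (6, 21)], .rep [7, 113, 24, 26] 5 [(1, [1]), (1, [0, 0, 1]), (1, [0, 0, 0, 0, 1]), (1, [0, 0, 0, 0, -1, -1]), (1, [0, 0, 0, 0, 0, 0, 1]), (1, [0, 0, 0, 0, 0, 0, 0, 0, 1]), (1, [0, 0, 0, 0, 0, 0, 0, 0, 0, 0, 1]), (2, [-1, 0, -2, 0, -1, 2, -1, 0, -1, -1])]),
  ([(0, 8), (1, 10), (2, 28), (4, 32), (5, 157), (6, 236)], .rep [2, 16, 27, 91] 7 [(1, [1]), (1, [0, 0, 1]), (1, [0, 0, 0, 0, 1]), (1, [0, 0, 0, 0, -1, -1]), (1, [0, 0, 0, 0, 0, 0, 1]), (1, [0, 0, 0, 0, 0, 0, 0, 0, 1]), (1, [0, 0, 0, 0, 0, 0, 0, 0, 0, 0, 1]), (2, [-1, 0, -2, 0, -1, 2, -1, 0, -1, -1])]),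
  ([(0, 8), (1, 10), (2, 28), (4, 32), (5, 164)], .next 6 [(6, [], 609), (139, [], 610)]),
  ([(0, 8), (1, 10), (2, 28), (4, 32), (5, 164), (6, 6)], .rep [236, 2, 16, 27, 91] 7 [(1, [1]), (1, [0, 0, 1]), (1, [0, 0, 0, 0, 1]), (1, [0, 0, 0, 0, -1, -1]), (1, [0, 0, 0, 0, 0, 0, 1]), (1, [0, 0, 0, 0, 0, 0, 0, 0, 1]), (1, [0, 0, 0, 0, 0, 0, 0, 0, 0, 0, 1]), (2, [-1, 0, -2, 0, -1, 2, -1, 0, -1, -1, -1])]),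
  ([(0, 8), (1, 10), (2, 28), (4, 32), (5, 164), (6, 139)], .none 7 2 [-1, 0, -2, 0, -1, 2, -1, 0, -1, -1, -1] 3),
  ([(0, 8), (1, 10), (2, 28), (4, 48)], .next 6 [(36, [], 612), (157, [], 614), (234, [], 615)]),
  ([(0, 8), (1, 10), (2, 28), (4, 48), (6, 36)], .next 7 [(22, [], 613)]),
  ([(0, 8), (1, 10), (2, 28), (4, 48), (6, 36), (7, 22)], .rep [2, 13, 53, 57] 5 [(1, [1]), (1, [0, 0, 1]), (1, [0, 0, 0, 0, 1]), (1, [0, 0, 0, 0, -1, -1]), (1, [0, 0, 0, 0, 0, 0, 1]), (1, [0, 0, 0, 0, 1, 1, -1, -1]), (1, [0, 0, 0, 0, 0, 0, 0, 0, 1]), (1, [0, 0, 0, 0, 0, 0, 0, 0, 0, 0, 1])]),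
  ([(0, 8), (1, 10), (2, 28), (4, 48), (6, 157)], .none 7 2 [-1, 0, -2, 0, -2, 1, 0, 1, 0, -1] 3),
  ([(0, 8), (1, 10), (2, 28), (4, 48), (6, 234)], .rep [6, 234, 2, 13, 73, 221] 7 [(1, [1]), (1, [0, 0, 1]), (1, [0, 0, 0, 0, 1]), (1, [0, 0, 0, 0, -1, -1]), (1, [0, 0, 0, 0, 0, 0, 1]), (1, [0, 0, 0, 0, 1, 1, -1, -1]), (1, [0, 0, 0, 0, 0, 0, 0, 0, 1]), (3, [-2, 0, -4, 0, -3, 3, -2, 2, -1, 1])]),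
  ([(0, 8), (1, 10), (2, 28), (4, 150)], .next 5 [(6, [(238, 0)], 617)]),
  ([(0, 8), (1, 10), (2, 28), (4, 150), (5, 6)], .rep [6, 224, 2, 13, 53, 73] 7 [(1, [1]), (1, [0, 0, 1]), (1, [0, 0, 0, 0, 1]), (1, [0, 0, 0, 0, -1, -1]), (1, [0, 0, 0, 0, 0, 0, 1]), (1, [0, 0, 0, 0, 0, 0, 0, 0, 1]), (1, [0, 0, 0, 0, 0, 0, 0, 0, 0, 1]), (1, [-1, 0, -2, 0, -1, 2, -2, 1, -1])]),
  ([(0, 8), (1, 10), (2, 45)], .next 3 [(3, [], 619), (7, [], 628), (156, [(6, 0), (20, 0), (234, 0), (236, 0), (234, 1)], 637)]),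
  ([(0, 8), (1, 10), (2, 45), (3, 3)], .next 4 [(32, [], 620), (48, [(6, 0), (236, 0)], 625)]),
  ([(0, 8), (1, 10), (2, 45), (3, 3), (4, 32)], .next 5 [(19, [], 621), (36, [(238, 0)], 624)]),
  ([(0, 8), (1, 10), (2, 45), (3, 3), (4, 32), (5, 19)], .next 6 [(21, [], 622), (236, [], 623)]),
  ([(0, 8), (1, 10), (2, 45), (3, 3), (4, 32), (5, 19), (6, 21)], .rep [30, 113, 24, 27] 5 [(1, [1]), (1, [0, 0, 1]), (1, [0, 0, 0, 0, 1]), (1, [0, 0, 0, 0, 0, 0, 1]), (1, [0, 0, 0, 0, 0, 0, 0, 0, 1]), (1, [0, 0, 0, 0, 0, 0, 0, 0, 0, 0, 1]), (1, [0, 0, 0, 0, 0, 0, 0, 0, 0, 0, 0, 0, 1]), (1, [0, 0, 0, 0, -1, -1, -1])]),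
  ([(0, 8), (1, 10), (2, 45), (3, 3), (4, 32), (5, 19), (6, 236)], .rep [30, 113, 24, 26] 7 [(1, [1]), (1, [0, 0, 1]), (1, [0, 0, 0, 0, 1]), (1, [0, 0, 0, 0, 0, 0, 1]), (1, [0, 0, 0, 0, 0, 0, 0, 0, 1]), (1, [0, 0, 0, 0, 0, 0, 0, 0, 0, 0, 1]), (1, [0, 0, 0, 0, 0, 0, 0, 0, 0, 0, 0, 0, 1]), (1, [0, 0, 0, 0, -1, -1, -1])]),
  ([(0, 8), (1, 10), (2, 45), (3, 3), (4, 32), (5, 36)], .rep [236, 30, 113, 24, 27] 7 [(1, [1]), (1, [0, 0, 1]), (1, [0, 0, 0, 0, 1]), (1, [0, 0, 0, 0, 0, 0, 1]), (1, [0, 0, 0, 0, 0, 0, 0, 0, 1]), (1, [0, 0, 0, 0, 0, 0, 0, 0, 0, 0, 1]), (1, [0, 0, 0, 0, 0, 0, 0, 0, 0, 0, -1, -1]), (1, [0, 0, 0, 0, -1, -1, -1])]),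
  ([(0, 8), (1, 10), (2, 45), (3, 3), (4, 48)], .next 6 [(36, [], 626), (234, [], 627)]),
  ([(0, 8), (1, 10), (2, 45), (3, 3), (4, 48), (6, 36)], .rep [6, 178, 30, 113, 24, 27] 7 [(1, [1]), (1, [0, 0, 1]), (1, [0, 0, 0, 0, 1]), (1, [0, 0, 0, 0, 0, 0, 1]), (1, [0, 0, 0, 0, 0, 0, 0, 0, 1]), (1, [0, 0, 0, 0, 0, 0, -1, 0, -1, -1]), (1, [0, 0, 0, 0, 0, 0, 0, 0, 0, 0, 1]), (1, [0, 0, 0, 0, -1, -1, -1])]),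
  ([(0, 8), (1, 10), (2, 45), (3, 3), (4, 48), (6, 234)], .rep [78, 236, 16, 126, 0, 195] 8 [(1, [1]), (1, [0, 0, 1]), (1, [0, 0, 0, 0, 1]), (1, [0, 0, 0, 0, 0, 0, 1]), (1, [0, 0, 0, 0, 0, 0, 0, 0, 1]), (1, [0, 0, 0, 0, 0, 0, -1, 0, -1, -1]), (1, [0, 0, 0, 0, 0, 0, 0, 0, 0, 0, 1]), (1, [0, 0, 0, 0, -1, -1, -1])]),
  ([(0, 8), (1, 10), (2, 45), (3, 7)], .next 4 [(126, [], 629), (137, [(6, 0), (236, 0)], 634)]),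
  ([(0, 8), (1, 10), (2, 45), (3, 7), (4, 126)], .next 5 [(5, [], 630), (20, [(238, 0)], 633)]),
  ([(0, 8), (1, 10), (2, 45), (3, 7), (4, 126), (5, 5)], .next 6 [(6, [], 631), (237, [], 632)]),
  ([(0, 8), (1, 10), (2, 45), (3, 7), (4, 126), (5, 5), (6, 6)], .rep [20, 184, 30, 113, 9, 27] 8 [(1, [1]), (1, [0, 0, 1]), (1, [0, 0, 0, 0, 1]), (1, [0, 0, 0, 0, 0, 0, 1]), (1, [0, 0, 0, 0, 0, 0, 0, 0, 1]), (1, [0, 0, 0, 0, 0, 0, 0, 0, 0, 0, 1]), (1, [0, 0, 0, 0, 0, 0, 0, 0, 0, 0, 0, 0, 1]), (1, [0, 0, 0, 0, -1, -1, -1])]),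
  ([(0, 8), (1, 10), (2, 45), (3, 7), (4, 126), (5, 5), (6, 237)], .rep [6, 178, 16, 126, 24, 187] 7 [(1, [1]), (1, [0, 0, 1]), (1, [0, 0, 0, 0, 1]), (1, [0, 0, 0, 0, 0, 0, 1]), (1, [0, 0, 0, 0, 0, 0, 0, 0, 1]), (1, [0, 0, 0, 0, 0, 0, 0, 0, 0, 0, 1]), (1, [0, 0, 0, 0, 0, 0, 0, 0, 0, 0, 0, 0, 1]), (1, [0, 0, 0, 0, -1, -1, -1])]),
  ([(0, 8), (1, 10), (2, 45), (3, 7), (4, 126), (5, 20)], .rep [168, 2, 7, 42, 221] 7 [(1, [1]), (1, [0, 0, 1]), (1, [0, 0, 0, 0, 1]), (1, [0, 0, 0, 0, 0, 0, 1]), (1, [0, 0, 0, 0, 0, 0, 0, 0, 1]), (1, [0, 0, 0, 0, 0, 0, 0, 0, 0, 0, 1]), (1, [0, 0, 0, 0, 0, 0, 0, 0, 0, 0, -1, 1]), (1, [0, 0, 0, 0, -1, -1, -1])]),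
  ([(0, 8), (1, 10), (2, 45), (3, 7), (4, 137)], .next 6 [(20, [], 635), (235, [], 636)]),
  ([(0, 8), (1, 10), (2, 45), (3, 7), (4, 137), (6, 20)], .rep [6, 176, 2, 7, 73, 221] 7 [(1, [1]), (1, [0, 0, 1]), (1, [0, 0, 0, 0, 1]), (1, [0, 0, 0, 0, 0, 0, 1]), (1, [0, 0, 0, 0, 0, 0, 0, 0, 1]), (1, [-1, 0, -2, 0, -2, 1, -1, 0, -1, 1]), (1, [0, 0, 0, 0, 0, 0, 0, 0, 0, 0, 1]), (1, [0, 0, 0, 0, -1, -1, -1])]),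
  ([(0, 8), (1, 10), (2, 45), (3, 7), (4, 137), (6, 235)], .rep [30, 113, 11, 117] 5 [(1, [1]), (1, [0, 0, 1]), (1, [0, 0, 0, 0, 1]), (1, [0, 0, 0, 0, 0, 0, 1]), (1, [0, 0, 0, 0, 0, 0, 0, 0, 1]), (1, [-1, 0, -2, 0, -2, 1, -1, 0, -1, 1]), (1, [0, 0, 0, 0, 0, 0, 0, 0, 0, 0, 1]), (1, [0, 0, 0, 0, -1, -1, -1])]),
  ([(0, 8), (1, 10), (2, 45), (3, 156)], .next 4 [(64, [(238, 0)], 638)]),
  ([(0, 8), (1, 10), (2, 45), (3, 156), (4, 64)], .rep [6, 176, 30, 113, 11, 141] 7 [(1, [1]), (1, [0, 0, 1]), (1, [0, 0, 0, 0, 1]), (1, [0, 0, 0, 0, 0, 0, 1]), (1, [0, 0, 0, 0, 0, 0, 0, 0, 1]), (1, [-1, 0, -2, 0, -2, 1, -1, -1, -2]), (1, [1, 0, 2, 0, 2, -1, 0, 1, 1, -1]), (1, [0, 0, 0, 0, -1, -1, -1])]),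
  ([(0, 8), (1, 24)], .next 3 [(13, [], 640), (14, [(139, 0), (151, 0), (159, 0), (184, 0)], 662), (30, [(5, 0), (20, 0), (151, 0), (159, 0), (184, 0), (234, 0), (159, 1), (184, 1), (184, 2)], 671)])]

/-- Part 10. -/
def invTree10 : List Node := [
  ([(0, 8), (1, 24), (3, 13)], .next 4 [(4, [], 641), (18, [(6, 0), (139, 0), (236, 0), (139, 1), (236, 2)], 655), (166, [(6, 0), (236, 0)], 660)]),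
  ([(0, 8), (1, 24), (3, 13), (4, 4)], .next 5 [(5, [], 642), (20, [(238, 0)], 647), (151, [], 649), (159, [(238, 0)], 652)]),
  ([(0, 8), (1, 24), (3, 13), (4, 4), (5, 5)], .next 6 [(6, [], 643), (139, [], 645), (237, [], 646)]),
  ([(0, 8), (1, 24), (3, 13), (4, 4), (5, 5), (6, 6)], .next 7 [(14, [], 644)]),
  ([(0, 8), (1, 24), (3, 13), (4, 4), (5, 5), (6, 6), (7, 14)], .rep [9, 11] 4 [(1, [1]), (1, [0, 0, 1]), (1, [-1, 0, -1, 1]), (1, [0, 0, 0, 0, 1]), (1, [0, 0, 0, 0, 0, 0, 1]), (1, [0, 0, 0, 0, 0, 0, 0, 0, 1]), (1, [0, 0, 0, 0, 0, 0, 0, 0, 0, 0, 1]), (1, [0, 0, 0, 0, 0, 0, 0, 0, 0, 0, 0, 0, 1])]),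
  ([(0, 8), (1, 24), (3, 13), (4, 4), (5, 5), (6, 139)], .none 7 2 [2, 0, 1, -3, -2, 0, -1, 0, 0, 0, 0, 1] 3),
  ([(0, 8), (1, 24), (3, 13), (4, 4), (5, 5), (6, 237)], .rep [9, 11] 6 [(1, [1]), (1, [0, 0, 1]), (1, [-1, 0, -1, 1]), (1, [0, 0, 0, 0, 1]), (1, [0, 0, 0, 0, 0, 0, 1]), (1, [0, 0, 0, 0, 0, 0, 0, 0, 1]), (1, [0, 0, 0, 0, 0, 0, 0, 0, 0, 0, 1]), (3, [4, 0, 2, -6, -5, 0, -4, 0, -3, 0, -1, -1])]),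
  ([(0, 8), (1, 24), (3, 13), (4, 4), (5, 20)], .next 7 [(14, [], 648)]),
  ([(0, 8), (1, 24), (3, 13), (4, 4), (5, 20), (7, 14)], .rep [236, 46, 49, 67, 73] 6 [(1, [1]), (1, [0, 0, 1]), (1, [-1, 0, -1, 1]), (1, [0, 0, 0, 0, 1]), (1, [0, 0, 0, 0, 0, 0, 1]), (1, [0, 0, 0, 0, 0, 0, 0, 0, 1]), (1, [0, 0, 0, 0, 0, 0, 0, 0, -1, 1]), (1, [0, 0, 0, 0, 0, 0, 0, 0, 0, 0, 1])]),
  ([(0, 8), (1, 24), (3, 13), (4, 4), (5, 151)], .next 6 [(6, [], 650), (237, [], 651)]),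
  ([(0, 8), (1, 24), (3, 13), (4, 4), (5, 151), (6, 6)], .rep [20, 184, 9, 11] 6 [(1, [1]), (1, [0, 0, 1]), (1, [-1, 0, -1, 1]), (1, [0, 0, 0, 0, 1]), (1, [0, 0, 0, 0, 0, 0, 1]), (1, [0, 0, 0, 0, 0, 0, 0, 0, 1]), (1, [0, 0, 0, 0, 0, 0, 0, 0, 0, 0, 1]), (2, [2, 0, 1, -3, -2, 0, -1, 0, -1, 1])]),
  ([(0, 8), (1, 24), (3, 13), (4, 4), (5, 151), (6, 237)], .rep [5, 31, 20, 184, 7, 113] 9 [(1, [1]), (1, [0, 0, 1]), (1, [-1, 0, -1, 1]), (1, [0, 0, 0, 0, 1]), (1, [0, 0, 0, 0, 0, 0, 1]), (1, [0, 0, 0, 0, 0, 0, 0, 0, 1]), (1, [0, 0, 0, 0, 0, 0, 0, 0, 0, 0, 1]), (2, [2, 0, 1, -3, -2, 0, -1, 0, -1, 1])]),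
  ([(0, 8), (1, 24), (3, 13), (4, 4), (5, 159)], .next 6 [(21, [], 653), (146, [], 654)]),
  ([(0, 8), (1, 24), (3, 13), (4, 4), (5, 159), (6, 21)], .rep [111, 236, 46, 49, 27, 91] 9 [(1, [1]), (1, [0, 0, 1]), (1, [-1, 0, -1, 1]), (1, [0, 0, 0, 0, 1]), (1, [0, 0, 0, 0, 0, 0, 1]), (1, [0, 0, 0, 0, 0, 0, 0, 0, 1]), (1, [0, 0, 0, 0, 0, 0, 0, 0, 0, 0, 1]), (2, [2, 0, 1, -3, -2, 0, -1, 0, -1, 1, -1])]),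
  ([(0, 8), (1, 24), (3, 13), (4, 4), (5, 159), (6, 146)], .none 7 2 [2, 0, 1, -3, -2, 0, -1, 0, -1, 1, -1] 3),
  ([(0, 8), (1, 24), (3, 13), (4, 18)], .next 6 [(20, [], 656), (151, [], 658), (235, [], 659)]),
  ([(0, 8), (1, 24), (3, 13), (4, 18), (6, 20)], .next 7 [(14, [], 657)]),
  ([(0, 8), (1, 24), (3, 13), (4, 18), (6, 20), (7, 14)], .rep [6, 234, 30, 33, 53, 57] 6 [(1, [1]), (1, [0, 0, 1]), (1, [-1, 0, -1, 1]), (1, [0, 0, 0, 0, 1]), (1, [0, 0, 0, 0, 0, 0, 1]), (1, [0, 0, 0, 0, 0, 0, -1, 1]), (1, [0, 0, 0, 0, 0, 0, 0, 0, 1]), (1, [0, 0, 0, 0, 0, 0, 0, 0, 0, 0, 1])]),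
  ([(0, 8), (1, 24), (3, 13), (4, 18), (6, 151)], .none 7 2 [2, 0, 1, -3, -2, 0, 0, -1, 0, 1] 3),
  ([(0, 8), (1, 24), (3, 13), (4, 18), (6, 235)], .rep [99, 6, 234] 9 [(1, [1]), (1, [0, 0, 1]), (1, [-1, 0, -1, 1]), (1, [0, 0, 0, 0, 1]), (1, [0, 0, 0, 0, 0, 0, 1]), (1, [0, 0, 0, 0, 0, 0, -1, 1]), (1, [0, 0, 0, 0, 0, 0, 0, 0, 1]), (3, [4, 0, 2, -6, -5, 0, -2, -2, -1, -1])]),
  ([(0, 8), (1, 24), (3, 13), (4, 166)], .next 5 [(21, [(238, 0)], 661)]),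
  ([(0, 8), (1, 24), (3, 13), (4, 166), (5, 21)], .rep [99, 6, 224, 30, 49, 53, 73] 9 [(1, [1]), (1, [0, 0, 1]), (1, [-1, 0, -1, 1]), (1, [0, 0, 0, 0, 1]), (1, [0, 0, 0, 0, 0, 0, 1]), (1, [0, 0, 0, 0, 0, 0, 0, 0, 1]), (1, [0, 0, 0, 0, 0, 0, 0, 0, 0, -1]), (1, [2, 0, 1, -3, -3, 0, -2, -1, -1])]),
  ([(0, 8), (1, 24), (3, 14)], .next 4 [(146, [], 663), (157, [(6, 0), (236, 0)], 668)]),
  ([(0, 8), (1, 24), (3, 14), (4, 146)], .next 5 [(19, [], 664), (36, [(238, 0)], 667)]),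
  ([(0, 8), (1, 24), (3, 14), (4, 146), (5, 19)], .next 6 [(21, [], 665), (236, [], 666)]),
  ([(0, 8), (1, 24), (3, 14), (4, 146), (5, 19), (6, 21)], .rep [2, 1, 59] 5 [(1, [1]), (1, [0, 0, 1]), (1, [-1, 0, -1, 1]), (1, [0, 0, 0, 0, 1]), (1, [0, 0, 0, 0, 0, 0, 1]), (1, [0, 0, 0, 0, 0, 0, 0, 0, 1]), (1, [0, 0, 0, 0, 0, 0, 0, 0, 0, 0, 1]), (1, [1, 0, 1, -1, 0, 1])]),
  ([(0, 8), (1, 24), (3, 14), (4, 146), (5, 19), (6, 236)], .rep [9, 43] 7 [(1, [1]), (1, [0, 0, 1]), (1, [-1, 0, -1, 1]), (1, [0, 0, 0, 0, 1]), (1, [0, 0, 0, 0, 0, 0, 1]), (1, [0, 0, 0, 0, 0, 0, 0, 0, 1]), (1, [0, 0, 0, 0, 0, 0, 0, 0, 0, 0, 1]), (1, [1, 0, 1, -1, 0, 1])]),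
  ([(0, 8), (1, 24), (3, 14), (4, 146), (5, 36)], .rep [6, 238, 46, 49, 1, 59] 7 [(1, [1]), (1, [0, 0, 1]), (1, [-1, 0, -1, 1]), (1, [0, 0, 0, 0, 1]), (1, [0, 0, 0, 0, 0, 0, 1]), (1, [0, 0, 0, 0, 0, 0, 0, 0, 1]), (1, [0, 0, 0, 0, 0, 0, 0, 0, -1, -1]), (1, [1, 0, 1, -1, 0, 1])]),
  ([(0, 8), (1, 24), (3, 14), (4, 157)], .next 6 [(36, [], 669), (234, [], 670)]),
  ([(0, 8), (1, 24), (3, 14), (4, 157), (6, 36)], .rep [6, 234, 9, 43] 7 [(1, [1]), (1, [0, 0, 1]), (1, [-1, 0, -1, 1]), (1, [0, 0, 0, 0, 1]), (1, [0, 0, 0, 0, 0, 0, 1]), (1, [0, 0, -1, -1, -2, -2, -1, -1]), (1, [0, 0, 0, 0, 0, 0, 0, 0, 1]), (1, [1, 0, 1, -1, 0, 1])]),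
  ([(0, 8), (1, 24), (3, 14), (4, 157), (6, 234)], .rep [5, 111, 6, 178, 9, 11] 9 [(1, [1]), (1, [0, 0, 1]), (1, [-1, 0, -1, 1]), (1, [0, 0, 0, 0, 1]), (1, [0, 0, 0, 0, 0, 0, 1]), (1, [0, 0, -1, -1, -2, -2, -1, -1]), (1, [0, 0, 0, 0, 0, 0, 0, 0, 1]), (1, [1, 0, 1, -1, 0, 1])]),
  ([(0, 8), (1, 24), (3, 30)], .next 5 [(18, [], 672), (35, [(238, 0)], 677), (162, [], 679), (170, [(238, 0)], 682)]),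
  ([(0, 8), (1, 24), (3, 30), (5, 18)], .next 6 [(6, [], 673), (139, [], 675), (237, [], 676)]),
  ([(0, 8), (1, 24), (3, 30), (5, 18), (6, 6)], .next 7 [(14, [], 674)]),
  ([(0, 8), (1, 24), (3, 30), (5, 18), (6, 6), (7, 14)], .rep [20, 232, 13, 16, 9, 11] 6 [(1, [1]), (1, [0, 0, 1]), (1, [-1, 0, -1, 1]), (1, [0, 0, 0, 0, 1]), (1, [1, 0, 1, -1, -1, 1]), (1, [0, 0, 0, 0, 0, 0, 1]), (1, [0, 0, 0, 0, 0, 0, 0, 0, 1]), (1, [0, 0, 0, 0, 0, 0, 0, 0, 0, 0, 1])]),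
  ([(0, 8), (1, 24), (3, 30), (5, 18), (6, 139)], .none 7 2 [1, 0, 0, -2, -1, -1, 0, 0, 0, 1] 3),
  ([(0, 8), (1, 24), (3, 30), (5, 18), (6, 237)], .rep [5, 85, 20, 232, 49, 228, 9, 11] 9 [(1, [1]), (1, [0, 0, 1]), (1, [-1, 0, -1, 1]), (1, [0, 0, 0, 0, 1]), (1, [1, 0, 1, -1, -1, 1]), (1, [0, 0, 0, 0, 0, 0, 1]), (1, [0, 0, 0, 0, 0, 0, 0, 0, 1]), (3, [0, 0, -2, -2, -1, -4, -3, 0, -1, -1])]),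
  ([(0, 8), (1, 24), (3, 30), (5, 35)], .next 7 [(14, [], 678)]),
  ([(0, 8), (1, 24), (3, 30), (5, 35), (7, 14)], .rep [5, 111, 20, 232] 9 [(1, [1]), (1, [0, 0, 1]), (1, [-1, 0, -1, 1]), (1, [0, 0, 0, 0, 1]), (1, [1, 0, 1, -1, -1, 1]), (1, [0, 0, 0, 0, 0, 0, 1]), (1, [-1, 0, -1, 1, 1, -1, -1, 1]), (1, [0, 0, 0, 0, 0, 0, 0, 0, 1])]),
  ([(0, 8), (1, 24), (3, 30), (5, 162)], .next 6 [(6, [], 680), (237, [], 681)]),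
  ([(0, 8), (1, 24), (3, 30), (5, 162), (6, 6)], .rep [161, 35, 234, 13, 16, 59] 8 [(1, [1]), (1, [0, 0, 1]), (1, [-1, 0, -1, 1]), (1, [0, 0, 0, 0, 1]), (1, [1, 0, 1, -1, -1, 1]), (1, [0, 0, 0, 0, 0, 0, 1]), (1, [0, 0, 0, 0, 0, 0, 0, 0, 1]), (2, [0, 0, -1, -1, 0, -2, -1, 1])]),
  ([(0, 8), (1, 24), (3, 30), (5, 162), (6, 237)], .rep [6, 178, 3, 30, 26, 117] 7 [(1, [1]), (1, [0, 0, 1]), (1, [-1, 0, -1, 1]), (1, [0, 0, 0, 0, 1]), (1, [1, 0, 1, -1, -1, 1]), (1, [0, 0, 0, 0, 0, 0, 1]), (1, [0, 0, 0, 0, 0, 0, 0, 0, 1]), (2, [0, 0, -1, -1, 0, -2, -1, 1])]),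
  ([(0, 8), (1, 24), (3, 30), (5, 170)], .next 6 [(21, [], 683), (146, [], 684)]),
  ([(0, 8), (1, 24), (3, 30), (5, 170), (6, 21)], .rep [168, 7, 160, 9, 213] 7 [(1, [1]), (1, [0, 0, 1]), (1, [-1, 0, -1, 1]), (1, [0, 0, 0, 0, 1]), (1, [1, 0, 1, -1, -1, 1]), (1, [0, 0, 0, 0, 0, 0, 1]), (1, [0, 0, 0, 0, 0, 0, 0, 0, 1]), (2, [0, 0, -1, -1, 0, -2, -1, 1, -1])]),
  ([(0, 8), (1, 24), (3, 30), (5, 170), (6, 146)], .none 7 2 [0, 0, -1, -1, 0, -2, -1, 1, -1] 3),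
  ([(0, 8), (1, 25)], .next 3 [(28, [], 686), (29, [(139, 0), (151, 0), (159, 0), (184, 0)], 708), (44, [(5, 0), (20, 0), (151, 0), (159, 0), (184, 0), (234, 0), (159, 1), (184, 1), (184, 2)], 717)]),
  ([(0, 8), (1, 25), (3, 28)], .next 4 [(17, [], 687), (34, [(6, 0), (139, 0), (236, 0), (139, 1), (236, 2)], 701), (161, [(6, 0), (236, 0)], 706)]),
  ([(0, 8), (1, 25), (3, 28), (4, 17)], .next 5 [(19, [], 688), (36, [(238, 0)], 693), (157, [], 695), (164, [(238, 0)], 698)]),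
  ([(0, 8), (1, 25), (3, 28), (4, 17), (5, 19)], .next 6 [(21, [], 689), (146, [], 691), (236, [], 692)]),
  ([(0, 8), (1, 25), (3, 28), (4, 17), (5, 19), (6, 21)], .next 7 [(29, [], 690)]),
  ([(0, 8), (1, 25), (3, 28), (4, 17), (5, 19), (6, 21), (7, 29)], .rep [9, 11] 3 [(1, [1]), (1, [0, 0, 1]), (1, [0, 0, -1, -1]), (1, [0, 0, 0, 0, 1]), (1, [0, 0, 0, 0, 0, 0, 1]), (1, [0, 0, 0, 0, 0, 0, 0, 0, 1]), (1, [0, 0, 0, 0, 0, 0, 0, 0, 0, 0, 1]), (1, [0, 0, 0, 0, 0, 0, 0, 0, 0, 0, 0, 0, 1])]),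
  ([(0, 8), (1, 25), (3, 28), (4, 17), (5, 19), (6, 146)], .none 7 2 [-1, 0, 1, 3, -2, 0, -1, 0, 0, 0, 0, -1] 3),
  ([(0, 8), (1, 25), (3, 28), (4, 17), (5, 19), (6, 236)], .rep [49, 228, 9, 11] 5 [(1, [1]), (1, [0, 0, 1]), (1, [0, 0, -1, -1]), (1, [0, 0, 0, 0, 1]), (1, [0, 0, 0, 0, 0, 0, 1]), (1, [0, 0, 0, 0, 0, 0, 0, 0, 1]), (1, [0, 0, 0, 0, 0, 0, 0, 0, 0, 0, 1]), (3, [-2, 0, 2, 6, -5, 0, -4, 0, -3, 0, -1, 1])]),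
  ([(0, 8), (1, 25), (3, 28), (4, 17), (5, 36)], .next 7 [(29, [], 694)]),
  ([(0, 8), (1, 25), (3, 28), (4, 17), (5, 36), (7, 29)], .rep [46, 49, 9, 11] 5 [(1, [1]), (1, [0, 0, 1]), (1, [0, 0, -1, -1]), (1, [0, 0, 0, 0, 1]), (1, [0, 0, 0, 0, 0, 0, 1]), (1, [0, 0, 0, 0, 0, 0, 0, 0, 1]), (1, [0, 0, 0, 0, 0, 0, 0, 0, -1, -1]), (1, [0, 0, 0, 0, 0, 0, 0, 0, 0, 0, 1])]),
  ([(0, 8), (1, 25), (3, 28), (4, 17), (5, 157)], .next 6 [(21, [], 696), (236, [], 697)]),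
  ([(0, 8), (1, 25), (3, 28), (4, 17), (5, 157), (6, 21)], .rep [7, 113, 9, 11] 5 [(1, [1]), (1, [0, 0, 1]), (1, [0, 0, -1, -1]), (1, [0, 0, 0, 0, 1]), (1, [0, 0, 0, 0, 0, 0, 1]), (1, [0, 0, 0, 0, 0, 0, 0, 0, 1]), (1, [0, 0, 0, 0, 0, 0, 0, 0, 0, 0, 1]), (2, [-1, 0, 1, 3, -2, 0, -1, 0, -1, -1])]),
  ([(0, 8), (1, 25), (3, 28), (4, 17), (5, 157), (6, 236)], .rep [49, 228, 27, 91] 7 [(1, [1]), (1, [0, 0, 1]), (1, [0, 0, -1, -1]), (1, [0, 0, 0, 0, 1]), (1, [0, 0, 0, 0, 0, 0, 1]), (1, [0, 0, 0, 0, 0, 0, 0, 0, 1]), (1, [0, 0, 0, 0, 0, 0, 0, 0, 0, 0, 1]), (2, [-1, 0, 1, 3, -2, 0, -1, 0, -1, -1])]),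
  ([(0, 8), (1, 25), (3, 28), (4, 17), (5, 164)], .next 6 [(6, [], 699), (139, [], 700)]),
  ([(0, 8), (1, 25), (3, 28), (4, 17), (5, 164), (6, 6)], .rep [236, 46, 49, 27, 91] 7 [(1, [1]), (1, [0, 0, 1]), (1, [0, 0, -1, -1]), (1, [0, 0, 0, 0, 1]), (1, [0, 0, 0, 0, 0, 0, 1]), (1, [0, 0, 0, 0, 0, 0, 0, 0, 1]), (1, [0, 0, 0, 0, 0, 0, 0, 0, 0, 0, 1]), (2, [-1, 0, 1, 3, -2, 0, -1, 0, -1, -1, -1])]),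
  ([(0, 8), (1, 25), (3, 28), (4, 17), (5, 164), (6, 139)], .none 7 2 [-1, 0, 1, 3, -2, 0, -1, 0, -1, -1, -1] 3),
  ([(0, 8), (1, 25), (3, 28), (4, 34)], .next 6 [(36, [], 702), (157, [], 704), (234, [], 705)]),
  ([(0, 8), (1, 25), (3, 28), (4, 34), (6, 36)], .next 7 [(29, [], 703)]),
  ([(0, 8), (1, 25), (3, 28), (4, 34), (6, 36), (7, 29)], .rep [30, 33, 9, 11] 5 [(1, [1]), (1, [0, 0, 1]), (1, [0, 0, -1, -1]), (1, [0, 0, 0, 0, 1]), (1, [0, 0, 0, 0, 0, 0, 1]), (1, [0, 0, 0, 0, 0, 0, -1, -1]), (1, [0, 0, 0, 0, 0, 0, 0, 0, 1]), (1, [0, 0, 0, 0, 0, 0, 0, 0, 0, 0, 1])])]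

/-- Part 11. -/
def invTree11 : List Node := [
  ([(0, 8), (1, 25), (3, 28), (4, 34), (6, 157)], .none 7 2 [-1, 0, 1, 3, -2, 0, 0, 1, 0, -1] 3),
  ([(0, 8), (1, 25), (3, 28), (4, 34), (6, 234)], .rep [49, 228, 53, 57] 7 [(1, [1]), (1, [0, 0, 1]), (1, [0, 0, -1, -1]), (1, [0, 0, 0, 0, 1]), (1, [0, 0, 0, 0, 0, 0, 1]), (1, [0, 0, 0, 0, 0, 0, -1, -1]), (1, [0, 0, 0, 0, 0, 0, 0, 0, 1]), (3, [-2, 0, 2, 6, -5, 0, -2, 2, -1, 1])]),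
  ([(0, 8), (1, 25), (3, 28), (4, 161)], .next 5 [(6, [(238, 0)], 707)]),
  ([(0, 8), (1, 25), (3, 28), (4, 161), (5, 6)], .rep [234, 30, 49, 39, 206] 7 [(1, [1]), (1, [0, 0, 1]), (1, [0, 0, -1, -1]), (1, [0, 0, 0, 0, 1]), (1, [0, 0, 0, 0, 0, 0, 1]), (1, [0, 0, 0, 0, 0, 0, 0, 0, 1]), (1, [0, 0, 0, 0, 0, 0, 0, 0, 0, 1]), (1, [-1, 0, 1, 3, -3, 0, -2, 1, -1])]),
  ([(0, 8), (1, 25), (3, 29)], .next 4 [(139, [], 709), (151, [(6, 0), (236, 0)], 714)]),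
  ([(0, 8), (1, 25), (3, 29), (4, 139)], .next 5 [(5, [], 710), (20, [(238, 0)], 713)]),
  ([(0, 8), (1, 25), (3, 29), (4, 139), (5, 5)], .next 6 [(6, [], 711), (237, [], 712)]),
  ([(0, 8), (1, 25), (3, 29), (4, 139), (5, 5), (6, 6)], .rep [35, 207, 2, 1, 59] 6 [(1, [1]), (1, [0, 0, 1]), (1, [0, 0, -1, -1]), (1, [0, 0, 0, 0, 1]), (1, [0, 0, 0, 0, 0, 0, 1]), (1, [0, 0, 0, 0, 0, 0, 0, 0, 1]), (1, [0, 0, 0, 0, 0, 0, 0, 0, 0, 0, 1]), (1, [0, 0, 1, 1, 0, -1])]),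
  ([(0, 8), (1, 25), (3, 29), (4, 139), (5, 5), (6, 237)], .rep [31, 111, 30, 113] 9 [(1, [1]), (1, [0, 0, 1]), (1, [0, 0, -1, -1]), (1, [0, 0, 0, 0, 1]), (1, [0, 0, 0, 0, 0, 0, 1]), (1, [0, 0, 0, 0, 0, 0, 0, 0, 1]), (1, [0, 0, 0, 0, 0, 0, 0, 0, 0, 0, 1]), (1, [0, 0, 1, 1, 0, -1])]),
  ([(0, 8), (1, 25), (3, 29), (4, 139), (5, 20)], .rep [162, 35, 207, 46, 49, 67, 73] 9 [(1, [1]), (1, [0, 0, 1]), (1, [0, 0, -1, -1]), (1, [0, 0, 0, 0, 1]), (1, [0, 0, 0, 0, 0, 0, 1]), (1, [0, 0, 0, 0, 0, 0, 0, 0, 1]), (1, [0, 0, 0, 0, 0, 0, 0, 0, -1, 1]), (1, [0, 0, 1, 1, 0, -1])]),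
  ([(0, 8), (1, 25), (3, 29), (4, 151)], .next 6 [(20, [], 715), (235, [], 716)]),
  ([(0, 8), (1, 25), (3, 29), (4, 151), (6, 20)], .rep [99, 35, 224, 3, 7, 9, 43] 9 [(1, [1]), (1, [0, 0, 1]), (1, [0, 0, -1, -1]), (1, [0, 0, 0, 0, 1]), (1, [0, 0, 0, 0, 0, 0, 1]), (1, [-1, 0, -1, 1, -2, 2, -1, 1]), (1, [0, 0, 0, 0, 0, 0, 0, 0, 1]), (1, [0, 0, 1, 1, 0, -1])]),
  ([(0, 8), (1, 25), (3, 29), (4, 151), (6, 235)], .rep [35, 207, 30, 113, 26, 117] 7 [(1, [1]), (1, [0, 0, 1]), (1, [0, 0, -1, -1]), (1, [0, 0, 0, 0, 1]), (1, [0, 0, 0, 0, 0, 0, 1]), (1, [-1, 0, -1, 1, -2, 2, -1, 1]), (1, [0, 0, 0, 0, 0, 0, 0, 0, 1]), (1, [0, 0, 1, 1, 0, -1])]),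
  ([(0, 8), (1, 25), (3, 44)], .next 5 [(34, [], 718), (50, [(238, 0)], 723), (167, [], 725), (174, [(238, 0)], 728)]),
  ([(0, 8), (1, 25), (3, 44), (5, 34)], .next 6 [(21, [], 719), (146, [], 721), (236, [], 722)]),
  ([(0, 8), (1, 25), (3, 44), (5, 34), (6, 21)], .next 7 [(29, [], 720)]),
  ([(0, 8), (1, 25), (3, 44), (5, 34), (6, 21), (7, 29)], .rep [13, 16, 9, 11] 5 [(1, [1]), (1, [0, 0, 1]), (1, [0, 0, -1, -1]), (1, [0, 0, 0, 0, 1]), (1, [0, 0, 1, 1, -1, -1]), (1, [0, 0, 0, 0, 0, 0, 1]), (1, [0, 0, 0, 0, 0, 0, 0, 0, 1]), (1, [0, 0, 0, 0, 0, 0, 0, 0, 0, 0, 1])]),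
  ([(0, 8), (1, 25), (3, 44), (5, 34), (6, 146)], .none 7 2 [-1, 0, 0, 2, -1, 1, 0, 0, 0, -1] 3),
  ([(0, 8), (1, 25), (3, 44), (5, 34), (6, 236)], .rep [20, 232, 13, 16, 73, 221] 7 [(1, [1]), (1, [0, 0, 1]), (1, [0, 0, -1, -1]), (1, [0, 0, 0, 0, 1]), (1, [0, 0, 1, 1, -1, -1]), (1, [0, 0, 0, 0, 0, 0, 1]), (1, [0, 0, 0, 0, 0, 0, 0, 0, 1]), (3, [-2, 0, -2, 2, -1, 4, -3, 0, -1, 1])]),
  ([(0, 8), (1, 25), (3, 44), (5, 50)], .next 7 [(29, [], 724)]),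
  ([(0, 8), (1, 25), (3, 44), (5, 50), (7, 29)], .rep [236, 38, 42] 7 [(1, [1]), (1, [0, 0, 1]), (1, [0, 0, -1, -1]), (1, [0, 0, 0, 0, 1]), (1, [0, 0, 1, 1, -1, -1]), (1, [0, 0, 0, 0, 0, 0, 1]), (1, [0, 0, -1, -1, 1, 1, -1, -1]), (1, [0, 0, 0, 0, 0, 0, 0, 0, 1])]),
  ([(0, 8), (1, 25), (3, 44), (5, 167)], .next 6 [(21, [], 726), (236, [], 727)]),
  ([(0, 8), (1, 25), (3, 44), (5, 167), (6, 21)], .rep [20, 184, 13, 16, 9, 11] 7 [(1, [1]), (1, [0, 0, 1]), (1, [0, 0, -1, -1]), (1, [0, 0, 0, 0, 1]), (1, [0, 0, 1, 1, -1, -1]), (1, [0, 0, 0, 0, 0, 0, 1]), (1, [0, 0, 0, 0, 0, 0, 0, 0, 1]), (2, [-1, 0, -1, 1, 0, 2, -1, -1])]),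
  ([(0, 8), (1, 25), (3, 44), (5, 167), (6, 236)], .rep [5, 31, 6, 207, 7, 33] 9 [(1, [1]), (1, [0, 0, 1]), (1, [0, 0, -1, -1]), (1, [0, 0, 0, 0, 1]), (1, [0, 0, 1, 1, -1, -1]), (1, [0, 0, 0, 0, 0, 0, 1]), (1, [0, 0, 0, 0, 0, 0, 0, 0, 1]), (2, [-1, 0, -1, 1, 0, 2, -1, -1])]),
  ([(0, 8), (1, 25), (3, 44), (5, 174)], .next 6 [(6, [], 729), (139, [], 730)]),
  ([(0, 8), (1, 25), (3, 44), (5, 174), (6, 6)], .rep [5, 99, 35, 234, 3, 192, 9, 213] 9 [(1, [1]), (1, [0, 0, 1]), (1, [0, 0, -1, -1]), (1, [0, 0, 0, 0, 1]), (1, [0, 0, 1, 1, -1, -1]), (1, [0, 0, 0, 0, 0, 0, 1]), (1, [0, 0, 0, 0, 0, 0, 0, 0, 1]), (2, [-1, 0, -1, 1, 0, 2, -1, -1, -1])]),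
  ([(0, 8), (1, 25), (3, 44), (5, 174), (6, 139)], .none 7 2 [-1, 0, -1, 1, 0, 2, -1, -1, -1] 3),
  ([(0, 9)], .next 2 [(11, [], 732), (26, [(4, 0), (18, 0), (35, 0), (161, 0), (162, 0), (168, 0), (170, 0), (176, 0), (178, 0), (232, 0), (161, 1), (168, 1), (178, 1), (161, 2), (162, 4)], 778), (43, [(4, 0), (18, 0), (35, 0), (139, 0), (151, 0), (159, 0), (184, 0), (232, 0), (139, 1)], 800)]),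
  ([(0, 9), (2, 11)], .next 3 [(3, [], 733), (7, [(139, 0), (151, 0), (159, 0), (184, 0)], 755), (16, [(5, 0), (20, 0), (151, 0), (159, 0), (184, 0), (234, 0), (159, 1), (184, 1), (184, 2)], 764)]),
  ([(0, 9), (2, 11), (3, 3)], .next 4 [(4, [], 734), (18, [(6, 0), (139, 0), (236, 0), (139, 1), (236, 2)], 748), (166, [(6, 0), (236, 0)], 753)]),
  ([(0, 9), (2, 11), (3, 3), (4, 4)], .next 5 [(5, [], 735), (20, [(238, 0)], 740), (151, [], 742), (159, [(238, 0)], 745)]),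
  ([(0, 9), (2, 11), (3, 3), (4, 4), (5, 5)], .next 6 [(6, [], 736), (139, [], 738), (237, [], 739)]),
  ([(0, 9), (2, 11), (3, 3), (4, 4), (5, 5), (6, 6)], .next 7 [(7, [], 737)]),
  ([(0, 9), (2, 11), (3, 3), (4, 4), (5, 5), (6, 6), (7, 7)], .rep [0, 9] 2 [(1, [1]), (1, [-1, 1]), (1, [0, 0, 1]), (1, [0, 0, 0, 0, 1]), (1, [0, 0, 0, 0, 0, 0, 1]), (1, [0, 0, 0, 0, 0, 0, 0, 0, 1]), (1, [0, 0, 0, 0, 0, 0, 0, 0, 0, 0, 1]), (1, [0, 0, 0, 0, 0, 0, 0, 0, 0, 0, 0, 0, 1])]),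
  ([(0, 9), (2, 11), (3, 3), (4, 4), (5, 5), (6, 139)], .none 7 2 [1, -2, -3, 0, -2, 0, -1, 0, 0, 0, 0, 1] 3),
  ([(0, 9), (2, 11), (3, 3), (4, 4), (5, 5), (6, 237)], .rep [2, 49, 73, 221] 4 [(1, [1]), (1, [-1, 1]), (1, [0, 0, 1]), (1, [0, 0, 0, 0, 1]), (1, [0, 0, 0, 0, 0, 0, 1]), (1, [0, 0, 0, 0, 0, 0, 0, 0, 1]), (1, [0, 0, 0, 0, 0, 0, 0, 0, 0, 0, 1]), (3, [2, -4, -6, 0, -5, 0, -4, 0, -3, 0, -1, -1])]),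
  ([(0, 9), (2, 11), (3, 3), (4, 4), (5, 20)], .next 7 [(7, [], 741)]),
  ([(0, 9), (2, 11), (3, 3), (4, 4), (5, 20), (7, 7)], .rep [46, 49, 0, 9] 4 [(1, [1]), (1, [-1, 1]), (1, [0, 0, 1]), (1, [0, 0, 0, 0, 1]), (1, [0, 0, 0, 0, 0, 0, 1]), (1, [0, 0, 0, 0, 0, 0, 0, 0, 1]), (1, [0, 0, 0, 0, 0, 0, 0, 0, -1, 1]), (1, [0, 0, 0, 0, 0, 0, 0, 0, 0, 0, 1])]),
  ([(0, 9), (2, 11), (3, 3), (4, 4), (5, 151)], .next 6 [(6, [], 743), (237, [], 744)]),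
  ([(0, 9), (2, 11), (3, 3), (4, 4), (5, 151), (6, 6)], .rep [7, 113, 0, 9] 4 [(1, [1]), (1, [-1, 1]), (1, [0, 0, 1]), (1, [0, 0, 0, 0, 1]), (1, [0, 0, 0, 0, 0, 0, 1]), (1, [0, 0, 0, 0, 0, 0, 0, 0, 1]), (1, [0, 0, 0, 0, 0, 0, 0, 0, 0, 0, 1]), (2, [1, -2, -3, 0, -2, 0, -1, 0, -1, 1])]),
  ([(0, 9), (2, 11), (3, 3), (4, 4), (5, 151), (6, 237)], .rep [2, 7, 27, 91] 6 [(1, [1]), (1, [-1, 1]), (1, [0, 0, 1]), (1, [0, 0, 0, 0, 1]), (1, [0, 0, 0, 0, 0, 0, 1]), (1, [0, 0, 0, 0, 0, 0, 0, 0, 1]), (1, [0, 0, 0, 0, 0, 0, 0, 0, 0, 0, 1]), (2, [1, -2, -3, 0, -2, 0, -1, 0, -1, 1])]),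
  ([(0, 9), (2, 11), (3, 3), (4, 4), (5, 159)], .next 6 [(21, [], 746), (146, [], 747)]),
  ([(0, 9), (2, 11), (3, 3), (4, 4), (5, 159), (6, 21)], .rep [78, 2, 49, 67, 73] 6 [(1, [1]), (1, [-1, 1]), (1, [0, 0, 1]), (1, [0, 0, 0, 0, 1]), (1, [0, 0, 0, 0, 0, 0, 1]), (1, [0, 0, 0, 0, 0, 0, 0, 0, 1]), (1, [0, 0, 0, 0, 0, 0, 0, 0, 0, 0, 1]), (2, [1, -2, -3, 0, -2, 0, -1, 0, -1, 1, -1])]),
  ([(0, 9), (2, 11), (3, 3), (4, 4), (5, 159), (6, 146)], .none 7 2 [1, -2, -3, 0, -2, 0, -1, 0, -1, 1, -1] 3),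
  ([(0, 9), (2, 11), (3, 3), (4, 18)], .next 6 [(20, [], 749), (151, [], 751), (235, [], 752)]),
  ([(0, 9), (2, 11), (3, 3), (4, 18), (6, 20)], .next 7 [(7, [], 750)]),
  ([(0, 9), (2, 11), (3, 3), (4, 18), (6, 20), (7, 7)], .rep [30, 33, 0, 9] 4 [(1, [1]), (1, [-1, 1]), (1, [0, 0, 1]), (1, [0, 0, 0, 0, 1]), (1, [0, 0, 0, 0, 0, 0, 1]), (1, [0, 0, 0, 0, 0, 0, -1, 1]), (1, [0, 0, 0, 0, 0, 0, 0, 0, 1]), (1, [0, 0, 0, 0, 0, 0, 0, 0, 0, 0, 1])]),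
  ([(0, 9), (2, 11), (3, 3), (4, 18), (6, 151)], .none 7 2 [1, -2, -3, 0, -2, 0, 0, -1, 0, 1] 3),
  ([(0, 9), (2, 11), (3, 3), (4, 18), (6, 235)], .rep [6, 234, 2, 49, 73, 221] 6 [(1, [1]), (1, [-1, 1]), (1, [0, 0, 1]), (1, [0, 0, 0, 0, 1]), (1, [0, 0, 0, 0, 0, 0, 1]), (1, [0, 0, 0, 0, 0, 0, -1, 1]), (1, [0, 0, 0, 0, 0, 0, 0, 0, 1]), (3, [2, -4, -6, 0, -5, 0, -2, -2, -1, -1])]),
  ([(0, 9), (2, 11), (3, 3), (4, 166)], .next 5 [(21, [(238, 0)], 754)]),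
  ([(0, 9), (2, 11), (3, 3), (4, 166), (5, 21)], .rep [78, 238, 7, 33, 53, 73] 6 [(1, [1]), (1, [-1, 1]), (1, [0, 0, 1]), (1, [0, 0, 0, 0, 1]), (1, [0, 0, 0, 0, 0, 0, 1]), (1, [0, 0, 0, 0, 0, 0, 0, 0, 1]), (1, [0, 0, 0, 0, 0, 0, 0, 0, 0, -1]), (1, [1, -2, -3, 0, -3, 0, -2, -1, -1])]),
  ([(0, 9), (2, 11), (3, 7)], .next 4 [(146, [], 756), (157, [(6, 0), (236, 0)], 761)]),
  ([(0, 9), (2, 11), (3, 7), (4, 146)], .next 5 [(19, [], 757), (36, [(238, 0)], 760)]),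
  ([(0, 9), (2, 11), (3, 7), (4, 146), (5, 19)], .next 6 [(21, [], 758), (236, [], 759)]),
  ([(0, 9), (2, 11), (3, 7), (4, 146), (5, 19), (6, 21)], .rep [35, 207, 3, 7, 11] 7 [(1, [1]), (1, [-1, 1]), (1, [0, 0, 1]), (1, [0, 0, 0, 0, 1]), (1, [0, 0, 0, 0, 0, 0, 1]), (1, [0, 0, 0, 0, 0, 0, 0, 0, 1]), (1, [0, 0, 0, 0, 0, 0, 0, 0, 0, 0, 1]), (1, [0, 0, 0, 0, 0, 1])]),
  ([(0, 9), (2, 11), (3, 7), (4, 146), (5, 19), (6, 236)], .rep [111, 78, 236, 30, 33, 27, 117] 9 [(1, [1]), (1, [-1, 1]), (1, [0, 0, 1]), (1, [0, 0, 0, 0, 1]), (1, [0, 0, 0, 0, 0, 0, 1]), (1, [0, 0, 0, 0, 0, 0, 0, 0, 1]), (1, [0, 0, 0, 0, 0, 0, 0, 0, 0, 0, 1]), (1, [0, 0, 0, 0, 0, 1])]),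
  ([(0, 9), (2, 11), (3, 7), (4, 146), (5, 36)], .rep [31, 35, 234, 13, 14, 42, 221] 9 [(1, [1]), (1, [-1, 1]), (1, [0, 0, 1]), (1, [0, 0, 0, 0, 1]), (1, [0, 0, 0, 0, 0, 0, 1]), (1, [0, 0, 0, 0, 0, 0, 0, 0, 1]), (1, [0, 0, 0, 0, 0, 0, 0, 0, -1, -1]), (1, [0, 0, 0, 0, 0, 1])]),
  ([(0, 9), (2, 11), (3, 7), (4, 157)], .next 6 [(36, [], 762), (234, [], 763)]),
  ([(0, 9), (2, 11), (3, 7), (4, 157), (6, 36)], .rep [31, 170, 236, 3, 138, 73, 221] 9 [(1, [1]), (1, [-1, 1]), (1, [0, 0, 1]), (1, [0, 0, 0, 0, 1]), (1, [0, 0, 0, 0, 0, 0, 1]), (1, [1, -2, -3, 0, -2, -2, -1, -1]), (1, [0, 0, 0, 0, 0, 0, 0, 0, 1]), (1, [0, 0, 0, 0, 0, 1])]),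
  ([(0, 9), (2, 11), (3, 7), (4, 157), (6, 234)], .rep [35, 207, 2, 7, 27, 117] 6 [(1, [1]), (1, [-1, 1]), (1, [0, 0, 1]), (1, [0, 0, 0, 0, 1]), (1, [0, 0, 0, 0, 0, 0, 1]), (1, [1, -2, -3, 0, -2, -2, -1, -1]), (1, [0, 0, 0, 0, 0, 0, 0, 0, 1]), (1, [0, 0, 0, 0, 0, 1])]),
  ([(0, 9), (2, 11), (3, 16)], .next 5 [(18, [], 765), (35, [(238, 0)], 770), (162, [], 772), (170, [(238, 0)], 775)]),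
  ([(0, 9), (2, 11), (3, 16), (5, 18)], .next 6 [(6, [], 766), (139, [], 768), (237, [], 769)]),
  ([(0, 9), (2, 11), (3, 16), (5, 18), (6, 6)], .next 7 [(7, [], 767)]),
  ([(0, 9), (2, 11), (3, 16), (5, 18), (6, 6), (7, 7)], .rep [13, 16, 0, 9] 4 [(1, [1]), (1, [-1, 1]), (1, [0, 0, 1]), (1, [0, 0, 0, 0, 1]), (1, [0, 0, 0, 0, -1, 1]), (1, [0, 0, 0, 0, 0, 0, 1]), (1, [0, 0, 0, 0, 0, 0, 0, 0, 1]), (1, [0, 0, 0, 0, 0, 0, 0, 0, 0, 0, 1])])]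

/-- Part 12. -/
def invTree12 : List Node := [
  ([(0, 9), (2, 11), (3, 16), (5, 18), (6, 139)], .none 7 2 [1, -2, -3, 0, -1, -1, 0, 0, 0, 1] 3),
  ([(0, 9), (2, 11), (3, 16), (5, 18), (6, 237)], .rep [2, 16, 38, 42] 6 [(1, [1]), (1, [-1, 1]), (1, [0, 0, 1]), (1, [0, 0, 0, 0, 1]), (1, [0, 0, 0, 0, -1, 1]), (1, [0, 0, 0, 0, 0, 0, 1]), (1, [0, 0, 0, 0, 0, 0, 0, 0, 1]), (3, [2, -4, -6, 0, -1, -4, -3, 0, -1, -1])]),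
  ([(0, 9), (2, 11), (3, 16), (5, 35)], .next 7 [(7, [], 771)]),
  ([(0, 9), (2, 11), (3, 16), (5, 35), (7, 7)], .rep [6, 234, 46, 49, 38, 42] 6 [(1, [1]), (1, [-1, 1]), (1, [0, 0, 1]), (1, [0, 0, 0, 0, 1]), (1, [0, 0, 0, 0, -1, 1]), (1, [0, 0, 0, 0, 0, 0, 1]), (1, [0, 0, 0, 0, 1, -1, -1, 1]), (1, [0, 0, 0, 0, 0, 0, 0, 0, 1])]),
  ([(0, 9), (2, 11), (3, 16), (5, 162)], .next 6 [(6, [], 773), (237, [], 774)]),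
  ([(0, 9), (2, 11), (3, 16), (5, 162), (6, 6)], .rep [20, 232, 7, 113, 0, 9] 6 [(1, [1]), (1, [-1, 1]), (1, [0, 0, 1]), (1, [0, 0, 0, 0, 1]), (1, [0, 0, 0, 0, -1, 1]), (1, [0, 0, 0, 0, 0, 0, 1]), (1, [0, 0, 0, 0, 0, 0, 0, 0, 1]), (2, [1, -2, -3, 0, 0, -2, -1, 1])]),
  ([(0, 9), (2, 11), (3, 16), (5, 162), (6, 237)], .rep [162, 78, 234, 13, 16, 27, 91] 9 [(1, [1]), (1, [-1, 1]), (1, [0, 0, 1]), (1, [0, 0, 0, 0, 1]), (1, [0, 0, 0, 0, -1, 1]), (1, [0, 0, 0, 0, 0, 0, 1]), (1, [0, 0, 0, 0, 0, 0, 0, 0, 1]), (2, [1, -2, -3, 0, 0, -2, -1, 1])]),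
  ([(0, 9), (2, 11), (3, 16), (5, 170)], .next 6 [(21, [], 776), (146, [], 777)]),
  ([(0, 9), (2, 11), (3, 16), (5, 170), (6, 21)], .rep [5, 99, 6, 234, 46, 49, 38, 42] 9 [(1, [1]), (1, [-1, 1]), (1, [0, 0, 1]), (1, [0, 0, 0, 0, 1]), (1, [0, 0, 0, 0, -1, 1]), (1, [0, 0, 0, 0, 0, 0, 1]), (1, [0, 0, 0, 0, 0, 0, 0, 0, 1]), (2, [1, -2, -3, 0, 0, -2, -1, 1, -1])]),
  ([(0, 9), (2, 11), (3, 16), (5, 170), (6, 146)], .none 7 2 [1, -2, -3, 0, 0, -2, -1, 1, -1] 3),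
  ([(0, 9), (2, 26)], .next 4 [(16, [], 779), (33, [(6, 0), (139, 0), (236, 0), (139, 1), (236, 2)], 793), (156, [(6, 0), (236, 0)], 798)]),
  ([(0, 9), (2, 26), (4, 16)], .next 5 [(5, [], 780), (20, [(238, 0)], 785), (151, [], 787), (159, [(238, 0)], 790)]),
  ([(0, 9), (2, 26), (4, 16), (5, 5)], .next 6 [(6, [], 781), (139, [], 783), (237, [], 784)]),
  ([(0, 9), (2, 26), (4, 16), (5, 5), (6, 6)], .next 7 [(7, [], 782)]),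
  ([(0, 9), (2, 26), (4, 16), (5, 5), (6, 6), (7, 7)], .rep [2, 13, 0, 9] 4 [(1, [1]), (1, [-1, 1]), (1, [0, 0, 1]), (1, [1, -1, -1, 1]), (1, [0, 0, 0, 0, 1]), (1, [0, 0, 0, 0, 0, 0, 1]), (1, [0, 0, 0, 0, 0, 0, 0, 0, 1]), (1, [0, 0, 0, 0, 0, 0, 0, 0, 0, 0, 1])]),
  ([(0, 9), (2, 26), (4, 16), (5, 5), (6, 139)], .none 7 2 [-1, 0, -1, -2, -1, 0, 0, 0, 0, 1] 3),
  ([(0, 9), (2, 26), (4, 16), (5, 5), (6, 237)], .rep [35, 238, 49, 228, 0, 9] 6 [(1, [1]), (1, [-1, 1]), (1, [0, 0, 1]), (1, [1, -1, -1, 1]), (1, [0, 0, 0, 0, 1]), (1, [0, 0, 0, 0, 0, 0, 1]), (1, [0, 0, 0, 0, 0, 0, 0, 0, 1]), (3, [-3, 1, -1, -5, -4, 0, -3, 0, -1, -1])]),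
  ([(0, 9), (2, 26), (4, 16), (5, 20)], .next 7 [(7, [], 786)]),
  ([(0, 9), (2, 26), (4, 16), (5, 20), (7, 7)], .rep [35, 238, 2, 13, 67, 73] 6 [(1, [1]), (1, [-1, 1]), (1, [0, 0, 1]), (1, [1, -1, -1, 1]), (1, [0, 0, 0, 0, 1]), (1, [0, 0, 0, 0, 0, 0, 1]), (1, [0, 0, 0, 0, 0, 0, -1, 1]), (1, [0, 0, 0, 0, 0, 0, 0, 0, 1])]),
  ([(0, 9), (2, 26), (4, 16), (5, 151)], .next 6 [(6, [], 788), (237, [], 789)]),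
  ([(0, 9), (2, 26), (4, 16), (5, 151), (6, 6)], .rep [78, 232, 7, 113, 24, 26] 6 [(1, [1]), (1, [-1, 1]), (1, [0, 0, 1]), (1, [1, -1, -1, 1]), (1, [0, 0, 0, 0, 1]), (1, [0, 0, 0, 0, 0, 0, 1]), (1, [0, 0, 0, 0, 0, 0, 0, 0, 1]), (2, [-1, 0, -1, -2, -1, 0, -1, 1])]),
  ([(0, 9), (2, 26), (4, 16), (5, 151), (6, 237)], .rep [5, 99, 7, 113, 0, 9] 9 [(1, [1]), (1, [-1, 1]), (1, [0, 0, 1]), (1, [1, -1, -1, 1]), (1, [0, 0, 0, 0, 1]), (1, [0, 0, 0, 0, 0, 0, 1]), (1, [0, 0, 0, 0, 0, 0, 0, 0, 1]), (2, [-1, 0, -1, -2, -1, 0, -1, 1])]),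
  ([(0, 9), (2, 26), (4, 16), (5, 159)], .next 6 [(21, [], 791), (146, [], 792)]),
  ([(0, 9), (2, 26), (4, 16), (5, 159), (6, 21)], .rep [5, 111, 20, 184, 2, 3, 24, 26] 9 [(1, [1]), (1, [-1, 1]), (1, [0, 0, 1]), (1, [1, -1, -1, 1]), (1, [0, 0, 0, 0, 1]), (1, [0, 0, 0, 0, 0, 0, 1]), (1, [0, 0, 0, 0, 0, 0, 0, 0, 1]), (2, [-1, 0, -1, -2, -1, 0, -1, 1, -1])]),
  ([(0, 9), (2, 26), (4, 16), (5, 159), (6, 146)], .none 7 2 [-1, 0, -1, -2, -1, 0, -1, 1, -1] 3),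
  ([(0, 9), (2, 26), (4, 33)], .next 6 [(20, [], 794), (151, [], 796), (235, [], 797)]),
  ([(0, 9), (2, 26), (4, 33), (6, 20)], .next 7 [(7, [], 795)]),
  ([(0, 9), (2, 26), (4, 33), (6, 20), (7, 7)], .rep [20, 232, 30, 33, 24, 26] 6 [(1, [1]), (1, [-1, 1]), (1, [0, 0, 1]), (1, [1, -1, -1, 1]), (1, [0, 0, 0, 0, 1]), (1, [-1, 1, 1, -1, -1, 1]), (1, [0, 0, 0, 0, 0, 0, 1]), (1, [0, 0, 0, 0, 0, 0, 0, 0, 1])]),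
  ([(0, 9), (2, 26), (4, 33), (6, 151)], .none 7 2 [0, -1, -2, -1, 0, -1, 0, 1] 3),
  ([(0, 9), (2, 26), (4, 33), (6, 235)], .rep [5, 85, 20, 232, 30, 33, 24, 26] 9 [(1, [1]), (1, [-1, 1]), (1, [0, 0, 1]), (1, [1, -1, -1, 1]), (1, [0, 0, 0, 0, 1]), (1, [-1, 1, 1, -1, -1, 1]), (1, [0, 0, 0, 0, 0, 0, 1]), (3, [-1, -1, -3, -3, -2, -2, -1, -1])]),
  ([(0, 9), (2, 26), (4, 156)], .next 5 [(21, [(238, 0)], 799)]),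
  ([(0, 9), (2, 26), (4, 156), (5, 21)], .rep [18, 234, 2, 230, 39, 206] 9 [(1, [1]), (1, [-1, 1]), (1, [0, 0, 1]), (1, [1, -1, -1, 1]), (1, [0, 0, 0, 0, 1]), (1, [0, 0, 0, 0, 0, 0, 1]), (1, [0, 0, 0, 0, 0, 0, 0, -1]), (1, [-1, 0, -1, -2, -2, -1, -1])]),
  ([(0, 9), (2, 43)], .next 3 [(15, [], 801), (22, [], 810), (150, [(6, 0), (20, 0), (234, 0), (236, 0), (234, 1)], 819)]),
  ([(0, 9), (2, 43), (3, 15)], .next 4 [(16, [], 802), (33, [(6, 0), (236, 0)], 807)]),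
  ([(0, 9), (2, 43), (3, 15), (4, 16)], .next 5 [(5, [], 803), (20, [(238, 0)], 806)]),
  ([(0, 9), (2, 43), (3, 15), (4, 16), (5, 5)], .next 6 [(6, [], 804), (237, [], 805)]),
  ([(0, 9), (2, 43), (3, 15), (4, 16), (5, 5), (6, 6)], .rep [35, 207, 2, 7, 24, 27] 6 [(1, [1]), (1, [-1, 1]), (1, [0, 0, 1]), (1, [0, 0, 0, 0, 1]), (1, [0, 0, 0, 0, 0, 0, 1]), (1, [0, 0, 0, 0, 0, 0, 0, 0, 1]), (1, [0, 0, 0, 0, 0, 0, 0, 0, 0, 0, 1]), (1, [1, -1, -1, 1, -1])]),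
  ([(0, 9), (2, 43), (3, 15), (4, 16), (5, 5), (6, 237)], .rep [18, 35, 207, 2, 7, 24, 27] 9 [(1, [1]), (1, [-1, 1]), (1, [0, 0, 1]), (1, [0, 0, 0, 0, 1]), (1, [0, 0, 0, 0, 0, 0, 1]), (1, [0, 0, 0, 0, 0, 0, 0, 0, 1]), (1, [0, 0, 0, 0, 0, 0, 0, 0, 0, 0, 1]), (1, [1, -1, -1, 1, -1])]),
  ([(0, 9), (2, 43), (3, 15), (4, 16), (5, 20)], .rep [18, 111, 35, 224, 2, 14, 0, 9] 9 [(1, [1]), (1, [-1, 1]), (1, [0, 0, 1]), (1, [0, 0, 0, 0, 1]), (1, [0, 0, 0, 0, 0, 0, 1]), (1, [0, 0, 0, 0, 0, 0, 0, 0, 1]), (1, [0, 0, 0, 0, 0, 0, 0, 0, -1, 1]), (1, [1, -1, -1, 1, -1])]),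
  ([(0, 9), (2, 43), (3, 15), (4, 33)], .next 6 [(20, [], 808), (235, [], 809)]),
  ([(0, 9), (2, 43), (3, 15), (4, 33), (6, 20)], .rep [85, 162, 6, 178, 30, 113, 24, 27] 9 [(1, [1]), (1, [-1, 1]), (1, [0, 0, 1]), (1, [0, 0, 0, 0, 1]), (1, [0, 0, 0, 0, 0, 0, 1]), (1, [0, 0, 0, 0, -1, 0, -1, 1]), (1, [0, 0, 0, 0, 0, 0, 0, 0, 1]), (1, [1, -1, -1, 1, -1])]),
  ([(0, 9), (2, 43), (3, 15), (4, 33), (6, 235)], .rep [122, 236, 16, 126, 187] 7 [(1, [1]), (1, [-1, 1]), (1, [0, 0, 1]), (1, [0, 0, 0, 0, 1]), (1, [0, 0, 0, 0, 0, 0, 1]), (1, [0, 0, 0, 0, -1, 0, -1, 1]), (1, [0, 0, 0, 0, 0, 0, 0, 0, 1]), (1, [1, -1, -1, 1, -1])]),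
  ([(0, 9), (2, 43), (3, 22)], .next 4 [(134, [], 811), (144, [(6, 0), (236, 0)], 816)]),
  ([(0, 9), (2, 43), (3, 22), (4, 134)], .next 5 [(19, [], 812), (36, [(238, 0)], 815)]),
  ([(0, 9), (2, 43), (3, 22), (4, 134), (5, 19)], .next 6 [(21, [], 813), (236, [], 814)]),
  ([(0, 9), (2, 43), (3, 22), (4, 134), (5, 19), (6, 21)], .rep [35, 207, 3, 27] 7 [(1, [1]), (1, [-1, 1]), (1, [0, 0, 1]), (1, [0, 0, 0, 0, 1]), (1, [0, 0, 0, 0, 0, 0, 1]), (1, [0, 0, 0, 0, 0, 0, 0, 0, 1]), (1, [0, 0, 0, 0, 0, 0, 0, 0, 0, 0, 1]), (1, [1, -1, -1, 1, -1])]),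
  ([(0, 9), (2, 43), (3, 22), (4, 134), (5, 19), (6, 236)], .rep [18, 85, 6, 178, 30, 113, 11, 117] 9 [(1, [1]), (1, [-1, 1]), (1, [0, 0, 1]), (1, [0, 0, 0, 0, 1]), (1, [0, 0, 0, 0, 0, 0, 1]), (1, [0, 0, 0, 0, 0, 0, 0, 0, 1]), (1, [0, 0, 0, 0, 0, 0, 0, 0, 0, 0, 1]), (1, [1, -1, -1, 1, -1])]),
  ([(0, 9), (2, 43), (3, 22), (4, 134), (5, 36)], .rep [31, 85, 122, 207, 16, 126, 24, 201] 9 [(1, [1]), (1, [-1, 1]), (1, [0, 0, 1]), (1, [0, 0, 0, 0, 1]), (1, [0, 0, 0, 0, 0, 0, 1]), (1, [0, 0, 0, 0, 0, 0, 0, 0, 1]), (1, [0, 0, 0, 0, 0, 0, 0, 0, -1, -1]), (1, [1, -1, -1, 1, -1])]),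
  ([(0, 9), (2, 43), (3, 22), (4, 144)], .next 6 [(36, [], 817), (234, [], 818)]),
  ([(0, 9), (2, 43), (3, 22), (4, 144), (6, 36)], .rep [31, 170, 236, 138, 73, 221] 9 [(1, [1]), (1, [-1, 1]), (1, [0, 0, 1]), (1, [0, 0, 0, 0, 1]), (1, [0, 0, 0, 0, 0, 0, 1]), (1, [0, -1, -2, -1, -1, 0, -1, -1]), (1, [0, 0, 0, 0, 0, 0, 0, 0, 1]), (1, [1, -1, -1, 1, -1])]),
  ([(0, 9), (2, 43), (3, 22), (4, 144), (6, 234)], .rep [35, 207, 2, 11, 117] 6 [(1, [1]), (1, [-1, 1]), (1, [0, 0, 1]), (1, [0, 0, 0, 0, 1]), (1, [0, 0, 0, 0, 0, 0, 1]), (1, [0, -1, -2, -1, -1, 0, -1, -1]), (1, [0, 0, 0, 0, 0, 0, 0, 0, 1]), (1, [1, -1, -1, 1, -1])]),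
  ([(0, 9), (2, 43), (3, 150)], .next 4 [(49, [(238, 0)], 820)]),
  ([(0, 9), (2, 43), (3, 150), (4, 49)], .rep [18, 85, 6, 176, 30, 113, 11, 141] 9 [(1, [1]), (1, [-1, 1]), (1, [0, 0, 1]), (1, [0, 0, 0, 0, 1]), (1, [0, 0, 0, 0, 0, 0, 1]), (1, [0, -1, -2, -1, -1, 1, -2]), (1, [0, 1, 2, 1, 0, -1, 1, 1]), (1, [1, -1, -1, 1, -1])])]

/-- All nodes. -/
def invTree : List Node := invTree0 ++ invTree1 ++ invTree2 ++ invTree3 ++ invTree4 ++ invTree5 ++ invTree6 ++ invTree7 ++ invTree8 ++ invTree9 ++ invTree10 ++ invTree11 ++ invTree12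

/-- Part 0. -/
def cxTree0 : List Node := [
  ([], .next 0 [(2, [(2, 0), (3, 0), (7, 0), (13, 0), (14, 0), (16, 0), (30, 0), (33, 0), (46, 0), (49, 0), (62, 0), (113, 0), (124, 0), (126, 0), (135, 0), (137, 0), (138, 0), (147, 0), (148, 0), (150, 0), (158, 0), (160, 0), (169, 0), (171, 0), (177, 0), (179, 0), (185, 0), (186, 0), (192, 0), (193, 0), (200, 0), (228, 0), (230, 0), (3, 1), (7, 1), (13, 1), (14, 1), (16, 1), (30, 1), (33, 1), (46, 1), (49, 1), (62, 1), (113, 1), (124, 1), (126, 1), (135, 1), (137, 1), (138, 1), (147, 1), (148, 1), (150, 1), (158, 1), (160, 1), (169, 1), (171, 1), (177, 1), (179, 1), (185, 1), (186, 1), (192, 1), (193, 1), (200, 1), (228, 1), (230, 1), (7, 2), (30, 2), (46, 2), (62, 2), (126, 2), (137, 2), (138, 2), (147, 2), (148, 2), (160, 2),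 (179, 2), (186, 2), (192, 2), (193, 2), (228, 2), (16, 3), (33, 3), (49, 3), (113, 3), (124, 3), (135, 3), (138, 3), (148, 3), (160, 3), (179, 3), (186, 3), (193, 3), (200, 3), (230, 3), (14, 4), (16, 4), (33, 4), (49, 4), (113, 4), (124, 4), (135, 4), (200, 4), (230, 4), (30, 5), (46, 5), (62, 5), (126, 5), (137, 5), (147, 5), (192, 5), (228, 5), (46, 6), (62, 6), (126, 6), (228, 6), (33, 7), (49, 7), (113, 7), (230, 7), (62, 8), (228, 8), (49, 9), (230, 9), (228, 10), (230, 11)], 1)]),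
  ([(0, 2)], .next 1 [(54, [(4, 0), (18, 0), (35, 0), (139, 0), (151, 0), (159, 0), (184, 0), (232, 0), (139, 1)], 2)]),
  ([(0, 2), (1, 54)], .next 3 [(125, [(6, 0), (20, 0), (234, 0), (236, 0), (234, 1)], 3)]),
  ([(0, 2), (1, 54), (3, 125)], .next 4 [(122, [(238, 0)], 4)]),
  ([(0, 2), (1, 54), (3, 125), (4, 122)], .rep [] 0 [(1, [1]), (1, [0, 0, 1]), (1, [0, 1]), (1, [0, 0, 0, 0, 1]), (1, [0, 0, 0, 0, 0, 0, 1]), (1, [0, -1, 0, -1, -1, 1, -2]), (1, [0, 0, -1, 0, 1, -1, 1, 1]), (1, [-1, -1, -1, 1, -1])])]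

/-- All nodes. -/
def cxTree : List Node := cxTree0

theorem invTree_ok : treeB true invReps invTree = true := by decide +kernel

theorem cxTree_ok : treeB false [p0Word] cxTree = true := by decide +kernel

end Cfsg.Agent.O8Standard
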