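import Cfsg.Agent.Lib.O8Standard.FrameTree

/-!
# Equations between words, representatives and small lemmas

* `eq_of_eqW`, `eq_neg_of_eqNegW` : equations from the action on simple roots
* `involution_cases`, `complex_cases` : the classes of `W` used
* `sU_eq_cases`, `sU_commute_cases` : reflections up to sign
* `fix_of_pair` : perfect groups fix invariant pairs
-/

set_option autoImplicit false
set_option maxRecDepth 100000

namespace Cfsg.Agent.O8Standard

open Cfsg.Agent.Multiplier
open scoped commutatorElement

/-- The letters are roots. -/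
def okW (l : List ℕ) : Bool := l.all fun k => Nat.blt k 240

/-- A word of even length. -/
def evenW (l : List ℕ) : Bool := okW l && Nat.beq (Nat.mod l.length 2) 0

/-- The words agree. -/
def eqW (l m : List ℕ) : Bool := okW l && okW m && allLt 8 fun k => Nat.beq (evR l k) (evR m k)

/-- The words agree up to `-1`. -/
def eqNegW (l m : List ℕ) : Bool :=
  okW l && okW m && allLt 8 fun k => Nat.beq (evR l k) (negN (evR m k))

/-- The words commute. -/
def comW (l m : List ℕ) : Bool := eqW (l ++ m) (m ++ l)

theorem okW_spec {l : List ℕ} (h : okW l = true) : ∀ k ∈ l, k < 240 := by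
  simpa [okW, List.all_eq_true] using h

theorem W_of_ok {l : List ℕ} (h : okW l = true) : rprod l ∈ W := rprod_mem (okW_spec h)

theorem M1_of_even {l : List ℕ} (h : evenW l = true) : rprod l ∈ M1 := by
  simp only [evenW, Bool.and_eq_true, Nat.beq_eq] at h
  exact (rprod_mem_M1_iff (okW_spec h.1)).2 (Nat.even_iff.2 h.2)

theorem eq_of_eqW {l m : List ℕ} (h : eqW l m = true) : rprod l = rprod m := by
  simp only [eqW, Bool.and_eq_true] at h
  refine ext_img (W_of_ok h.1.1) (W_of_ok h.1.2) fun k hk => ?_
  rw [img_rprod (okW_spec h.1.1) (by omega), img_rprod (okW_spec h.1.2) (by omega)]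
  exact Nat.eq_of_beq_eq_true (allLt_spec h.2 k hk)

theorem eq_neg_of_eqNegW {l m : List ℕ} (h : eqNegW l m = true) : rprod l = -rprod m := by
  simp only [eqNegW, Bool.and_eq_true] at h
  have hm := W_of_ok h.1.2
  rw [← neg_one_mul]
  refine ext_img (W_of_ok h.1.1) (mul_mem negOne_mem hm) fun k hk => ?_
  rw [img_mul negOne_mem hm (by omega), img_negOne (img_lt hm (by omega)),
    img_rprod (okW_spec h.1.1) (by omega), img_rprod (okW_spec h.1.2) (by omega)]
  exact Nat.eq_of_beq_eq_true (allLt_spec h.2 k hk)

theorem comm_of_comW {l m : List ℕ} (h : comW l m = true) : rprod l * rprod m = rprod m * rprod l := by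
  rw [← rprod_append, ← rprod_append, eq_of_eqW h]

theorem rprod_inv (l : List ℕ) : (rprod l)⁻¹ = rprod l.reverse := by
  induction l with
  | nil => simp
  | cons k l ih =>
    rw [rprod_cons, _root_.mul_inv_rev, ih, List.reverse_cons, rprod_append, sU_inv]
    simp [rprod]

theorem conj_eq_of_eqW {v x y : List ℕ} (h : eqW (v ++ x) (y ++ v) = true) :
    rprod v * rprod x * (rprod v)⁻¹ = rprod y := by
  rw [mul_inv_eq_iff_eq_mul, ← rprod_append, ← rprod_append, eq_of_eqW h]

/-- The word of a reflection. -/
def bS : List ℕ := [0]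
/-- The word of a product of two orthogonal reflections. -/
def bA : List ℕ := [0, 2]
/-- The word of a product of three orthogonal reflections. -/
def b3 : List ℕ := [0, 2, 238]
/-- The word of the first class of products of four orthogonal reflections. -/
def bD : List ℕ := [0, 2, 238, 161]
/-- The word of the second class of products of four orthogonal reflections. -/
def bE : List ℕ := [0, 2, 238, 111]

theorem reps_shape : invReps = [[], FR, bS, FR ++ bS, bA, FR ++ bA, b3, FR ++ b3, bD, bE] ∧
    FR.take 3 = b3 := by decide +kernel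

theorem base_facts :
    (evenW bA && evenW bD && evenW bE && evenW p0Word && okW bS && okW b3 && eqNegW FR [] &&
      eqNegW (p0Word ++ p0Word) [] && comW bA bS && comW b3 bS && comW bD bS && comW bE bS &&
      eqW (b3 ++ b3) [] && eqW (bA ++ bA) [] && eqW (bD ++ bD) [] && eqW (bE ++ bE) [] &&
      okW FR && Nat.beq FR.length 8) = true := by
  decide +kernel

theorem rprod_FR : rprod FR = -1 := by
  have h : eqNegW FR [] = true := by decide +kernel
  rw [eq_neg_of_eqNegW h, rprod_nil]

theorem rprod_bS : rprod bS = sU 0 := by simp [bS, rprod]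

/-- The classes of involutions of `W` up to sign. -/
theorem involution_cases {w : O8.Z8ˣ} (hw : w ∈ W) (h : w * w = 1) :
    ∃ v ∈ W, ∃ b ∈ [[], bS, bA, b3, bD, bE],
      v * w * v⁻¹ = rprod b ∨ v * w * v⁻¹ = -rprod b := by
  obtain ⟨v, hv, m, hm, e⟩ := classify invTree_ok hw (by rw [if_pos rfl]; exact h)
  refine ⟨v, hv, ?_⟩
  rw [e, reps_shape.1]
  rw [reps_shape.1] at hm
  simp only [List.length_cons, List.length_nil] at hm
  interval_cases m <;> simp only [List.getD_cons_zero, List.getD_cons_succ, rprod_append, rprod_FR,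
    neg_one_mul]
  · exact ⟨[], by simp, .inl rfl⟩
  · exact ⟨[], by simp, .inr (by rw [rprod_nil])⟩
  · exact ⟨bS, by simp, .inl rfl⟩
  · exact ⟨bS, by simp, .inr rfl⟩
  · exact ⟨bA, by simp, .inl rfl⟩
  · exact ⟨bA, by simp, .inr rfl⟩
  · exact ⟨b3, by simp, .inl rfl⟩
  · exact ⟨b3, by simp, .inr rfl⟩
  · exact ⟨bD, by simp, .inl rfl⟩
  · exact ⟨bE, by simp, .inl rfl⟩

/-- The square roots of `-1` form one class. -/
theorem complex_cases {w : O8.Z8ˣ} (hw : w ∈ W) (h : w * w = -1) :
    ∃ v ∈ W, v * w * v⁻¹ = rprod p0Word := by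
  obtain ⟨v, hv, m, hm, e⟩ := classify cxTree_ok hw (by rw [if_neg (by simp)]; exact h)
  simp only [List.length_cons, List.length_nil] at hm
  interval_cases m
  exact ⟨v, hv, e⟩

theorem mem_M1_of_sq_negOne {w : O8.Z8ˣ} (hw : w ∈ W) (h : w * w = -1) : w ∈ M1 := by
  obtain ⟨v, hv, e⟩ := complex_cases hw h
  have hp : rprod p0Word ∈ M1 := M1_of_even (by decide +kernel)
  have := conj_mem_M1 (inv_mem hv) hp
  rwa [← e, show v⁻¹ * (v * w * v⁻¹) * v⁻¹⁻¹ = w by group] at this

/-- Separation of reflections. -/
def sepB : Bool :=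
  allLt 240 fun a => allLt 240 fun b =>
    (Nat.beq b a || Nat.beq b (negN a) || !allLt 8 fun k => Nat.beq (refN a k) (refN b k)) &&
      !(allLt 8 fun k => Nat.beq (refN b k) (negN (refN a k)))

/-- Reflections that commute up to sign. -/
def comSepB : Bool :=
  allLt 240 fun a => allLt 240 fun b =>
    Nat.beq (ipN a b) 2 || Nat.beq b a || Nat.beq b (negN a) ||
      (!(allLt 8 fun k => Nat.beq (refN a (refN b k)) (refN b (refN a k))) &&
        !(allLt 8 fun k => Nat.beq (refN a (refN b k)) (negN (refN b (refN a k)))))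

theorem sepB_ok : sepB = true := by decide +kernel

theorem comSepB_ok : comSepB = true := by decide +kernel

theorem allLt_of {n : ℕ} {p : ℕ → Bool} (h : ∀ i < n, p i = true) : allLt n p = true := by
  induction n with
  | zero => rfl
  | succ n ih => simp [allLt, h n (by omega), ih fun i hi => h i (by omega)]

theorem sU_eq_cases {a b : ℕ} (ha : a < 240) (hb : b < 240) (h : sU a = sU b ∨ sU a = -sU b) :
    b = a ∨ b = negN a := by
  have hs := allLt_spec (allLt_spec sepB_ok a ha) b hb
  simp only [Bool.and_eq_true, Bool.or_eq_true, Nat.beq_eq, Bool.not_eq_true'] at hs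
  rcases h with h | h
  · rcases hs.1 with (e | e) | e
    · exact .inl e
    · exact .inr e
    · exfalso
      rw [allLt_of] at e
      · cases e
      intro k hk
      rw [Nat.beq_eq, ← img_sU ha (show k < 240 by omega), h, img_sU hb (by omega)]
  · exfalso
    have e := hs.2
    rw [allLt_of] at e
    · cases e
    intro k hk
    have h' : sU b = -1 * sU a := by rw [h, neg_one_mul, neg_neg]
    rw [Nat.beq_eq, ← img_sU hb (show k < 240 by omega), h', img_mul negOne_mem (sU_mem a ha) (by omega),
      img_negOne (img_lt (sU_mem a ha) (by omega)), img_sU ha (by omega)]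

theorem sU_commute_cases {a b : ℕ} (ha : a < 240) (hb : b < 240)
    (h : sU a * sU b = sU b * sU a ∨ sU a * sU b = -(sU b * sU a)) :
    ipN a b = 2 ∨ b = a ∨ b = negN a := by
  have hs := allLt_spec (allLt_spec comSepB_ok a ha) b hb
  simp only [Bool.and_eq_true, Bool.or_eq_true, Nat.beq_eq, Bool.not_eq_true'] at hs
  rcases hs with ((e | e) | e) | ⟨e1, e2⟩
  · exact .inl e
  · exact .inr (.inl e)
  · exact .inr (.inr e)
  exfalso
  have hab : ∀ k < 240, img (sU a * sU b) k = refN a (refN b k) := fun k hk => by
    rw [img_mul (sU_mem a ha) (sU_mem b hb) hk, img_sU hb hk, img_sU ha (refN_lt hb hk)]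
  have hba : ∀ k < 240, img (sU b * sU a) k = refN b (refN a k) := fun k hk => by
    rw [img_mul (sU_mem b hb) (sU_mem a ha) hk, img_sU ha hk, img_sU hb (refN_lt ha hk)]
  rcases h with h | h
  · rw [allLt_of] at e1
    · cases e1
    intro k hk
    rw [Nat.beq_eq, ← hab k (by omega), h, hba k (by omega)]
  · rw [allLt_of] at e2
    · cases e2
    intro k hk
    rw [Nat.beq_eq, ← hab k (by omega), h, ← neg_one_mul,
      img_mul negOne_mem (mul_mem (sU_mem b hb) (sU_mem a ha)) (by omega),
      img_negOne (img_lt (mul_mem (sU_mem b hb) (sU_mem a ha)) (by omega)), hba k (by omega)]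

theorem sU_negN {a : ℕ} (ha : a < 240) : sU (negN a) = sU a := by
  refine Units.ext ?_
  rw [sU_val ha, sU_val (negN_lt ha), sM, sM, rv_negN ha, Matrix.mulVec_neg, Matrix.vecMulVec_neg,
    Matrix.neg_vecMulVec, neg_neg]

theorem sU_commute_of_orth {a b : ℕ} (ha : a < 240) (hb : b < 240) (h : ipN a b = 2) :
    sU a * sU b = sU b * sU a := by
  have e := conj_sU (sU_mem a ha) hb
  rw [img_sU ha hb, refN_fix ha hb h, mul_inv_eq_iff_eq_mul] at e
  exact e

/-- A perfect group acting on an invariant pair fixes it. -/
theorem fix_of_pair {H : Type*} [Group H] (hperf : commutator H = ⊤) {α : Type*} (act : H → α → α)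
    {a b : α} (hone : ∀ x, x = a ∨ x = b → act 1 x = x)
    (hmul : ∀ g h x, x = a ∨ x = b → act (g * h) x = act g (act h x))
    (hmem : ∀ h x, x = a ∨ x = b → act h x = a ∨ act h x = b) (h : H) : act h a = a := by
  classical
  by_cases hab : a = b
  · subst hab
    exact (hmem h a (.inl rfl)).elim id id
  have hinj : ∀ g, act g a ≠ act g b := fun g e => by
    have := congrArg (act g⁻¹) e
    rw [← hmul _ _ _ (.inl rfl), ← hmul _ _ _ (.inr rfl), inv_mul_cancel, hone _ (.inl rfl),
      hone _ (.inr rfl)] at this
    exact hab this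
  let f : H →* Multiplicative (ZMod 2) :=
    MonoidHom.mk' (fun g => Multiplicative.ofAdd (if act g a = a then 0 else 1)) fun g k => by
      rw [← ofAdd_add]
      congr 1
      have hg : act g a = a → act g b = b := fun e => (hmem g b (.inr rfl)).resolve_left fun e' => hinj g (e.trans e'.symm)
      have hg' : act g a ≠ a → act g b = a := fun e => (hmem g b (.inr rfl)).resolve_right fun e' => hinj g (((hmem g a (.inl rfl)).resolve_left e).trans e'.symm)
      rw [hmul g k a (.inl rfl)]
      by_cases hk : act k a = a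
      · rw [hk, if_pos (rfl : a = a)]; simp
      · rw [(hmem k a (.inl rfl)).resolve_left hk, if_neg (Ne.symm hab)]
        by_cases he : act g a = a
        · rw [hg he, if_pos he, if_neg (Ne.symm hab)]; decide
        · rw [hg' he, if_neg he, if_pos rfl]; decide
  have h1 : f h = 1 := Abelianization.commutator_subset_ker f (hperf ▸ Subgroup.mem_top h)
  by_contra hne
  have h2 : Multiplicative.toAdd (f h) = 1 := by simp [f, hne]
  rw [h1] at h2
  exact absurd h2 (by decide)

end Cfsg.Agent.O8Standard
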